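import Cfsg.Agent.SM.Alt.Defs
import Cfsg.Agent.SM.Mat.Tool
import Cfsg.Agent.TAB.McL.Main
import Cfsg.Agent.H49.CoStab
import Cfsg.Agent.H894.Derange
import Cfsg.Agent.S0157
import Cfsg.Agent.Characters.GaloisBasic

/-!
# SM (S3570): `Co₃` has one 2-transitive action of degree 276 (helper31)
-/

set_option autoImplicit false
set_option maxHeartbeats 400000

namespace Cfsg.Agent.SM.Alt.Co

open Cfsg Subgroup MulAction Cfsg.Agent.Characters Cfsg.Agent.TAB.Use

/-- the permutation character on the cosets of `W` in terms of an enumeration of the irreducible characters -/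
theorem perm_dec {G : Type} [Group G] [Finite G] {n : ℕ} {d : ℕ → ℕ} {χ : ℕ → G → ℂ} (h : Enum G n d χ)
    (W : Subgroup G) : ∃ m : ℕ → ℕ,
      (∀ g, (Nat.card (fixedBy (G ⧸ W) g) : ℂ) = ∑ j ∈ Finset.range n, m j * χ j g) ∧
      W.index = ∑ j ∈ Finset.range n, m j * d j ∧ ∃ j, j < n ∧ χ j = 1 ∧ d j = 1 ∧ m j = 1 := by
  classical
  have := Fintype.ofFinite G
  have := Core.finite_irr (G := G)
  have : Fintype (IrrCharacter G) := Fintype.ofFinite _
  obtain ⟨c, hc⟩ := Core.exists_nat_comb (S0157.isCharacter_fixedBy (G := G) (G ⧸ W))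
  let m : ℕ → ℕ := fun j => if hj : j < n then c ⟨χ j, h.irr j hj⟩ else 0
  have h1 : ∀ g, (Nat.card (fixedBy (G ⧸ W) g) : ℂ) = ∑ j ∈ Finset.range n, m j * χ j g := fun g => by
    rw [congrFun hc g, Finset.sum_apply]
    refine (Finset.sum_bij (fun j hj => ⟨χ j, h.irr j (Finset.mem_range.1 hj)⟩) (fun _ _ => Finset.mem_univ _)
      (fun i hi j hj e => h.inj i (Finset.mem_range.1 hi) j (Finset.mem_range.1 hj) (congrArg Subtype.val e))
      (fun ψ _ => ?_) fun j hj => ?_).symm
    · obtain ⟨j, hj, e⟩ := h.all ψ.1 ψ.2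
      exact ⟨j, Finset.mem_range.2 hj, Subtype.ext e.symm⟩
    · simp only [m, dif_pos (Finset.mem_range.1 hj), Pi.smul_apply, nsmul_eq_mul]
  refine ⟨m, h1, ?_, ?_⟩
  · have h2 := h1 1
    rw [fixedBy_one_eq_univ, Nat.card_univ, Finset.sum_congr rfl fun j hj => by rw [h.deg j (Finset.mem_range.1 hj)]] at h2
    exact_mod_cast h2
  · obtain ⟨j, hj, e⟩ := h.all 1 Core.isIrr_one
    refine ⟨j, hj, e.symm, ?_, ?_⟩
    · have h2 := h.deg j hj
      rw [← e, Pi.one_apply] at h2
      exact_mod_cast h2.symm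
    · have h2 := Core.classInner_sum_nsmul_irr c ⟨χ j, h.irr j hj⟩
      rw [← hc, Core.classInner_def] at h2
      simp only [← e, Pi.one_apply, map_one, mul_one] at h2
      rw [← Nat.cast_sum, H894.sum_fix inferInstance, inv_mul_cancel₀ Core.card_ne_zero_complex] at h2
      simp only [m, dif_pos hj, ← e]
      exact_mod_cast h2.symm

theorem exists_der {G : Type} [Group G] [Finite G] (W : Subgroup G) (h : W.index ≠ 1) :
    ∃ g : G, Nat.card (fixedBy (G ⧸ W) g) = 0 := by
  have := Fintype.ofFinite G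
  by_contra hn
  push Not at hn
  have h1 : ∑ _g : G, 1 < ∑ g : G, Nat.card (fixedBy (G ⧸ W) g) :=
    Finset.sum_lt_sum (fun g _ => Nat.pos_of_ne_zero (hn g)) ⟨1, Finset.mem_univ _, by
      have h2 := hn 1
      rw [fixedBy_one_eq_univ, Nat.card_univ] at h2 ⊢
      exact lt_of_le_of_ne (Nat.pos_of_ne_zero h2) (Ne.symm h)⟩
  rw [H894.sum_fix inferInstance, Finset.sum_const, Finset.card_univ, smul_eq_mul, mul_one,
    Nat.card_eq_fintype_card] at h1
  exact lt_irrefl _ h1

set_option synthInstance.maxSize 2000 in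
theorem num : ∀ a, a < 13 → ∀ b, b < 2 → ∀ c, c < 2 → 1 + a * 22 + b * 231 + c * 252 ≤ 276 →
    1 + a * 22 + b * 231 + c * 252 ∣ 898128000 → ¬ 5 ∣ 1 + a * 22 + b * 231 + c * 252 →
    1 + a * 22 + b * 231 + c * 252 = 1 ∨ (a = 11 ∧ b = 0 ∧ c = 0) := by decide +kernel

/-- `McL` has no proper subgroup of index at most `276` prime to `5` -/
theorem small {K : Type} [Group K] [Finite K] (hK : Nat.card K = 898128000) (h : DegList K TAB.McL.degL)
    (W : Subgroup K) (h1 : W.index ≤ 276) (h5 : ¬ 5 ∣ W.index) : W = ⊤ := by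
  obtain ⟨χ, h⟩ := h
  obtain ⟨m, h2, h3, j, hj, h4, h6, h7⟩ := perm_dec h W
  have h8 : ∀ j, j < 24 → TAB.McL.degL.getD j 0 = 1 → j = 0 := by decide
  obtain rfl := h8 j hj h6
  have h9 : ∀ j, j < 24 → 4 ≤ j → 277 ≤ TAB.McL.degL.getD j 0 := by decide
  have hz : ∀ j ∈ Finset.range 24, j ∉ Finset.range 4 → m j = 0 := fun j hj hj' => by
    have a1 : m j * TAB.McL.degL.getD j 0 ≤ W.index := h3 ▸
      Finset.single_le_sum (f := fun j => m j * TAB.McL.degL.getD j 0) (fun _ _ => Nat.zero_le _) hj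
    have a2 := h9 j (Finset.mem_range.1 hj) (by simpa using hj')
    by_contra a3
    have := Nat.mul_le_mul (Nat.pos_of_ne_zero a3) a2
    omega
  have hs : Finset.range 4 ⊆ Finset.range 24 := Finset.range_subset_range.2 (by norm_num)
  have e3 : W.index = 1 + m 1 * 22 + m 2 * 231 + m 3 * 252 := by
    rw [h3, show TAB.McL.degL.length = 24 from rfl,
      ← Finset.sum_subset hs fun j hj hj' => by rw [hz j hj hj', Nat.zero_mul]]
    simp only [Finset.sum_range_succ, Finset.sum_range_zero, h7]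
    rfl
  have hd : W.index ∣ 898128000 := hK ▸ W.index_dvd_card
  have hc : W.index = 1 ∨ (m 1 = 11 ∧ m 2 = 0 ∧ m 3 = 0) := by
    rw [e3] at h1 h5 hd ⊢
    exact num _ (by omega) _ (by omega) _ (by omega) h1 hd h5
  rcases hc with hc | ⟨c1, c2, c3⟩
  · exact index_eq_one.1 hc
  · exfalso
    obtain ⟨g, hg⟩ := exists_der W (by omega)
    have a1 := h2 g
    rw [hg, show TAB.McL.degL.length = 24 from rfl,
      ← Finset.sum_subset hs fun j hj hj' => by rw [hz j hj hj', Nat.cast_zero, zero_mul]] at a1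
    simp only [Finset.sum_range_succ, Finset.sum_range_zero, h7, c1, c2, c3, h4, Pi.one_apply] at a1
    have a2 : χ 1 g = algebraMap ℚ ℂ (-1 / 11) := by
      rw [eq_ratCast]
      push_cast at a1 ⊢
      linear_combination (-1 / 11) * a1
    have a3 := GaloisBasic.isIntegral_apply (Core.isIrr_isCharacter (h.irr 1 (by decide))) g
    rw [a2, isIntegral_algebraMap_iff (algebraMap ℚ ℂ).injective, IsIntegrallyClosed.isIntegral_iff] at a3
    obtain ⟨y, hy⟩ := a3
    have a4 : (y : ℚ) * 11 = -1 := by rw [← eq_intCast (algebraMap ℤ ℚ), hy]; norm_num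
    have a5 : y * 11 = -1 := by exact_mod_cast a4
    omega

/-- a point stabiliser is the normaliser of `U` -/
theorem stab {T : Type} [Group T] [Finite T] [IsSimpleGroup T] (hT : Nat.card T = 495766656000) (U : Subgroup T)
    (hU : Nat.card U = 898128000) (hD : DegList U TAB.McL.degL) {Δ : Type} [MulAction T Δ] (h : Act T Δ 276) :
    ∃ a : Δ, stabilizer T a = normalizer (U : Set T) := by
  have := h.fin
  have : Fact (Nat.Prime 5) := ⟨by norm_num⟩
  have : Nontrivial Δ := Finite.one_lt_card_iff_nontrivial.1 (by rw [h.card]; norm_num)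
  have : IsPretransitive T Δ := ⟨fun x y => by
    obtain ⟨x', hx⟩ := exists_ne x
    obtain ⟨y', hy⟩ := exists_ne y
    obtain ⟨t, ht, -⟩ := h.two x x' y y' hx.symm hy.symm
    exact ⟨t, ht⟩⟩
  have hi : ∀ a : Δ, (stabilizer T a).index = 276 := fun a => (index_stabilizer_of_transitive T a).trans h.card
  obtain ⟨a0⟩ : Nonempty Δ := inferInstance
  obtain ⟨P⟩ : Nonempty (Sylow 5 U) := inferInstance
  obtain ⟨g, hg⟩ := conj_le (p := 5) (P := (P : Subgroup U).map U.subtype) (U := U) (V := stabilizer T a0)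
    (P.isPGroup'.map _) (map_subtype_le _) (by rw [hi]; norm_num) fun W h1 h2 h3 => by
      rw [hi] at h3
      exact le_antisymm h2 (subgroupOf_eq_top.1 (small hU hD _ h3 fun h5 =>
        P.not_dvd_index (h5.trans (index_dvd_of_le (map_le_iff_le_comap.1 h1)))))
  have hle : U ≤ stabilizer T (g • a0) := fun u hu => by
    have h1 : (g⁻¹ * u * g) • a0 = a0 := hg u hu
    rw [mul_smul, mul_smul, inv_smul_eq_iff] at h1
    exact h1
  have hN : stabilizer T (g • a0) ≤ normalizer (U : Set T) := by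
    have h1 := relIndex_mul_index hle
    have h2 := U.card_mul_index
    rw [hU, hT] at h2
    rw [hi] at h1
    exact (normal_subgroupOf_iff_le_normalizer hle).1 (normal_of_index_eq_two (show U.relIndex _ = 2 by omega))
  refine ⟨g • a0, le_antisymm hN fun n hn => ?_⟩
  · by_contra hn'
    have h1 : normalizer (U : Set T) = ⊤ := eq_top_iff.2 fun t _ => by
      by_cases ht : t • g • a0 = g • a0
      · exact hN ht
      · obtain ⟨s, hs1, hs2⟩ := h.two (g • a0) (n • g • a0) (g • a0) (t • g • a0) (Ne.symm hn') (Ne.symm ht)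
        have h2 : t⁻¹ * (s * n) ∈ stabilizer T (g • a0) := by
          rw [mem_stabilizer_iff, mul_smul, mul_smul, hs2, inv_smul_smul]
        exact inv_mem_iff.1 ((mul_mem_cancel_right (mul_mem (hN hs1) hn)).1 (hN h2))
    rcases (normalizer_eq_top_iff.1 h1).eq_bot_or_eq_top with h2 | h2
    · rw [h2, card_bot] at hU
      omega
    · rw [h2, card_top, hT] at hU
      omega

end Cfsg.Agent.SM.Alt.Co

namespace Cfsg.Agent.SM.Alt

open Cfsg

/-- **`Co₃` of degree 276** -/
theorem boxCo : BoxCo := by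
  rintro T _ ⟨e⟩ Δ₁ Δ₂ _ _ h1 h2
  have := H49.CoStab.finite_co3
  have := H49.CoStab.simple_co3
  have : Finite T := Finite.of_equiv _ e.symm.toEquiv
  have : IsSimpleGroup T := e.isSimpleGroup
  have hT : Nat.card T = 495766656000 := (Nat.card_congr e.toEquiv).trans H49.CoStab.card_co3
  let f : Spor.McL →* T := e.symm.toMonoidHom.comp (Subgroup.inclusion inf_le_left)
  have hf : Function.Injective f := e.symm.injective.comp (Subgroup.inclusion_injective _)
  let i := MonoidHom.ofInjective hf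
  obtain ⟨k⟩ := H359.CT.McL.iso_K0
  have hU : Nat.card f.range = 898128000 :=
    (Nat.card_congr (k.trans i).toEquiv).symm.trans H359.CT.McL.card_K0
  have hD := TAB.Sm1.degList_of i TAB.McL.deg
  obtain ⟨a₁, e₁⟩ := Co.stab hT f.range hU hD h1
  obtain ⟨a₂, e₂⟩ := Co.stab hT f.range hU hD h2
  exact ⟨a₁, a₂, fun t => by rw [← MulAction.mem_stabilizer_iff, ← MulAction.mem_stabilizer_iff, e₁, e₂]⟩

end Cfsg.Agent.SM.Alt
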