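import Cfsg.Agent.SM.Alt.ExtA

/-!
# SM-A7: `boxExt_of : BoxTY → BoxTY7 → BoxExt` (helper91)
-/

set_option autoImplicit false
set_option linter.unusedVariables false
set_option linter.unusedSectionVars false

namespace Cfsg.Agent.SM.Alt.Xt

open Cfsg Equiv Subgroup MulAction

variable {Δ : Type} [Fintype Δ] [DecidableEq Δ] {Y H K B B₁ B₂ B₃ : Subgroup (Perm Δ)}

theorem blk_iff {F : Set Δ} {g : Perm Δ} (h : g '' F = F ∨ Disjoint (g '' F) F) {x : Δ} (h1 : x ∈ F) (h2 : g x ∈ F)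
    (y : Δ) : g y ∈ F ↔ y ∈ F := by
  rcases h with h | h
  · conv_lhs => rw [← h]
    exact g.injective.mem_set_image
  · exact absurd h2 (Set.disjoint_left.1 h ⟨x, h1, rfl⟩)

theorem nt_blk {a : Δ} {F : Set Δ} (ha : a ∉ F) (h : ¬ (F.Subsingleton ∨ F = {a}ᶜ)) :
    ∃ x y z, x ∈ F ∧ y ∈ F ∧ x ≠ y ∧ z ∉ F ∧ z ≠ a := by
  rw [not_or, Set.not_subsingleton_iff] at h
  obtain ⟨⟨x, hx, y, hy, hxy⟩, h2⟩ := h
  by_contra hc
  apply h2
  ext z
  constructor
  · rintro hz rfl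
    exact ha hz
  · intro hz
    by_contra hz'
    exact hc ⟨x, y, z, hx, hy, hxy, hz', hz⟩

/-! ### two points -/

section Two

variable {a a' : Δ}

theorem two_swap (e : Ext Y H K B {a, a'}) (ha : a ≠ a') {h : Perm Δ} (hh : h ∈ H) :
    (h a = a ∧ h a' = a') ∨ (h a = a' ∧ h a' = a) := by
  have h1 := (((e.stab h).1 hh).2 a).2 (by simp)
  have h2 := (((e.stab h).1 hh).2 a').2 (by simp)
  have h3 : h a ≠ h a' := fun e => ha (h.injective e)
  simp only [Finset.mem_insert, Finset.mem_singleton] at h1 h2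
  rcases h1 with h1 | h1 <;> rcases h2 with h2 | h2
  · exact absurd (h1.trans h2.symm) h3
  · exact Or.inl ⟨h1, h2⟩
  · exact Or.inr ⟨h1, h2⟩
  · exact absurd (h1.trans h2.symm) h3

theorem swap_stab (ha : a ≠ a') (x : Δ) : swap a a' x ∈ ({a, a'} : Finset Δ) ↔ x ∈ ({a, a'} : Finset Δ) := by
  rw [swap_apply_def]
  split_ifs with h1 h2
  · simp [h1]
  · simp [h2]
  · exact Iff.rfl

theorem two_ex (e : Ext (alternatingGroup Δ) H K B {a, a'}) (ha : a ≠ a') : ∃ k ∈ K, k a = a' ∧ k a' = a := by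
  by_contra hc
  have hK : K ≤ H ⊓ stabilizer (Perm Δ) a := by
    intro k hk
    refine ⟨kH e hk, ?_⟩
    rcases two_swap e ha (kH e hk) with h | h
    · exact h.1
    · exact absurd ⟨k, hk, h⟩ hc
  rcases e.km.eq_or_eq hK inf_le_left with h4 | h4
  · obtain ⟨t, ht1, ht2, ht3⟩ := e.nK
    apply ht3
    rw [← h4]
    exact ⟨memH e ht1 ht2, ht2 a (by simp)⟩
  · obtain ⟨p, q, s, hp, hq, hs, e1, e2, e3, r1, r2⟩ := three_side e.five ∅
    have h5 : swap a a' * swap p q ∈ H := by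
      refine (e.stab _).2 ⟨sw2_alt ha e1, fun x => ?_⟩
      rw [Perm.mul_apply, swap_stab ha]
      refine stab_of_fix (fun b hb => swap_apply_of_ne_of_ne ?_ ?_) x
      · rintro rfl; exact hp hb
      · rintro rfl; exact hq hb
    rw [← h4] at h5
    have h6 : (swap a a' * swap p q) a = a := h5.2
    have e4 : a ≠ p := by rintro rfl; exact hp (by simp)
    have e5 : a ≠ q := by rintro rfl; exact hq (by simp)
    rw [Perm.mul_apply, swap_apply_of_ne_of_ne e4 e5, swap_apply_left] at h6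
    exact ha h6.symm

theorem two_to (e : Ext (alternatingGroup Δ) H K B {a, a'}) (ha : a ≠ a') (x y : Δ) (hxy : x ≠ y) :
    ∃ g ∈ B, g x = a ∧ g y = a' := by
  have h5 := e.five
  obtain ⟨t, ht, t1, t2⟩ := alt_two (by omega) hxy ha
  obtain ⟨h, hh, b, hb, rfl⟩ := e.fac t ht
  have b1 : b x = h⁻¹ a := by rw [← t1]; simp
  have b2 : b y = h⁻¹ a' := by rw [← t2]; simp
  rcases two_swap e ha (H.inv_mem hh) with h1 | h1
  · exact ⟨b, hb, b1.trans h1.1, b2.trans h1.2⟩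
  · obtain ⟨k, hk, k1, k2⟩ := two_ex e ha
    refine ⟨k * b, B.mul_mem (kB e hk) hb, ?_, ?_⟩
    · rw [Perm.mul_apply, b1, h1.1, k2]
    · rw [Perm.mul_apply, b2, h1.2, k1]

/-- the pointwise stabiliser of the two points is transitive on the other points -/
theorem two_tr (e : Ext (alternatingGroup Δ) H K B {a, a'}) (ha : a ≠ a') {u v : Δ} (hu : u ∉ ({a, a'} : Finset Δ))
    (hv : v ∉ ({a, a'} : Finset Δ)) : ∃ k ∈ K, k a = a ∧ k a' = a' ∧ k u = v := by
  have hB : IsPreprimitive B Δ := (tw_of (two_to e ha)).prim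
  by_contra hc
  by_cases htr : ∀ w, w ∉ ({a, a'} : Finset Δ) → ∃ k ∈ K, k u = w
  · let O : Set Δ := {w | ∃ k ∈ K, k a = a ∧ k a' = a' ∧ k u = w}
    -- the relation "in one orbit of the pointwise stabiliser"
    let r : Δ → Δ → Prop := fun x y => ∃ k ∈ K, k a = a ∧ k a' = a' ∧ k x = y
    have hr : Equivalence r := by
      refine ⟨fun x => ⟨1, K.one_mem, rfl, rfl, rfl⟩, ?_, ?_⟩
      · rintro x y ⟨k, hk, k1, k2, k3⟩
        exact ⟨k⁻¹, K.inv_mem hk, Perm.inv_eq_iff_eq.2 k1.symm, Perm.inv_eq_iff_eq.2 k2.symm,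
          Perm.inv_eq_iff_eq.2 k3.symm⟩
      · rintro x y z ⟨k, hk, k1, k2, k3⟩ ⟨l, hl, l1, l2, l3⟩
        exact ⟨l * k, K.mul_mem hl hk, by rw [Perm.mul_apply, k1, l1], by rw [Perm.mul_apply, k2, l2],
          by rw [Perm.mul_apply, k3, l3]⟩
    have hc1 : ∀ g ∈ K, ∀ x y, r x y → r (g x) (g y) := by
      rintro g hg x y ⟨k, hk, k1, k2, k3⟩
      refine ⟨g * k * g⁻¹, K.mul_mem (K.mul_mem hg hk) (K.inv_mem hg), ?_, ?_, by simp [k3]⟩
      · rcases two_swap e ha (H.inv_mem (kH e hg)) with h | h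
        · rw [Perm.mul_apply, Perm.mul_apply, h.1, k1]; exact (Perm.inv_eq_iff_eq.1 h.1).symm
        · rw [Perm.mul_apply, Perm.mul_apply, h.1, k2, ← h.1]; simp
      · rcases two_swap e ha (H.inv_mem (kH e hg)) with h | h
        · rw [Perm.mul_apply, Perm.mul_apply, h.2, k2]; exact (Perm.inv_eq_iff_eq.1 h.2).symm
        · rw [Perm.mul_apply, Perm.mul_apply, h.2, k1, ← h.2]; simp
    have hK : K ≤ Pres r := by
      intro g hg x y
      refine ⟨fun h => ?_, hc1 g hg x y⟩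
      have := hc1 g⁻¹ (K.inv_mem hg) _ _ h
      simpa using this
    have side : ∀ x y, x ∉ ({a, a'} : Finset Δ) → y ∉ ({a, a'} : Finset Δ) → Side O x y → r x y := by
      intro x y hx hy hs
      by_cases h : x ∈ O
      · exact hr.trans (hr.symm h) (hs.1 h)
      · have h' : y ∉ O := fun hh => h (hs.2 hh)
        obtain ⟨k, hk, k3⟩ := htr x hx
        obtain ⟨l, hl, l3⟩ := htr y hy
        rcases two_swap e ha (kH e hk) with k1 | k1
        · exact absurd ⟨k, hk, k1.1, k1.2, k3⟩ h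
        rcases two_swap e ha (kH e hl) with l1 | l1
        · exact absurd ⟨l, hl, l1.1, l1.2, l3⟩ h'
        refine ⟨l * k⁻¹, K.mul_mem hl (K.inv_mem hk), ?_, ?_, ?_⟩
        · rw [Perm.mul_apply, Perm.inv_eq_iff_eq.2 k1.2.symm, l1.2]
        · rw [Perm.mul_apply, Perm.inv_eq_iff_eq.2 k1.1.symm, l1.1]
        · rw [Perm.mul_apply, Perm.inv_eq_iff_eq.2 k3.symm, l3]
    obtain ⟨p, q, s, hp, hq, hs, e1, e2, e3, r1, r2⟩ := three_side e.five O
    have R : Rel K {a, a'} r := by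
      refine ⟨hr, hK, ?_⟩
      by_cases h : q ∈ O
      · exact ⟨p, q, v, hp, hq, hv, e1, side p q hp hq r1, fun hh => hc (hr.trans h hh)⟩
      · exact ⟨p, q, u, hp, hq, hu, e1, side p q hp hq r1, fun hh => h (hr.symm hh)⟩
    exact e.nB (jordan hB e1 e2 e3 (kB e (R.sw e hp hq hp hs e1 e2 (side p q hp hq r1) (side p s hp hs r2))))
  · push Not at htr
    obtain ⟨w, hw, hw'⟩ := htr
    let O : Set Δ := {w | ∃ k ∈ K, k u = w}
    have hO : ∀ k ∈ K, ∀ x, k x ∈ O ↔ x ∈ O := by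
      intro k hk x
      constructor
      · rintro ⟨l, hl, l3⟩
        exact ⟨k⁻¹ * l, K.mul_mem (K.inv_mem hk) hl, by rw [Perm.mul_apply, l3]; simp⟩
      · rintro ⟨l, hl, l3⟩
        exact ⟨k * l, K.mul_mem hk hl, by rw [Perm.mul_apply, l3]⟩
    have hK : K ≤ Pres (Side O) := fun k hk x y => iff_congr (hO k hk x) (hO k hk y)
    exact side_not_prim e (rel_side e hK hu hw ⟨1, K.one_mem, rfl⟩ fun ⟨k, hk, k3⟩ => hw' k hk k3) hB

theorem two_pr2 (e : Ext (alternatingGroup Δ) H K B {a, a'}) (ha : a ≠ a') : Pr2 B := by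
  have hT : Tw B := tw_of (two_to e ha)
  constructor
  · intro x y
    by_cases h : x = y
    · exact ⟨1, B.one_mem, h⟩
    · obtain ⟨g, hg, g1, g2⟩ := hT x y y x h (Ne.symm h)
      exact ⟨g, hg, g1⟩
  · intro a0 F h0 hF
    by_contra hc
    obtain ⟨x, y, z, hx, hy, hxy, hz, hz0⟩ := nt_blk h0 hc
    have e1 : a0 ≠ x := by rintro rfl; exact h0 hx
    have e2 : a0 ≠ y := by rintro rfl; exact h0 hy
    have e3 : x ≠ z := by rintro rfl; exact hz hx
    obtain ⟨b, hb, b1, b2⟩ := two_to e ha a0 x e1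
    have out : ∀ w, w ≠ a0 → w ≠ x → b w ∉ ({a, a'} : Finset Δ) := by
      intro w w1 w2 hw
      rw [← b1, ← b2] at hw
      simp only [Finset.mem_insert, Finset.mem_singleton, EmbeddingLike.apply_eq_iff_eq] at hw
      exact hw.elim w1 w2
    obtain ⟨k, hk, k1, k2, k3⟩ := two_tr e ha (out y e2.symm hxy.symm) (out z hz0 e3.symm)
    have hg : b⁻¹ * k * b ∈ B := B.mul_mem (B.mul_mem (B.inv_mem hb) (kB e hk)) hb
    have g1 : (b⁻¹ * k * b) a0 = a0 := by rw [Perm.mul_apply, Perm.mul_apply, b1, k1, ← b1]; simp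
    have g2 : (b⁻¹ * k * b) x = x := by rw [Perm.mul_apply, Perm.mul_apply, b2, k2, ← b2]; simp
    have g3 : (b⁻¹ * k * b) y = z := by rw [Perm.mul_apply, Perm.mul_apply, k3]; simp
    have := (blk_iff (hF _ hg g1) hx (by rw [g2]; exact hx) y).2 hy
    rw [g3] at this
    exact hz this

theorem two_main (TY : BoxTY) (e₁ : Ext (alternatingGroup Δ) H K B₁ {a, a'}) (e₂ : Ext (alternatingGroup Δ) H K B₂ {a, a'})
    (ha : a ≠ a') : ∃ τ : Perm Δ, (∀ x, x ∉ ({a, a'} : Finset Δ) → τ x = x) ∧ ∀ g, g ∈ B₁ ↔ τ * g * τ⁻¹ ∈ B₂ := by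
  have h5 := e₁.five
  rw [Finset.card_pair ha] at h5
  obtain ⟨g, hg⟩ := TY Δ _ B₁ B₂ (by omega) le_rfl e₁.bm e₂.bm e₁.nB e₂.nB (two_pr2 e₁ ha) (two_pr2 e₂ ha) (card_eq e₁ e₂)
  obtain ⟨b, hb, b1, b2⟩ := two_to e₂ ha (g a) (g a') fun h => ha (g.injective h)
  have hc := conj_mul hb hg
  have hA : ∀ x, (b * g) x ∈ ({a, a'} : Finset Δ) ↔ x ∈ ({a, a'} : Finset Δ) := by
    refine stab_of_fix fun x hx => ?_
    simp only [Finset.mem_insert, Finset.mem_singleton] at hx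
    rcases hx with rfl | rfl
    · exact b1
    · exact b2
  have hk : ∃ k ∈ K, k ≠ 1 ∧ ∀ x ∈ ({a, a'} : Finset Δ), k x = x := by
    obtain ⟨p, q, s, hp, hq, hs, e1, e2, e3, r1, r2⟩ := three_side e₁.five ∅
    obtain ⟨k, hk, k1, k2, k3⟩ := two_tr e₁ ha hp hq
    refine ⟨k, hk, ?_, fun x hx => ?_⟩
    · rintro rfl; exact e1 k3
    · simp only [Finset.mem_insert, Finset.mem_singleton] at hx
      rcases hx with rfl | rfl
      · exact k1
      · exact k2
  generalize b * g = f at hc hA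
  rcases Int.units_eq_one_or (Perm.sign f) with hs | hs
  · refine ⟨1, fun _ _ => rfl, fun x => ?_⟩
    rw [eq_of_conj e₁ e₂ hk (Perm.mem_alternatingGroup.2 hs) hA hc]
    simp
  · have hH : f * swap a a' ∈ H := by
      refine (e₁.stab _).2 ⟨?_, fun x => ?_⟩
      · rw [Perm.mem_alternatingGroup, Perm.sign_mul, hs, Perm.sign_swap ha]; decide
      · rw [Perm.mul_apply, hA, swap_stab ha]
    have cen : ∀ x ∈ H, swap a a' * x * (swap a a')⁻¹ = x := by
      intro x hx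
      have h1 : x * swap a a' * x⁻¹ = swap a a' := by
        rw [← swap_apply_apply]
        rcases two_swap e₁ ha hx with h | h
        · rw [h.1, h.2]
        · rw [h.1, h.2, swap_comm]
      calc swap a a' * x * (swap a a')⁻¹ = x * swap a a' * x⁻¹ * x * (swap a a')⁻¹ := by rw [h1]
        _ = x := by group
    have hn : ∀ x, x ∈ K ↔ f * swap a a' * x * (f * swap a a')⁻¹ ∈ K := by
      intro x
      have e0 : f * swap a a' * x * (f * swap a a')⁻¹ = f * (swap a a' * x * (swap a a')⁻¹) * f⁻¹ := by group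
      rw [e0, ← norm_K e₁ e₂ hA hc]
      constructor
      · intro hx
        rw [cen x (kH e₁ hx)]; exact hx
      · intro hx
        have h2 := cen _ (kH e₁ hx)
        have h3 : swap a a' * (swap a a' * x * (swap a a')⁻¹) * (swap a a')⁻¹ = x := by
          simp [mul_assoc]
        rw [← h3, h2]; exact hx
    have hK := mem_of_norm e₁ hk hH hn
    refine ⟨swap a a', fun x hx => ?_, fun x => ?_⟩
    · simp only [Finset.mem_insert, Finset.mem_singleton, not_or] at hx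
      exact swap_apply_of_ne_of_ne hx.1 hx.2
    · rw [hc, ← conj_iff (kB e₂ hK) (swap a a' * x * (swap a a')⁻¹)]
      have : f * swap a a' * (swap a a' * x * (swap a a')⁻¹) * (f * swap a a')⁻¹ = f * x * f⁻¹ := by
        simp [mul_assoc]
      rw [this]

end Two

/-! ### one point -/

section One

variable {a : Δ}

theorem one_fix (e : Ext Y H K B {a}) {h : Perm Δ} (hh : h ∈ H) : h a = a := by
  have h1 := (((e.stab h).1 hh).2 a).2 (by simp)
  simpa using h1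

theorem one_memK (e : Ext Y H K B {a}) {g : Perm Δ} (hg : g ∈ B) (h : g a = a) : g ∈ K :=
  (memK e).2 ⟨(e.stab g).2 ⟨e.bm.le hg, stab_of_fix fun x hx => by rw [Finset.mem_singleton.1 hx, h]⟩, hg⟩

theorem one_to (e : Ext Y H K B {a}) (x : Δ) : ∃ g ∈ B, g x = a := by
  have h5 := e.five
  obtain ⟨x', hx⟩ := ex_out {x} (by simp only [Finset.card_singleton]; omega)
  obtain ⟨a', ha⟩ := ex_out {a} (by simp only [Finset.card_singleton]; omega)
  rw [Finset.mem_singleton] at hx ha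
  obtain ⟨t, ht, t1, t2⟩ := alt_two (by omega) (Ne.symm hx) (Ne.symm ha)
  obtain ⟨h, hh, b, hb, rfl⟩ := e.fac t (e.alt ht)
  have b1 : b x = h⁻¹ a := by rw [← t1]; simp
  exact ⟨b, hb, b1.trans (one_fix e (H.inv_mem hh))⟩

theorem one_tr (e : Ext Y H K B {a}) (x y : Δ) : ∃ g ∈ B, g x = y := by
  obtain ⟨g, hg, g1⟩ := one_to e x
  obtain ⟨k, hk, k1⟩ := one_to e y
  exact ⟨k⁻¹ * g, B.mul_mem (B.inv_mem hk) hg, by rw [Perm.mul_apply, g1, ← k1]; simp⟩

/-- `K` intransitive: the extension is the stabiliser of a partition into two halves -/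
theorem one_half (e : Ext Y H K B {a}) {O : Set Δ} (R : Rel K {a} (Side O)) :
    ∃ F : Set Δ, a ∈ F ∧ B = Y ⊓ Pres (Side F) ∧ Fᶜ.ncard = F.ncard ∧
      ((∀ x, x ≠ a → (x ∈ F ↔ x ∈ O)) ∨ (∀ x, x ≠ a → (x ∈ F ↔ x ∉ O))) := by
  have : IsPretransitive B Δ := ⟨fun x y => by
    obtain ⟨g, hg, g1⟩ := one_tr e x y
    exact ⟨⟨g, hg⟩, g1⟩⟩
  have hnp := side_not_prim e R
  have hex : ∃ F : Set Δ, a ∈ F ∧ IsBlock B F ∧ ¬ IsTrivialBlock F := by
    by_contra hc
    apply hnp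
    refine IsPreprimitive.of_isTrivialBlock_base a fun {F} h1 h2 => ?_
    by_contra h3
    exact hc ⟨F, h1, h2, h3⟩
  obtain ⟨F, haF, hF, hnt⟩ := hex
  have blk : ∀ g ∈ B, ∀ x ∈ F, g x ∈ F → ∀ y, g y ∈ F ↔ y ∈ F := by
    intro g hg x h1 h2 y
    exact blk_iff (hF.smul_eq_or_disjoint ⟨g, hg⟩) h1 h2 y
  rw [IsTrivialBlock, not_or, Set.not_subsingleton_iff] at hnt
  obtain ⟨hnt1, hnt2⟩ := hnt
  obtain ⟨x0, hx0, hx0a⟩ := hnt1.exists_ne a
  obtain ⟨z0, hz0⟩ := (Set.ne_univ_iff_exists_notMem F).1 hnt2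
  have hz0a : z0 ≠ a := by rintro rfl; exact hz0 haF
  have na : ∀ {x : Δ}, x ≠ a → x ∉ ({a} : Finset Δ) := fun h => by simpa using h
  have blkK : ∀ k ∈ K, ∀ y, k y ∈ F ↔ y ∈ F := fun k hk =>
    blk k (kB e hk) a haF (by rw [one_fix e (kH e hk)]; exact haF)
  have trK : ∀ x y, x ≠ a → y ≠ a → Side O x y → (x ∈ F ↔ y ∈ F) := by
    intro x y hx hy hs
    by_cases hxy : x = y
    · rw [hxy]
    obtain ⟨p, q, s, hp, hq, hs', e1, e2, e3, r1, r2⟩ := three_side e.five O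
    have key : ∀ u v, u ∉ ({a} : Finset Δ) → v ∉ ({a} : Finset Δ) → u ≠ v → Side O u v → x ≠ u → x ≠ v →
        (x ∈ F ↔ y ∈ F) := by
      intro u v hu hv huv hs2 h1 h2
      have h3 := blkK _ (R.sw e (na hx) (na hy) hu hv hxy huv hs hs2) x
      rw [Perm.mul_apply, swap_apply_of_ne_of_ne h1 h2, swap_apply_left] at h3
      exact h3.symm
    by_cases h1 : x = p
    · exact key q s hq hs' e3 (Iff.trans (Iff.symm r1) r2) (h1 ▸ e1) (h1 ▸ e2)
    by_cases h2 : x = q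
    · exact key p s hp hs' e2 r2 h1 (h2 ▸ e3)
    · exact key p q hp hq e1 r1 h1 h2
  have nside : ¬ Side O x0 z0 := fun h => hz0 ((trK x0 z0 hx0a hz0a h).1 hx0)
  have dich : ∀ x, x ≠ a → (x ∈ F ↔ Side O x x0) := by
    intro x hx
    refine ⟨fun h => ?_, fun h => (trK x x0 hx hx0a h).2 hx0⟩
    by_contra hc
    have : Side O x z0 := by unfold Side at *; tauto
    exact hz0 ((trK x z0 hx hz0a this).1 h)
  have outs : ∀ x y, x ∉ F → y ∉ F → Side O x y := by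
    intro x y hx hy
    have h1 := dich x (by rintro rfl; exact hx haF)
    have h2 := dich y (by rintro rfl; exact hy haF)
    unfold Side at *; tauto
  have flip : ∀ g ∈ B, g a ∉ F → ∀ y, g y ∈ F ↔ y ∉ F := by
    intro g hg hga
    have f1 : ∀ y ∈ F, g y ∉ F := fun y hy h => hga ((blk g hg y hy h a).2 haF)
    intro y
    refine ⟨fun h hy => f1 y hy h, fun hy => ?_⟩
    by_contra hgy
    have n1 : g a ≠ a := by intro h; rw [h] at hga; exact hga haF
    have n2 : g x0 ≠ a := by intro h; exact f1 x0 hx0 (h.symm ▸ haF)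
    have n3 : g y ≠ a := by intro h; rw [h] at hgy; exact hgy haF
    have d1 : g a ≠ g x0 := fun h => hx0a (g.injective h).symm
    have d2 : g a ≠ g y := fun h => hy (g.injective h ▸ haF)
    have d3 : g x0 ≠ g y := fun h => hy (g.injective h ▸ hx0)
    have hk := R.sw e (na n1) (na n3) (na n1) (na n2) d2 d1 (outs _ _ hga hgy) (outs _ _ hga (f1 x0 hx0))
    have hm : g⁻¹ * (swap (g a) (g y) * swap (g a) (g x0)) * g ∈ B :=
      B.mul_mem (B.mul_mem (B.inv_mem hg) (kB e hk)) hg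
    have m1 : (g⁻¹ * (swap (g a) (g y) * swap (g a) (g x0)) * g) a = x0 := by
      rw [Perm.mul_apply, Perm.mul_apply, cyc1 d1 d2 d3]; simp
    have m2 : (g⁻¹ * (swap (g a) (g y) * swap (g a) (g x0)) * g) x0 = y := by
      rw [Perm.mul_apply, Perm.mul_apply, cyc2]; simp
    have := (blk _ hm a haF (by rw [m1]; exact hx0) x0).2 hx0
    rw [m2] at this
    exact hy this
  have hle : B ≤ Y ⊓ Pres (Side F) := by
    intro g hg
    refine ⟨e.bm.le hg, fun x y => ?_⟩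
    by_cases h : g a ∈ F
    · exact iff_congr (blk g hg a haF h x) (blk g hg a haF h y)
    · have h1 := flip g hg h x
      have h2 := flip g hg h y
      unfold Side; tauto
  refine ⟨F, haF, ?_, ?_, ?_⟩
  · rcases e.bm.eq_or_eq hle inf_le_left with h | h
    · exact h.symm
    · exfalso
      have d3 : x0 ≠ z0 := by rintro rfl; exact hz0 hx0
      have h5 : swap a z0 * swap a x0 ∈ Y ⊓ Pres (Side F) := by
        rw [h]; exact e.alt (sw2_alt hz0a.symm hx0a.symm)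
      have h6 := h5.2 a x0
      rw [cyc1 hx0a.symm hz0a.symm d3, cyc2] at h6
      exact hz0 ((h6.2 (iff_of_true haF hx0)).1 hx0)
  · obtain ⟨g, hg, g1⟩ := one_tr e a z0
    have h1 := flip g hg (by rw [g1]; exact hz0)
    have h2 : Fᶜ = g '' F := by
      ext y
      constructor
      · intro hy
        refine ⟨g⁻¹ y, ?_, by simp⟩
        by_contra hc
        have := (h1 _).2 hc
        exact hy (by simpa using this)
      · rintro ⟨x, hx, rfl⟩ h
        exact (h1 x).1 h hx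
    rw [h2, Set.ncard_image_of_injective _ g.injective]
  · by_cases h : x0 ∈ O
    · exact Or.inl fun x hx => by rw [dich x hx]; unfold Side; tauto
    · exact Or.inr fun x hx => by rw [dich x hx]; unfold Side; tauto

theorem one_intr (e₁ : Ext Y H K B₁ {a}) (e₂ : Ext Y H K B₂ {a}) {O : Set Δ} (R : Rel K {a} (Side O)) : B₁ = B₂ := by
  obtain ⟨F₁, a1, b1, c1, d1⟩ := one_half e₁ R
  obtain ⟨F₂, a2, b2, c2, d2⟩ := one_half e₂ R
  have same : (∀ x, x ≠ a → (x ∈ F₁ ↔ x ∈ F₂)) → B₁ = B₂ := by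
    intro h
    have : F₁ = F₂ := by
      ext x
      by_cases hx : x = a
      · rw [hx]; exact iff_of_true a1 a2
      · exact h x hx
    rw [b1, b2, this]
  have diff : (∀ x, x ≠ a → (x ∈ F₁ ↔ x ∉ F₂)) → False := by
    intro h
    have ins : ∀ F G : Set Δ, a ∈ F → a ∈ G → (∀ x, x ≠ a → (x ∈ F ↔ x ∉ G)) → F.ncard = Gᶜ.ncard + 1 := by
      intro F G hF hG h
      have : F = insert a Gᶜ := by
        ext x
        by_cases hx : x = a
        · rw [hx]; exact iff_of_true hF (Set.mem_insert _ _)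
        · rw [Set.mem_insert_iff, h x hx]; simp [hx]
      rw [this, Set.ncard_insert_of_notMem (by simpa using hG)]
    have h1 := ins F₁ F₂ a1 a2 h
    have h2 := ins F₂ F₁ a2 a1 fun x hx => by have := h x hx; tauto
    omega
  rcases d1 with d1 | d1 <;> rcases d2 with d2 | d2
  · exact same fun x hx => (d1 x hx).trans (d2 x hx).symm
  · exact (diff fun x hx => by have := d1 x hx; have := d2 x hx; tauto).elim
  · exact (diff fun x hx => by have := d1 x hx; have := d2 x hx; tauto).elim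
  · exact same fun x hx => (d1 x hx).trans (d2 x hx).symm

theorem one_tw (e : Ext Y H K B {a}) (tr : ∀ x y, x ≠ a → y ≠ a → ∃ k ∈ K, k x = y) : Tw B := by
  have h5 := e.five
  obtain ⟨a', ha⟩ := ex_out {a} (by simp only [Finset.card_singleton]; omega)
  rw [Finset.mem_singleton] at ha
  refine tw_of (a := a) (a' := a') fun x y hxy => ?_
  obtain ⟨g, hg, g1⟩ := one_to e x
  obtain ⟨k, hk, k1⟩ := tr (g y) a' (by rw [← g1]; exact fun h => hxy (g.injective h).symm) ha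
  exact ⟨k * g, B.mul_mem (kB e hk) hg, by rw [Perm.mul_apply, g1, one_fix e (kH e hk)], k1⟩

theorem three_of {B : Subgroup (Perm Δ)} (hB : IsPreprimitive B Δ) {u : Perm Δ} (hu : u ∈ B) {s s' t t' : Δ}
    (hk : swap s s' * swap t t' ∈ B) (h1 : u s ≠ s) (h2 : u s' = s') (h3 : u t = t) (h4 : u t' = t') (h5 : s ≠ s') :
    alternatingGroup Δ ≤ B := by
  have h6 : u * (swap s s' * swap t t') * u⁻¹ = swap (u s) s' * swap t t' := by
    have e1 := swap_apply_apply u s s'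
    have e2 := swap_apply_apply u t t'
    rw [h2] at e1
    rw [h3, h4] at e2
    rw [e1]
    conv_rhs => rw [e2]
    group
  have h7 : u * (swap s s' * swap t t') * u⁻¹ * (swap s s' * swap t t')⁻¹ ∈ B :=
    B.mul_mem (B.mul_mem (B.mul_mem hu hk) (B.inv_mem hu)) (B.inv_mem hk)
  have h8 : swap (u s) s' * swap t t' * (swap s s' * swap t t')⁻¹ = swap s' (u s) * swap s' s := by
    rw [swap_comm s' (u s), swap_comm s' s]
    simp [mul_assoc]
  rw [h6, h8] at h7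
  refine jordan hB ?_ h5.symm h1 h7
  intro h
  exact h5 (u.injective (h.symm.trans h2.symm))

/-- a proper equivalence relation of a transitive `K` forces the degree 7 -/
theorem one_seven (e : Ext Y H K B {a}) (tr : ∀ x y, x ≠ a → y ≠ a → ∃ k ∈ K, k x = y) {r : Δ → Δ → Prop}
    (R : Rel K {a} r) : Fintype.card Δ = 7 := by
  have hT := one_tw e tr
  have hB := hT.prim
  have na : ∀ {x : Δ}, x ≠ a → x ∉ ({a} : Finset Δ) := fun h => by simpa using h
  have no3 : ∀ p q s, p ≠ a → q ≠ a → s ≠ a → p ≠ q → p ≠ s → r p q → r p s → q = s := by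
    intro p q s hp hq hs e1 e2 r1 r2
    by_contra e3
    exact e.nB (jordan hB e1 e2 e3 (kB e (R.sw e (na hp) (na hq) (na hp) (na hs) e1 e2 r1 r2)))
  have hσ : ∀ p, ∃ p', p ≠ a → p' ≠ a ∧ p ≠ p' ∧ r p p' := by
    intro p
    by_cases hp : p = a
    · exact ⟨p, fun h => absurd hp h⟩
    obtain ⟨x, y, z, hx, hy, hz, e1, e2, e3⟩ := R.nt
    rw [Finset.mem_singleton] at hx hy
    obtain ⟨k, hk, k1⟩ := tr x p hx hp
    refine ⟨k y, fun _ => ⟨?_, ?_, ?_⟩⟩
    · intro h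
      exact hy (k.injective (h.trans (one_fix e (kH e hk)).symm))
    · rw [← k1]; exact fun h => e1 (k.injective h)
    · rw [← k1]; exact (R.le hk x y).2 e2
  choose σ hσ using hσ
  have inv : ∀ p, p ≠ a → σ (σ p) = p := by
    intro p hp
    obtain ⟨h1, h2, h3⟩ := hσ p hp
    obtain ⟨h4, h5, h6⟩ := hσ _ h1
    exact no3 (σ p) _ _ h1 h4 hp h5 h2.symm h6 (R.eqv.symm h3)
  have inj : ∀ p q, p ≠ a → q ≠ a → σ p = q → p = σ q := by
    intro p q hp hq h
    rw [← h, inv p hp]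
  have h5 := e.five
  rw [Finset.card_singleton] at h5
  have c3 : ∀ x y z : Δ, ({x, y, z} : Finset Δ).card ≤ 3 := fun x y z => Finset.card_le_three
  obtain ⟨p, hp⟩ := ex_out {a} (by simp only [Finset.card_singleton]; omega)
  rw [Finset.mem_singleton] at hp
  obtain ⟨p1, p2, p3⟩ := hσ p hp
  obtain ⟨q, hq⟩ := ex_out {a, p, σ p} (by have := c3 a p (σ p); omega)
  simp only [Finset.mem_insert, Finset.mem_singleton, not_or] at hq
  obtain ⟨hq, hq1, hq2⟩ := hq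
  obtain ⟨q1, q2, q3⟩ := hσ q hq
  have hq3 : σ q ≠ p := fun h => hq2 (inj q p hq hp h)
  have hq4 : σ q ≠ σ p := fun h => hq1 ((inj q _ hq p1 h).trans (inv p hp))
  have h7 : 7 ≤ Fintype.card Δ := by
    obtain ⟨s, hs⟩ := ex_out ({a, p, σ p} ∪ {q, σ q, q}) (by
      have h1 := Finset.card_union_le ({a, p, σ p} : Finset Δ) {q, σ q, q}
      have h2 := c3 a p (σ p)
      have h3 : ({q, σ q, q} : Finset Δ).card ≤ 2 := by
        rw [Finset.insert_comm, Finset.pair_eq_singleton]; exact Finset.card_le_two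
      omega)
    simp only [Finset.mem_union, Finset.mem_insert, Finset.mem_singleton, not_or] at hs
    obtain ⟨⟨hs, hs1, hs2⟩, hs3, hs4, -⟩ := hs
    obtain ⟨s1, s2, s3⟩ := hσ s hs
    have hs5 : σ s ≠ p := fun h => hs2 (inj s p hs hp h)
    have hs6 : σ s ≠ σ p := fun h => hs1 ((inj s _ hs p1 h).trans (inv p hp))
    have hs7 : σ s ≠ q := fun h => hs4 (inj s q hs hq h)
    have hs8 : σ s ≠ σ q := fun h => hs3 ((inj s _ hs q1 h).trans (inv q hq))
    have hc : ({σ s, s, σ q, q, σ p, p, a} : Finset Δ).card = 7 := by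
      rw [Finset.card_insert_of_notMem (by simp [*, s2.symm]), Finset.card_insert_of_notMem (by simp [*]),
        Finset.card_insert_of_notMem (by simp [*, q2.symm]), Finset.card_insert_of_notMem (by simp [*]),
        Finset.card_insert_of_notMem (by simp [*, p2.symm]), Finset.card_pair hp]
    rw [← hc]
    exact Finset.card_le_univ _
  by_contra hne
  obtain ⟨g, hg, g1⟩ := one_to e p
  have hk0 := R.sw e (na hp) (na p1) (na hq) (na q1) p2 q2 p3 q3
  have hu : g * (swap p (σ p) * swap q (σ q)) * g⁻¹ ∈ B := B.mul_mem (B.mul_mem hg (kB e hk0)) (B.inv_mem hg)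
  have eu : g * (swap p (σ p) * swap q (σ q)) * g⁻¹ = swap a (g (σ p)) * swap (g q) (g (σ q)) := by
    rw [← g1, swap_apply_apply, swap_apply_apply]; group
  rw [eu] at hu
  have x1 : g (σ p) ≠ a := by rw [← g1]; exact fun h => p2 (g.injective h).symm
  have x2 : g q ≠ a := by rw [← g1]; exact fun h => hq1 (g.injective h)
  have x3 : g (σ q) ≠ a := by rw [← g1]; exact fun h => hq3 (g.injective h)
  have x4 : g (σ p) ≠ g q := fun h => hq2 (g.injective h).symm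
  have x5 : g (σ p) ≠ g (σ q) := fun h => hq4 (g.injective h).symm
  have x6 : g q ≠ g (σ q) := fun h => q2 (g.injective h)
  generalize g (σ p) = x at hu x1 x4 x5
  generalize g q = y at hu x2 x4 x6
  generalize g (σ q) = z at hu x3 x5 x6
  obtain ⟨t, ht⟩ := ex_out (insert a ({x, y, z} ∪ {σ x, σ y, σ z})) (by
    have h1 := Finset.card_union_le ({x, y, z} : Finset Δ) {σ x, σ y, σ z}
    have h2 := c3 x y z
    have h3 := c3 (σ x) (σ y) (σ z)
    have h4 := Finset.card_insert_le a (({x, y, z} : Finset Δ) ∪ {σ x, σ y, σ z})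
    omega)
  simp only [Finset.mem_union, Finset.mem_insert, Finset.mem_singleton, not_or] at ht
  obtain ⟨ht, ⟨t1, t2, t3⟩, t4, t5, t6⟩ := ht
  obtain ⟨s1, s2, s3⟩ := hσ t ht
  have fixu : ∀ w, w ≠ a → w ≠ x → w ≠ y → w ≠ z → (swap a x * swap y z) w = w := by
    intro w w1 w2 w3 w4
    rw [Perm.mul_apply, swap_apply_of_ne_of_ne w3 w4, swap_apply_of_ne_of_ne w1 w2]
  have fin : ∀ s, s ≠ a → (swap a x * swap y z) s ≠ s → σ s ≠ x → σ s ≠ y → σ s ≠ z → False := by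
    intro s hs m n1 n2 n3
    obtain ⟨v1, v2, v3⟩ := hσ s hs
    refine e.nB (three_of hB hu (kB e (R.sw e (na hs) (na v1) (na ht) (na s1) v2 s2 v3 s3)) m (fixu _ v1 n1 n2 n3)
      (fixu _ ht t1 t2 t3) (fixu _ s1 ?_ ?_ ?_) v2)
    · exact fun h => t4 (inj t x ht x1 h)
    · exact fun h => t5 (inj t y ht x2 h)
    · exact fun h => t6 (inj t z ht x3 h)
  have mx : (swap a x * swap y z) x ≠ x := by
    rw [Perm.mul_apply, swap_apply_of_ne_of_ne x4 x5, swap_apply_right]; exact x1.symm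
  have my : (swap a x * swap y z) y ≠ y := by
    rw [Perm.mul_apply, swap_apply_left, swap_apply_of_ne_of_ne x3 x5.symm]; exact x6.symm
  have mz : (swap a x * swap y z) z ≠ z := by
    rw [Perm.mul_apply, swap_apply_right, swap_apply_of_ne_of_ne x2 x4.symm]; exact x6
  by_cases c1 : σ x = y
  · refine fin z x3 mz (fun h => ?_) (fun h => ?_) (hσ z x3).2.1.symm
    · exact x6 (c1.symm.trans (inj z x x3 x1 h).symm)
    · exact x5 ((inj x y x1 x2 c1).trans (inj z y x3 x2 h).symm)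
  by_cases c2 : σ x = z
  · refine fin y x2 my (fun h => ?_) (hσ y x2).2.1.symm (fun h => ?_)
    · exact c1 (inj y x x2 x1 h).symm
    · exact x4 ((inj x z x1 x3 c2).trans (inj y z x2 x3 h).symm)
  · exact fin x x1 mx (hσ x x1).2.1.symm c1 c2

theorem one_pr2 (e : Ext Y H K B {a}) (tr : ∀ x y, x ≠ a → y ≠ a → ∃ k ∈ K, k x = y) (h7 : Fintype.card Δ ≠ 7) :
    Pr2 B := by
  refine ⟨one_tr e, fun a0 F h0 hF => ?_⟩
  by_contra hc
  obtain ⟨x, y, z, hx, hy, hxy, hz, hz0⟩ := nt_blk h0 hc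
  apply h7
  let r : Δ → Δ → Prop := fun u v => u = v ∨ ∃ g ∈ B, g a = a0 ∧ g u ∈ F ∧ g v ∈ F
  have key : ∀ g ∈ B, ∀ g' ∈ B, g a = a0 → g' a = a0 → ∀ v, g v ∈ F → g' v ∈ F → ∀ w, g w ∈ F ↔ g' w ∈ F := by
    intro g hg g' hg' g1 g2 v h1 h2 w
    have h3 : (g * g'⁻¹) a0 = a0 := by rw [Perm.mul_apply, Perm.inv_eq_iff_eq.2 g2.symm, g1]
    have := blk_iff (hF _ (B.mul_mem hg (B.inv_mem hg')) h3) h2 (by simpa using h1) (g' w)
    simpa using this
  have hc1 : ∀ k ∈ K, ∀ u v, r (k u) (k v) → r u v := by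
    rintro k hk u v (h | ⟨g, hg, g1, g2, g3⟩)
    · exact Or.inl (k.injective h)
    · exact Or.inr ⟨g * k, B.mul_mem hg (kB e hk), by rw [Perm.mul_apply, one_fix e (kH e hk), g1], g2, g3⟩
  obtain ⟨b, hb, b1⟩ := one_tr e a a0
  have out : ∀ w, w ≠ a0 → b⁻¹ w ∉ ({a} : Finset Δ) := by
    intro w hw h
    rw [Finset.mem_singleton, Perm.inv_eq_iff_eq, b1] at h
    exact hw h
  refine one_seven e tr (r := r) ⟨⟨fun _ => Or.inl rfl, ?_, ?_⟩, ?_, b⁻¹ x, b⁻¹ y, b⁻¹ z, out x ?_, out y ?_, out z hz0,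
    fun h => hxy (b⁻¹.injective h), Or.inr ⟨b, hb, b1, by simpa using hx, by simpa using hy⟩, ?_⟩
  · rintro u v (h | ⟨g, hg, g1, g2, g3⟩)
    · exact Or.inl h.symm
    · exact Or.inr ⟨g, hg, g1, g3, g2⟩
  · rintro u v w (h | ⟨g, hg, g1, g2, g3⟩) (h' | ⟨g', hg', g1', g2', g3'⟩)
    · exact Or.inl (h.trans h')
    · exact Or.inr ⟨g', hg', g1', h ▸ g2', g3'⟩
    · exact Or.inr ⟨g, hg, g1, g2, h' ▸ g3⟩
    · exact Or.inr ⟨g, hg, g1, g2, (key g hg g' hg' g1 g1' v g3 g2' w).2 g3'⟩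
  · intro k hk u v
    refine ⟨hc1 k hk u v, fun h => hc1 k⁻¹ (K.inv_mem hk) _ _ ?_⟩
    simpa using h
  · rintro rfl; exact h0 hx
  · rintro rfl; exact h0 hy
  · rintro (h | ⟨g, hg, g1, g2, g3⟩)
    · exact hz (b⁻¹.injective h ▸ hy)
    · have := (key g hg b hb g1 b1 _ g2 (by simpa using hy) _).1 g3
      exact hz (by simpa using this)

theorem one_conj (TY : BoxTY) (TY7 : BoxTY7) (e₁ : Ext Y H K B₁ {a}) (e₂ : Ext Y H K B₂ {a})
    (tr : ∀ x y, x ≠ a → y ≠ a → ∃ k ∈ K, k x = y) :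
    ∃ g : Perm Δ, g a = a ∧ ∀ x, x ∈ B₁ ↔ g * x * g⁻¹ ∈ B₂ := by
  have h5 := e₁.five
  rw [Finset.card_singleton] at h5
  have : ∃ g : Perm Δ, ∀ x, x ∈ B₁ ↔ g * x * g⁻¹ ∈ B₂ := by
    by_cases h7 : Fintype.card Δ = 7
    · exact TY7 Δ Y B₁ B₂ h7 e₁.alt e₁.bm e₂.bm e₁.nB e₂.nB (one_tw e₁ tr) (one_tw e₂ tr) (card_eq e₁ e₂)
    · exact TY Δ Y B₁ B₂ (by omega) e₁.alt e₁.bm e₂.bm e₁.nB e₂.nB (one_pr2 e₁ tr h7) (one_pr2 e₂ tr h7) (card_eq e₁ e₂)
  obtain ⟨g, hg⟩ := this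
  obtain ⟨b, hb, b1⟩ := one_to e₂ (g a)
  exact ⟨b * g, b1, conj_mul hb hg⟩

theorem one_cases (e : Ext Y H K B {a}) :
    (∃ O : Set Δ, Rel K {a} (Side O)) ∨ ∀ x y, x ≠ a → y ≠ a → ∃ k ∈ K, k x = y := by
  by_cases tr : ∀ x y, x ≠ a → y ≠ a → ∃ k ∈ K, k x = y
  · exact Or.inr tr
  left
  push Not at tr
  obtain ⟨u, w, hu, hw, hw'⟩ := tr
  let O : Set Δ := {w | ∃ k ∈ K, k u = w}
  have hO : ∀ k ∈ K, ∀ x, k x ∈ O ↔ x ∈ O := by
    intro k hk x
    constructor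
    · rintro ⟨l, hl, l3⟩
      exact ⟨k⁻¹ * l, K.mul_mem (K.inv_mem hk) hl, by rw [Perm.mul_apply, l3]; simp⟩
    · rintro ⟨l, hl, l3⟩
      exact ⟨k * l, K.mul_mem hk hl, by rw [Perm.mul_apply, l3]⟩
  have hK : K ≤ Pres (Side O) := fun k hk x y => iff_congr (hO k hk x) (hO k hk y)
  exact ⟨O, rel_side e hK (by simpa using hu) (by simpa using hw) ⟨1, K.one_mem, rfl⟩ fun ⟨k, hk, k3⟩ => hw' k hk k3⟩

theorem one_eq (e₁ : Ext Y H K B₁ {a}) (e₂ : Ext Y H K B₂ {a}) (tr : ∀ x y, x ≠ a → y ≠ a → ∃ k ∈ K, k x = y)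
    {g : Perm Δ} (hY : g ∈ Y) (hg : g a = a) (hc : ∀ x, x ∈ B₁ ↔ g * x * g⁻¹ ∈ B₂) : B₁ = B₂ := by
  refine eq_of_conj e₁ e₂ ?_ hY (stab_of_fix fun x hx => by rw [Finset.mem_singleton.1 hx, hg]) hc
  obtain ⟨p, q, s, hp, hq, hs, e1, e2, e3, r1, r2⟩ := three_side e₁.five ∅
  rw [Finset.mem_singleton] at hp hq
  obtain ⟨k, hk, k1⟩ := tr p q hp hq
  refine ⟨k, hk, ?_, fun x hx => by rw [Finset.mem_singleton.1 hx, one_fix e₁ (kH e₁ hk)]⟩
  rintro rfl; exact e1 k1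

end One

end Cfsg.Agent.SM.Alt.Xt

namespace Cfsg.Agent.SM.Alt

open Cfsg Equiv Subgroup MulAction Xt

/-- **SM-A7** -/
theorem boxExt_of (TY : BoxTY) (TY7 : BoxTY7) : BoxExt := by
  intro Δ _ _ Y H K A
  refine ⟨fun hA B₁ B₂ B₃ e₁ e₂ e₃ => ?_, fun hA hY B₁ B₂ e₁ e₂ => ?_, fun hA hY B₁ B₂ e₁ e₂ => ?_⟩
  · obtain ⟨a, rfl⟩ := Finset.card_eq_one.1 hA
    rcases one_cases e₁ with ⟨O, R⟩ | tr
    · exact Or.inl (one_intr e₁ e₂ R)
    obtain ⟨g, g1, g2⟩ := one_conj TY TY7 e₁ e₂ tr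
    obtain ⟨f, f1, f2⟩ := one_conj TY TY7 e₁ e₃ tr
    rcases Int.units_eq_one_or (Perm.sign g) with hg | hg
    · exact Or.inl (one_eq e₁ e₂ tr (e₁.alt (Perm.mem_alternatingGroup.2 hg)) g1 g2)
    rcases Int.units_eq_one_or (Perm.sign f) with hf | hf
    · exact Or.inr (Or.inl (one_eq e₁ e₃ tr (e₁.alt (Perm.mem_alternatingGroup.2 hf)) f1 f2))
    refine Or.inr (Or.inr (one_eq e₂ e₃ tr (g := f * g⁻¹) (e₁.alt ?_) ?_ fun x => ?_))
    · rw [Perm.mem_alternatingGroup, Perm.sign_mul, Perm.sign_inv, hf, hg]; decide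
    · rw [Perm.mul_apply, Perm.inv_eq_iff_eq.2 g1.symm, f1]
    · have h1 := g2 (g⁻¹ * x * g)
      have h2 := f2 (g⁻¹ * x * g)
      have e1 : g * (g⁻¹ * x * g) * g⁻¹ = x := by group
      have e2 : f * (g⁻¹ * x * g) * f⁻¹ = f * g⁻¹ * x * (f * g⁻¹)⁻¹ := by group
      rw [e1] at h1
      rw [e2] at h2
      exact h1.symm.trans h2
  · obtain ⟨a, rfl⟩ := Finset.card_eq_one.1 hA
    rcases one_cases e₁ with ⟨O, R⟩ | tr
    · exact one_intr e₁ e₂ R
    obtain ⟨g, g1, g2⟩ := one_conj TY TY7 e₁ e₂ tr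
    exact one_eq e₁ e₂ tr (hY ▸ mem_top g) g1 g2
  · obtain ⟨a, a', ha, rfl⟩ := Finset.card_eq_two.1 hA
    subst hY
    exact two_main TY e₁ e₂ ha

end Cfsg.Agent.SM.Alt
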