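import Cfsg.Agent.SM.Defs

/-!
# SM (S3570), alternating socle: the boxes on 2-transitive actions (helper42, plan in `notes/SM/alt.md`)

* `Act T Δ c`: a faithful 2-transitive action of degree `c`.
* `One2`, `Two2`: at most one, at most two such actions up to isomorphism; `Row2`: one up to `Aut T`.
* `BoxTY`: two 2-primitive maximal subgroups of `A_c` or `S_c` of the same order are conjugate in `S_c`.
-/

set_option autoImplicit false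
set_option linter.unusedVariables false

namespace Cfsg.Agent.SM.Alt

open Cfsg Equiv Subgroup MulAction

/-- a faithful 2-transitive action of degree `c` -/
structure Act (T Δ : Type) [Group T] [MulAction T Δ] (c : ℕ) : Prop where
  fin : Finite Δ
  card : Nat.card Δ = c
  faith : ∀ t : T, (∀ x : Δ, t • x = x) → t = 1
  two : ∀ a b x y : Δ, a ≠ b → x ≠ y → ∃ t : T, t • a = x ∧ t • b = y

/-- two actions with a common point stabiliser -/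
def Same (T Δ₁ Δ₂ : Type) [Group T] [MulAction T Δ₁] [MulAction T Δ₂] : Prop :=
  ∃ (a₁ : Δ₁) (a₂ : Δ₂), ∀ t : T, t • a₁ = a₁ ↔ t • a₂ = a₂

/-- one 2-transitive action of degree `c` -/
def One2 (T : Type) [Group T] (c : ℕ) : Prop :=
  ∀ (Δ₁ Δ₂ : Type) [MulAction T Δ₁] [MulAction T Δ₂], Act T Δ₁ c → Act T Δ₂ c → Same T Δ₁ Δ₂

/-- at most two 2-transitive actions of degree `c` -/
def Two2 (T : Type) [Group T] (c : ℕ) : Prop :=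
  ∀ (Δ₁ Δ₂ Δ₃ : Type) [MulAction T Δ₁] [MulAction T Δ₂] [MulAction T Δ₃], Act T Δ₁ c → Act T Δ₂ c → Act T Δ₃ c →
    Same T Δ₁ Δ₂ ∨ Same T Δ₁ Δ₃ ∨ Same T Δ₂ Δ₃

/-- one 2-transitive action of degree `c` up to automorphisms -/
def Row2 (T : Type) [Group T] (c : ℕ) : Prop :=
  ∀ (Δ₁ Δ₂ : Type) [MulAction T Δ₁] [MulAction T Δ₂], Act T Δ₁ c → Act T Δ₂ c →
    ∃ (γ : MulAut T) (a₁ : Δ₁) (a₂ : Δ₂), ∀ t : T, t • a₁ = a₁ ↔ γ t • a₂ = a₂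

/-- transitive on the 3-subsets -/
def Hom3 (T Δ : Type) [Group T] [MulAction T Δ] : Prop :=
  ∀ a b e x y z : Δ, a ≠ b → a ≠ e → b ≠ e → x ≠ y → x ≠ z → y ≠ z →
    ∃ t : T, t • a ∈ ({x, y, z} : Set Δ) ∧ t • b ∈ ({x, y, z} : Set Δ) ∧ t • e ∈ ({x, y, z} : Set Δ)

/-- lines: the solutions of `t ^ p = 1` that fix `a` and `b` fix a third point, and one of them is not trivial -/
def Lin (T Δ : Type) [Group T] [MulAction T Δ] : Prop :=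
  ∃ (p : ℕ) (a b x : Δ), a ≠ b ∧ x ≠ a ∧ x ≠ b ∧ (∀ t : T, t ^ p = 1 → t • a = a → t • b = b → t • x = x) ∧
    ∃ t : T, t ≠ 1 ∧ t ^ p = 1 ∧ t • a = a ∧ t • b = b

/-- rank one: at most `c` Sylow `p`-subgroups, of order `c - 1` -/
def Rk1 (T : Type) [Group T] (c : ℕ) : Prop :=
  ∃ (p : ℕ) (_ : Fact p.Prime), Nat.card (Sylow p T) ≤ c ∧ ∀ P : Sylow p T, Nat.card (P : Subgroup T) + 1 = c

/-- rank one with non-abelian Sylow `p`-subgroups -/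
def Rk1N (T : Type) [Group T] (c : ℕ) : Prop :=
  ∃ (p : ℕ) (_ : Fact p.Prime), Nat.card (Sylow p T) ≤ c ∧
    ∀ P : Sylow p T, Nat.card (P : Subgroup T) + 1 = c ∧ ∃ x ∈ P, ∃ y ∈ P, x * y ≠ y * x

theorem One2.two {T : Type} [Group T] {c : ℕ} (h : One2 T c) : Two2 T c := fun Δ₁ Δ₂ _ _ _ _ h1 h2 _ => Or.inl (h Δ₁ Δ₂ h1 h2)

theorem One2.row {T : Type} [Group T] {c : ℕ} (h : One2 T c) : Row2 T c := fun Δ₁ Δ₂ _ _ h1 h2 =>
  let ⟨a₁, a₂, h3⟩ := h Δ₁ Δ₂ h1 h2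
  ⟨1, a₁, a₂, h3⟩

theorem Rk1N.rk1 {T : Type} [Group T] {c : ℕ} (h : Rk1N T c) : Rk1 T c :=
  let ⟨p, hp, h1, h2⟩ := h
  ⟨p, hp, h1, fun P => (h2 P).1⟩

/-- `Sp_2m(2)` on the quadratic forms of one type -/
def BoxSp : Prop := ∀ (T : Type) [Group T] (F : Type) [Field F] [Fintype F] (m c : ℕ), Fintype.card F = 2 → 3 ≤ m →
  Nonempty (T ≃* PSp m F) → (c = 2 ^ (m - 1) * (2 ^ m + 1) ∨ c = 2 ^ (m - 1) * (2 ^ m - 1)) →
  One2 T c ∧ ∀ (Δ : Type) [MulAction T Δ], Act T Δ c → ¬ Hom3 T Δ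

/-- `L_d(q)`, `d ≥ 3`, on points or hyperplanes -/
def BoxLin : Prop := ∀ (T : Type) [Group T] (F : Type) [Field F] [Fintype F] (d c : ℕ), 3 ≤ d →
  Nonempty (T ≃* Matrix.ProjectiveSpecialLinearGroup (Fin d) F) → c * (Fintype.card F - 1) = Fintype.card F ^ d - 1 →
  ∀ (Δ : Type) [MulAction T Δ], Act T Δ c → Lin T Δ

/-- the groups of Lie rank one -/
def BoxR1 : Prop := ∀ (T : Type) [Group T] (F : Type) [Field F] [Fintype F],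
  (Nonempty (T ≃* Matrix.ProjectiveSpecialLinearGroup (Fin 2) F) → Rk1 T (Fintype.card F + 1)) ∧
  (∀ q : ℕ, 3 ≤ q → Fintype.card F = q ^ 2 → Nonempty (T ≃* PSU 3 F q) → Rk1N T (q ^ 3 + 1)) ∧
  (∀ m : ℕ, 1 ≤ m → Fintype.card F = 2 ^ (2 * m + 1) → Nonempty (T ≃* ↥(Lie.Sz F (2 ^ (m + 1)))) →
    Rk1N T (Fintype.card F ^ 2 + 1)) ∧
  (∀ m : ℕ, 1 ≤ m → Fintype.card F = 3 ^ (2 * m + 1) → Nonempty (T ≃* ↥(Lie.twistedG2 F (3 ^ m))) →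
    Rk1N T (Fintype.card F ^ 3 + 1))

/-- the Mathieu groups -/
def BoxMat : Prop := ∀ (T : Type) [Group T],
  (Spor.IsoM11 T → One2 T 11 ∧ One2 T 12) ∧ (Spor.IsoM12 T → Row2 T 12 ∧ Two2 T 12) ∧ (Spor.IsoM22 T → One2 T 22) ∧
  (Spor.IsoM23 T → One2 T 23) ∧ (Spor.IsoM24 T → One2 T 24)

/-- `L_2(11)` of degree 11 and `A_7` of degree 15 -/
def BoxSm : Prop := ∀ (T : Type) [Group T],
  (∀ (F : Type) [Field F] [Fintype F], Fintype.card F = 11 →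
    Nonempty (T ≃* Matrix.ProjectiveSpecialLinearGroup (Fin 2) F) → Row2 T 11 ∧ Two2 T 11) ∧
  (Nonempty (T ≃* ↥(alternatingGroup (Fin 7))) → Row2 T 15 ∧ Two2 T 15)

/-- `HS` of degree 176 -/
def BoxHS : Prop := ∀ (T : Type) [Group T], Spor.IsoHS T → Row2 T 176 ∧ Two2 T 176

/-- `Co_3` of degree 276 -/
def BoxCo : Prop := ∀ (T : Type) [Group T], Spor.IsoCo3 T → One2 T 276

/-- `B` is transitive and the stabiliser of a point is primitive on the other points -/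
structure Pr2 {Δ : Type} (B : Subgroup (Perm Δ)) : Prop where
  tr : ∀ a b : Δ, ∃ g ∈ B, g a = b
  blk : ∀ (a : Δ) (F : Set Δ), a ∉ F → (∀ g ∈ B, g a = a → g '' F = F ∨ Disjoint (g '' F) F) → F.Subsingleton ∨ F = {a}ᶜ

/-- **types**: 2-primitive maximal subgroups of `A_c` or `S_c` of the same order are conjugate in `S_c` -/
def BoxTY : Prop := ∀ (Δ : Type) [Fintype Δ] [DecidableEq Δ] (Y B₁ B₂ : Subgroup (Perm Δ)), 6 ≤ Fintype.card Δ →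
  alternatingGroup Δ ≤ Y → B₁ ⋖ Y → B₂ ⋖ Y → ¬ alternatingGroup Δ ≤ B₁ → ¬ alternatingGroup Δ ≤ B₂ → Pr2 B₁ → Pr2 B₂ →
  Nat.card B₁ = Nat.card B₂ → ∃ g : Perm Δ, ∀ x, x ∈ B₁ ↔ g * x * g⁻¹ ∈ B₂

/-- the table of the alternating family -/
def RA : Tab := fun t n k =>
  (k = 2 ∧ ((∃ m, 5 ≤ m ∧ 2 * t = m.factorial) ∨
    ∃ c j, 2 ≤ j ∧ j ≤ 5 ∧ 2 * j ≤ c ∧ n = c.choose j ∧ c * (c - 1) ∣ t ∧ n ∣ t)) ∨
  (k = 6 ∧ t = 360) ∨ (k = 4 ∧ ((t = 60 ∧ (n = 15 ∨ n = 20)) ∨ ((t = 2520 ∨ t = 20160) ∧ n = 105)))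

end Cfsg.Agent.SM.Alt
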