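import Cfsg.Agent.SM.Alt.HSMod
import Cfsg.Agent.SM.Alt.Defs

/-!
# SM-A4: `HS` has at most two 2-transitive actions of degree 176, one up to automorphisms (helper21)

A point stabiliser `L` containing the 5-subgroup `P` has an orbit `{0}` or `{0} ∪ [51, 175]` on the model
(the length divides 252000); `L` is maximal, so it is the stabiliser of that set.
-/

set_option autoImplicit false
set_option maxRecDepth 100000

namespace Cfsg.Agent.SM.Alt.HS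

open Cfsg.Agent.SporadicA.PermTab Cfsg.Agent.HN.HS100 Equiv

/-- unions of orbits of `P` -/
def Or3 (b1 b2 b3 : Bool) (i : ℕ) : Bool :=
  i == 0 || (b1 && decide (1 ≤ i) && decide (i < 26)) || (b2 && decide (26 ≤ i) && decide (i < 51)) ||
    (b3 && decide (51 ≤ i) && decide (i < 176))

theorem cnt3 : ∀ b1 b2 b3 : Bool, cntB (Or3 b1 b2 b3) 352 (1 + 25 * b1.toNat + 25 * b2.toNat + 125 * b3.toNat) = true := by
  decide +kernel

theorem dvd3 : ∀ b1 b2 b3 : Bool, 1 + 25 * b1.toNat + 25 * b2.toNat + 125 * b3.toNat ∣ 252000 →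
    b1 = false ∧ b2 = false := by decide +kernel

/-- `t` stabilises the set number `b` -/
def St (b : Bool) (t : Q) : Prop := ∀ i : Fin 352, Or3 false false b (ρ t i) = Or3 false false b i

theorem St.mul {b : Bool} {s t : Q} (hs : St b s) (ht : St b t) : St b (s * t) := fun i => by
  rw [map_mul, Perm.mul_apply, hs, ht]

theorem St.inv {b : Bool} {s : Q} (hs : St b s) : St b s⁻¹ := fun i => by
  rw [← hs (ρ s⁻¹ i), ← Perm.mul_apply, ← map_mul, mul_inv_cancel, map_one, Perm.one_apply]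

theorem not_St (b : Bool) : ¬ St b wq := by
  rw [St, ρ_wq]
  revert b
  decide +kernel

theorem St_false {t : Q} : St false t ↔ ρ t 0 = 0 := by
  have h0 : ∀ i : Fin 352, Or3 false false false i = true ↔ i = 0 := by decide +kernel
  refine ⟨fun h => (h0 _).1 ((h 0).trans ((h0 0).2 rfl)), fun h i => Bool.eq_iff_iff.2 ?_⟩
  rw [h0, h0]
  exact ⟨fun h1 => (ρ t).injective (h1.trans h.symm), fun h1 => h1 ▸ h⟩

theorem smul_orb {G X : Type} [Group G] [MulAction G X] {a x : X} (g : G) :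
    g • x ∈ MulAction.orbit G a ↔ x ∈ MulAction.orbit G a :=
  ⟨fun ⟨k, hk⟩ => ⟨g⁻¹ * k, (mul_smul _ _ _).trans (inv_smul_eq_iff.2 hk)⟩,
    fun ⟨k, hk⟩ => ⟨g * k, (mul_smul _ _ _).trans (congrArg _ hk)⟩⟩

/-- a subgroup of order 252000 containing `P` stabilises one of the two sets -/
theorem le_St (L : Subgroup Q) (hP : P ≤ L) (hL : Nat.card L = 252000) : ∃ b, ∀ t ∈ L, St b t := by
  classical
  let O : Set (Fin 352) := MulAction.orbit (L.map ρ) (0 : Fin 352)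
  have hinv : ∀ g ∈ L.map ρ, ∀ i, g i ∈ O ↔ i ∈ O := fun g hg i => smul_orb (⟨g, hg⟩ : L.map ρ)
  have hO : ∀ i : Fin 352, i ∈ O ↔ Or3 (decide (1 ∈ O)) (decide (26 ∈ O)) (decide (51 ∈ O)) i = true := by
    intro i
    have hm := Subgroup.map_mono (f := ρ) hP
    simp only [Or3, Bool.or_eq_true, Bool.and_eq_true, decide_eq_true_eq, beq_iff_eq]
    constructor
    · intro hi
      have h1 : (i : ℕ) < 176 := by
        obtain ⟨⟨_, t, -, rfl⟩, rfl⟩ := hi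
        exact ρ_lt t
      by_cases h2 : (i : ℕ) = 0
      · exact Or.inl (Or.inl (Or.inl h2))
      by_cases h3 : (i : ℕ) < 26
      · obtain ⟨g, hg, rfl⟩ := orb1 i (by omega) h3
        exact Or.inl (Or.inl (Or.inr ⟨⟨(hinv g (hm hg) _).1 hi, by omega⟩, h3⟩))
      by_cases h4 : (i : ℕ) < 51
      · obtain ⟨g, hg, rfl⟩ := orb2 i (by omega) h4
        exact Or.inl (Or.inr ⟨⟨(hinv g (hm hg) _).1 hi, by omega⟩, h4⟩)
      · obtain ⟨g, hg, rfl⟩ := orb3 i (by omega) h1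
        exact Or.inr ⟨⟨(hinv g (hm hg) _).1 hi, by omega⟩, h1⟩
    · rintro (((h | ⟨⟨h1, h2⟩, h3⟩) | ⟨⟨h1, h2⟩, h3⟩) | ⟨⟨h1, h2⟩, h3⟩)
      · rw [show i = 0 from Fin.ext h]
        exact MulAction.mem_orbit_self _
      · obtain ⟨g, hg, rfl⟩ := orb1 i h2 h3
        exact (hinv g (hm hg) _).2 h1
      · obtain ⟨g, hg, rfl⟩ := orb2 i h2 h3
        exact (hinv g (hm hg) _).2 h1
      · obtain ⟨g, hg, rfl⟩ := orb3 i h2 h3
        exact (hinv g (hm hg) _).2 h1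
  generalize decide (1 ∈ O) = b1, decide (26 ∈ O) = b2, decide (51 ∈ O) = b3 at hO
  have h1 : O.ncard = 1 + 25 * b1.toNat + 25 * b2.toNat + 125 * b3.toNat := by
    rw [← card_fin_of_cntB _ _ _ (cnt3 b1 b2 b3), ← Set.ncard_coe_finset]
    congr 1
    ext i
    simpa using hO i
  have h2 : O.ncard ∣ 252000 :=
    (Dvd.intro _ (card_eq_mul_card_ps (L.map ρ) 0).symm).trans (hL ▸ Subgroup.card_map_dvd L ρ)
  obtain ⟨rfl, rfl⟩ := dvd3 b1 b2 b3 (h1 ▸ h2)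
  exact ⟨b3, fun t ht i => Bool.eq_iff_iff.2 ((hO _).symm.trans ((hinv _ ⟨t, ht, rfl⟩ i).trans (hO i)))⟩

/-- 2-transitive of degree 176 -/
structure Ac {Δ : Type} (f : Q →* Perm Δ) : Prop where
  card : Nat.card Δ = 176
  two : ∀ a b x y : Δ, a ≠ b → x ≠ y → ∃ t, f t a = x ∧ f t b = y

theorem Ac.tr {Δ : Type} {f : Q →* Perm Δ} (h : Ac f) (a x : Δ) : ∃ t, f t a = x := by
  have : Finite Δ := Nat.finite_of_card_ne_zero (by rw [h.card]; norm_num)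
  have : Nontrivial Δ := Finite.one_lt_card_iff_nontrivial.1 (by rw [h.card]; norm_num)
  obtain ⟨b, hb⟩ := exists_ne a
  obtain ⟨y, hy⟩ := exists_ne x
  obtain ⟨t, ht, -⟩ := h.two a b x y hb.symm hy.symm
  exact ⟨t, ht⟩

theorem Ac.tw {Δ : Type} {f : Q →* Perm Δ} (h : Ac f) : Ac (f.comp γ.toMonoidHom) :=
  ⟨h.card, fun a b x y h1 h2 =>
    let ⟨t, ht⟩ := h.two a b x y h1 h2
    ⟨γ.symm t, by simpa using ht⟩⟩

/-- the type of an action -/
theorem Ac.ty {Δ : Type} {f : Q →* Perm Δ} (h : Ac f) : ∃ (a : Δ) (b : Bool), ∀ t, f t a = a ↔ St b t := by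
  have : Finite Δ := Nat.finite_of_card_ne_zero (by rw [h.card]; norm_num)
  let : MulAction Q Δ := MulAction.compHom Δ f
  have : Fact (Nat.Prime 5) := ⟨by norm_num⟩
  obtain ⟨a, ha⟩ := P_pg.nonempty_fixed_point_of_prime_not_dvd_card Δ (by rw [h.card]; norm_num)
  have : MulAction.IsPretransitive Q Δ := ⟨h.tr⟩
  have h1 := (MulAction.stabilizer Q a).card_mul_index
  rw [MulAction.index_stabilizer_of_transitive, h.card, HN.AutBound.card_Q] at h1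
  obtain ⟨b, hb⟩ := le_St (MulAction.stabilizer Q a) (fun t ht => ha ⟨t, ht⟩) (by omega)
  have hb' : ∀ t, f t a = a → St b t := hb
  refine ⟨a, b, fun m => ⟨hb' m, fun hm => ?_⟩⟩
  by_contra hma
  by_cases hw : f wq a = a
  · exact not_St b (hb' _ hw)
  obtain ⟨s, hs1, hs2⟩ := h.two a (f m a) a (f wq a) (Ne.symm hma) (Ne.symm hw)
  have h2 : St b (wq⁻¹ * (s * m)) := hb' _ (by
    rw [map_mul, map_mul, Perm.mul_apply, Perm.mul_apply, hs2, map_inv, Perm.inv_eq_iff_eq])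
  have h3 := ((hb' s hs1).mul hm).mul h2.inv
  rw [mul_inv_rev, inv_inv, mul_inv_cancel_left] at h3
  exact not_St b h3

/-- the twist of the first type has the second type -/
theorem Ac.sw {Δ : Type} {f : Q →* Perm Δ} (h : Ac f) {a : Δ} (ha : ∀ t, f t a = a ↔ St false t) :
    ∃ a' : Δ, ∀ t, f (γ t) a' = a' ↔ St true t := by
  obtain ⟨a', b, hb⟩ := h.tw.ty
  cases b
  · exfalso
    obtain ⟨g, rfl⟩ := h.tr a a'
    have key : ∀ t, ρ t 0 = 0 → ρ (γ t) (ρ g 0) = ρ g 0 := by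
      intro t ht
      have h1 : f (γ t) (f g a) = f g a := (hb t).2 (St_false.2 ht)
      have h2 := St_false.1 ((ha (g⁻¹ * (γ t * g))).1 (by
        rw [map_mul, map_mul, Perm.mul_apply, Perm.mul_apply, h1, map_inv, Perm.inv_eq_iff_eq]))
      rwa [map_mul, map_mul, Perm.mul_apply, Perm.mul_apply, map_inv, Perm.inv_eq_iff_eq] at h2
    have h1 := key xq (by rw [ρ_xq]; decide +kernel)
    have h2 := key yq (by rw [ρ_yq]; decide +kernel)
    rw [γ_xq, ρ_xq] at h1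
    rw [γ_yq, ρ_wq] at h2
    exact no_fix _ (ρ_lt g) h1 h2
  · exact ⟨a', hb⟩

theorem row {Δ₁ Δ₂ : Type} {f₁ : Q →* Perm Δ₁} {f₂ : Q →* Perm Δ₂} (h₁ : Ac f₁) (h₂ : Ac f₂) :
    ∃ (δ : MulAut Q) (a₁ : Δ₁) (a₂ : Δ₂), ∀ t, f₁ t a₁ = a₁ ↔ f₂ (δ t) a₂ = a₂ := by
  obtain ⟨a₁, b₁, e₁⟩ := h₁.ty
  obtain ⟨a₂, b₂, e₂⟩ := h₂.ty
  cases b₁ <;> cases b₂
  · exact ⟨1, a₁, a₂, fun t => (e₁ t).trans (e₂ t).symm⟩
  · obtain ⟨a, ha⟩ := h₁.sw e₁
    refine ⟨γ.symm, a, a₂, fun t => ?_⟩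
    rw [e₂, ← ha, MulEquiv.apply_symm_apply]
  · obtain ⟨a, ha⟩ := h₂.sw e₂
    exact ⟨γ, a₁, a, fun t => (e₁ t).trans (ha t).symm⟩
  · exact ⟨1, a₁, a₂, fun t => (e₁ t).trans (e₂ t).symm⟩

theorem ac {T Δ : Type} [Group T] [MulAction T Δ] (e : Q ≃* T) (h : Act T Δ 176) :
    Ac ((MulAction.toPermHom T Δ).comp e.toMonoidHom) :=
  ⟨h.card, fun a b x y h1 h2 =>
    let ⟨t, ht⟩ := h.two a b x y h1 h2
    ⟨e.symm t, by simpa using ht⟩⟩

theorem same {T Δ₁ Δ₂ : Type} [Group T] [MulAction T Δ₁] [MulAction T Δ₂] (e : Q ≃* T) {a₁ : Δ₁} {a₂ : Δ₂} {b : Bool}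
    (e₁ : ∀ t, ((MulAction.toPermHom T Δ₁).comp e.toMonoidHom) t a₁ = a₁ ↔ St b t)
    (e₂ : ∀ t, ((MulAction.toPermHom T Δ₂).comp e.toMonoidHom) t a₂ = a₂ ↔ St b t) : Same T Δ₁ Δ₂ :=
  ⟨a₁, a₂, fun t => by simpa using (e₁ (e.symm t)).trans (e₂ (e.symm t)).symm⟩

/-- **`HS` of degree 176** -/
theorem boxHS : BoxHS := by
  rintro T _ ⟨e0⟩
  obtain ⟨e1⟩ := HN.AutHS.nonempty_Q.1
  let e : Q ≃* T := e1.trans e0.symm
  refine ⟨fun Δ₁ Δ₂ _ _ h₁ h₂ => ?_, fun Δ₁ Δ₂ Δ₃ _ _ _ h₁ h₂ h₃ => ?_⟩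
  · obtain ⟨δ, a₁, a₂, h⟩ := row (ac e h₁) (ac e h₂)
    exact ⟨(e.symm.trans δ).trans e, a₁, a₂, fun t => by simpa using h (e.symm t)⟩
  · obtain ⟨a₁, b₁, e₁⟩ := (ac e h₁).ty
    obtain ⟨a₂, b₂, e₂⟩ := (ac e h₂).ty
    obtain ⟨a₃, b₃, e₃⟩ := (ac e h₃).ty
    cases b₁ <;> cases b₂ <;> cases b₃
    all_goals first
      | exact Or.inl (same e e₁ e₂)
      | exact Or.inr (Or.inl (same e e₁ e₃))
      | exact Or.inr (Or.inr (same e e₂ e₃))

end Cfsg.Agent.SM.Alt.HS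

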