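import Cfsg.Agent.SM.Alt.Defs
import Cfsg.Agent.H561.PPSL

/-!
# SM (S3570), alternating socle: the lines of `L_d(q)` (helper39)
-/

set_option autoImplicit false

namespace Cfsg.Agent.SM.Alt

open Matrix MulAction Cfsg.Agent.ClassicalGeometry.AutPSL.Root Cfsg.Agent.H561.PPSL
open scoped LinearAlgebra.Projectivization

namespace LinB

theorem trans {T Δ : Type} [Group T] [MulAction T Δ] {c : ℕ} (h : Act T Δ c) (hc : 1 < c) : IsPretransitive T Δ := by
  have := h.fin
  have : Nontrivial Δ := Finite.one_lt_card_iff_nontrivial.1 (h.card ▸ hc)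
  refine ⟨fun x y => ?_⟩
  obtain ⟨b, hb⟩ := exists_ne x
  obtain ⟨b', hb'⟩ := exists_ne y
  obtain ⟨t, ht, -⟩ := h.two x b y b' hb.symm hb'.symm
  exact ⟨t, ht⟩

variable {ι F : Type} [Fintype ι] [DecidableEq ι] [Field F]

theorem pow_smul_eigen {g : Matrix.SpecialLinearGroup ι F} {v : ι → F} {l : F} (h : l • v = g • v) (n : ℕ) :
    g ^ n • v = l ^ n • v := by
  induction n with
  | zero => rw [pow_zero, pow_zero, one_smul, one_smul]
  | succ n ih => rw [pow_succ, mul_smul, ← h, smul_comm, ih, smul_smul, pow_succ']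

/-- a `p`-element which fixes two points fixes the line -/
theorem fix_add {p : ℕ} [Fact p.Prime] [CharP F p] {g : Matrix.SpecialLinearGroup ι F}
    (hg : g ^ p ∈ Subgroup.center (Matrix.SpecialLinearGroup ι F)) {u v : ι → F} (hu : u ≠ 0) (hv : v ≠ 0) (hw : u + v ≠ 0)
    (h1 : g • Projectivization.mk F u hu = Projectivization.mk F u hu)
    (h2 : g • Projectivization.mk F v hv = Projectivization.mk F v hv) :
    g • Projectivization.mk F (u + v) hw = Projectivization.mk F (u + v) hw := by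
  rw [Projectivization.smul_mk, Projectivization.mk_eq_mk_iff'] at h1 h2 ⊢
  obtain ⟨l, h1⟩ := h1
  obtain ⟨m, h2⟩ := h2
  obtain ⟨z, -, hz⟩ := Matrix.SpecialLinearGroup.mem_center_iff.1 hg
  have h3 : ∀ x : ι → F, g ^ p • x = z • x := fun x => by
    rw [H79.MinIdxSL.smul_eq_mulVec', ← hz, scalar_apply, diagonal_const_mulVec]
  have h4 := smul_left_injective F hu ((pow_smul_eigen h1 p).symm.trans (h3 u))
  have h5 := smul_left_injective F hv ((pow_smul_eigen h2 p).symm.trans (h3 v))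
  have h6 : l = m := frobenius_inj F p (h4.trans h5.symm)
  exact ⟨l, by rw [smul_add, smul_add, h1, h6, h2]⟩

theorem tv_pow {i j : ι} (hij : i ≠ j) (n : ℕ) :
    Matrix.SpecialLinearGroup.transvection hij (1 : F) ^ n = Matrix.SpecialLinearGroup.transvection hij (n : F) := by
  induction n with
  | zero => rw [pow_zero, Nat.cast_zero, Matrix.SpecialLinearGroup.transvection_coeff_zero]
  | succ n ih => rw [pow_succ, ih, Nat.cast_succ, Matrix.SpecialLinearGroup.transvection_add]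

theorem tv_fix {i j k : ι} (hij : i ≠ j) (hk : k ≠ j) :
    Matrix.SpecialLinearGroup.transvection hij (1 : F) • (Pi.single k 1 : ι → F) = Pi.single k 1 := by
  simp [Matrix.SpecialLinearGroup.smul_def, -mulVec_single, Matrix.SpecialLinearGroup.transvection_coe, add_mulVec, single_mulVec_eq, hk]

omit [Fintype ι] [DecidableEq ι] in
theorem mk_ne {u v : ι → F} (hu : u ≠ 0) (hv : v ≠ 0) {i : ι} (h1 : u i ≠ 0) (h2 : v i = 0) :
    Projectivization.mk F u hu ≠ Projectivization.mk F v hv := fun h => by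
  obtain ⟨l, hl⟩ := (Projectivization.mk_eq_mk_iff' F u v hu hv).1 h
  exact h1 (by rw [← hl, Pi.smul_apply, h2, smul_zero])

end LinB

open LinB

/-- **[Lin]** -/
theorem boxLin : BoxLin := by
  intro T _ F _ _ d c hd ⟨e⟩ hc Δ _ h
  have hq : 1 < Fintype.card F := Fintype.one_lt_card
  have hc1 : 1 < c := by
    have h1 : Fintype.card F ^ 1 < Fintype.card F ^ d := Nat.pow_lt_pow_right hq (by omega)
    rw [pow_one] at h1
    by_contra h2
    have h3 : c * (Fintype.card F - 1) ≤ 1 * (Fintype.card F - 1) := Nat.mul_le_mul_right _ (by omega)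
    omega
  have := trans h hc1
  have := h.fin
  obtain ⟨a⟩ : Nonempty Δ := (Nat.card_pos_iff.1 (h.card ▸ (by omega : 0 < c))).1
  obtain ⟨γ, hγ⟩ := psl_point (by omega : 2 ≤ d) ((stabilizer T a).comap e.symm.toMonoidHom) (by
    rw [Subgroup.index_comap_of_surjective _ e.symm.surjective, index_stabilizer_of_transitive, h.card, hc])
  let π : Matrix.SpecialLinearGroup (Fin d) F →* T := (e.symm.toMonoidHom.comp γ.symm.toMonoidHom).comp pr
  have hπ : Function.Surjective π := (e.symm.surjective.comp γ.symm.surjective).comp pr_surjective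
  have h1 : ∀ g, π g = 1 ↔ g ∈ Subgroup.center _ := fun g => by
    rw [← pr_eq_one_iff]
    exact (map_eq_one_iff _ e.symm.injective).trans (map_eq_one_iff _ γ.symm.injective)
  have h2 : ∀ g, π g • a = a ↔ g • pt d F ⟨0, by omega⟩ = pt d F ⟨0, by omega⟩ := fun g =>
    (hγ (γ.symm (pr g))).trans (by rw [γ.apply_symm_apply]; exact pr_mem_PP _)
  have h3 : ∀ g g', π g • a = π g' • a ↔ g • pt d F ⟨0, by omega⟩ = g' • pt d F ⟨0, by omega⟩ := fun g g' => by
    rw [← inv_smul_eq_iff, ← inv_smul_eq_iff (g := g'), ← mul_smul, ← mul_smul, ← map_inv, ← map_mul, h2]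
  obtain ⟨p, hp⟩ := CharP.exists F
  have := Fact.mk (CharP.char_is_prime F p)
  have n01 : (⟨0, by omega⟩ : Fin d) ≠ ⟨1, by omega⟩ := by simp
  have n02 : (⟨0, by omega⟩ : Fin d) ≠ ⟨2, by omega⟩ := by simp
  have n12 : (⟨1, by omega⟩ : Fin d) ≠ ⟨2, by omega⟩ := by simp
  have hs : ∀ i : Fin d, (Pi.single i 1 : Fin d → F) ≠ 0 := fun i h => one_ne_zero (α := F) (by simpa using congrFun h i)
  have hw : (Pi.single ⟨0, by omega⟩ 1 + Pi.single ⟨1, by omega⟩ 1 : Fin d → F) ≠ 0 := fun h =>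
    one_ne_zero (α := F) (by simpa [Pi.single_eq_of_ne n01] using congrFun h ⟨0, by omega⟩)
  obtain ⟨g₁, hg₁⟩ := exists_smul_eq (Matrix.SpecialLinearGroup (Fin d) F) (pt d F ⟨0, by omega⟩) (pt d F ⟨1, by omega⟩)
  obtain ⟨g₂, hg₂⟩ := exists_smul_eq (Matrix.SpecialLinearGroup (Fin d) F) (pt d F ⟨0, by omega⟩) (Projectivization.mk F _ hw)
  have h4 : ∀ g g', π g • π g' • a = π g' • a ↔ g • g' • pt d F ⟨0, by omega⟩ = g' • pt d F ⟨0, by omega⟩ := fun g g' => by
    rw [← mul_smul, ← map_mul, h3, mul_smul]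
  refine ⟨p, a, π g₁ • a, π g₂ • a, fun h5 => ?_, fun h5 => ?_, fun h5 => ?_, fun t ht h5 h6 => ?_,
    π (Matrix.SpecialLinearGroup.transvection n02 1), fun h5 => ?_, ?_, ?_, ?_⟩
  · exact mk_ne (hs _) (hs _) (i := ⟨1, by omega⟩) (by simp) (Pi.single_eq_of_ne n01.symm _)
      (hg₁.symm.trans ((h2 _).1 h5.symm))
  · exact mk_ne hw (hs _) (i := ⟨1, by omega⟩) (by simp) (Pi.single_eq_of_ne n01.symm _)
      (hg₂.symm.trans ((h2 _).1 h5))
  · exact mk_ne hw (hs _) (i := ⟨0, by omega⟩) (by simp) (Pi.single_eq_of_ne n01 _)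
      (hg₂.symm.trans (((h3 _ _).1 h5).trans hg₁))
  · obtain ⟨g, rfl⟩ := hπ t
    rw [h4, hg₁] at h6
    rw [h4, hg₂]
    exact fix_add ((h1 _).1 (by rw [map_pow, ht])) (hs _) (hs _) hw ((h2 g).1 h5) h6
  · exact one_ne_zero ((Matrix.SpecialLinearGroup.transvection_mem_center_iff n02 (1 : F)).1 ((h1 _).1 h5))
  · rw [← map_pow, tv_pow, CharP.cast_eq_zero, Matrix.SpecialLinearGroup.transvection_coeff_zero, map_one]
  · exact (h2 _).2 (mem_stab_pt (c := 1) ((tv_fix n02 n02).trans (one_smul _ _).symm))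
  · rw [h4, hg₁]
    exact mem_stab_pt (c := 1) ((tv_fix n02 n12).trans (one_smul _ _).symm)

end Cfsg.Agent.SM.Alt
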