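import Cfsg.Agent.SM.Alt.MatA
import Cfsg.Agent.H561.PPRowM
import Cfsg.Agent.H829.S8.Idx22
import Cfsg.Agent.Schreier.MEleven
import Cfsg.Agent.Schreier.MTwelve
import Cfsg.Agent.SporadicA.M11Facts
import Cfsg.Agent.SporadicA.M12Perm
import Cfsg.Agent.SporadicA.M24OfIndex
import Cfsg.Agent.KFacts.M24Two.Out
import Cfsg.Agent.S2061
import Cfsg.Agent.S0365

/-!
# SM (S3570), alternating socle: the 2-transitive actions of the Mathieu groups (helper61)
-/

set_option autoImplicit false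

namespace Cfsg.Agent.SM.Alt.Mat

open Cfsg Equiv Subgroup MulAction

variable {T : Type} [Group T]

theorem isM11 (h : Spor.IsoM11 T) : IsM11 T := by
  obtain ⟨e⟩ := h
  let f := e.trans Schreier.MEleven.equiv.symm
  obtain ⟨h1, h2⟩ := Schreier.MEleven.isM11
  exact ⟨(MulEquiv.isSimpleGroup_congr f).2 h1, by rw [← h2]; exact Nat.card_congr f.toEquiv⟩

theorem m11_eleven (hG : IsM11 T) : One2 T 11 := by
  have : Finite T := Nat.finite_of_card_ne_zero (by rw [hG.2]; norm_num)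
  exact one_of_row (row_of_rowAt (H561.PPow.rowAt_m11 hG) (by norm_num)) (SectRankFour.AutM11.exists_conj hG)

theorem m11_twelve (hG : IsM11 T) : One2 T 12 := by
  classical
  have : Finite T := Nat.finite_of_card_ne_zero (by rw [hG.2]; norm_num)
  have : Fact (Nat.Prime 11) := ⟨by norm_num⟩
  intro Δ₁ Δ₂ _ _ h1 h2
  have := nontriv h2 (by norm_num)
  have := h1.fin
  have := Fintype.ofFinite Δ₁
  have hc : Fintype.card Δ₁ = 12 := by rw [← Nat.card_eq_fintype_card, h1.card]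
  obtain ⟨a₂⟩ : Nonempty Δ₂ := inferInstance
  have c1 : ∀ a : Δ₁, Nat.card (stabilizer T a) = 660 := fun a => by
    have := (stabilizer T a).card_mul_index
    rw [index h1 (by norm_num), hG.2] at this
    omega
  have c2 : Nat.card (stabilizer T a₂) = 660 := by
    have := (stabilizer T a₂).card_mul_index
    rw [index h2 (by norm_num), hG.2] at this
    omega
  obtain ⟨x, hx⟩ := exists_prime_orderOf_dvd_card' (G := stabilizer T a₂) 11 (by rw [c2]; norm_num)
  have hσ : orderOf (toPermHom T Δ₁ x) = 11 := by rw [orderOf_injective _ (inj h1), Subgroup.orderOf_coe, hx]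
  have hct := cycleType_eq (by norm_num) (by rw [hc]; norm_num) hσ
  have hcy : (toPermHom T Δ₁ x).IsCycle := Perm.card_cycleType_eq_one.1 (by rw [hct]; rfl)
  have hs : (toPermHom T Δ₁ x).support.card = 11 := by rw [← hcy.orderOf, hσ]
  obtain ⟨a₁, ha₁⟩ : ∃ a₁, a₁ ∉ (toPermHom T Δ₁ x).support := by
    by_contra hn
    push Not at hn
    rw [Finset.eq_univ_of_forall hn, Finset.card_univ, hc] at hs
    omega
  have hsup : (toPermHom T Δ₁ x).support = Finset.univ.erase a₁ :=
    Finset.eq_of_subset_of_card_le (fun y hy => Finset.mem_erase.2 ⟨fun e => ha₁ (e ▸ hy), Finset.mem_univ _⟩)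
      (by rw [hs, Finset.card_erase_of_mem (Finset.mem_univ _), Finset.card_univ, hc])
  have hmv : ∀ y, y ≠ a₁ → toPermHom T Δ₁ x y ≠ y := fun y hy =>
    Perm.mem_support.1 (hsup ▸ Finset.mem_erase.2 ⟨hy, Finset.mem_univ _⟩)
  by_cases hB : stabilizer T a₂ ≤ stabilizer T a₁
  · have h3 := Subgroup.eq_of_le_of_card_ge hB (by rw [c1, c2])
    exact ⟨a₁, a₂, fun t => by rw [← mem_stabilizer_iff, ← mem_stabilizer_iff, h3]⟩
  exfalso
  obtain ⟨b, hb, hb1⟩ := SetLike.not_le_iff_exists.1 hB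
  have htr : ∀ y : Δ₁, ∃ g : stabilizer T a₂, g • a₁ = y := fun y => by
    by_cases hy : y = a₁
    · exact ⟨1, by rw [hy, one_smul]⟩
    · obtain ⟨i, hi⟩ := hcy.exists_zpow_eq (hmv _ hb1) (hmv _ hy)
      refine ⟨x ^ i * ⟨b, hb⟩, ?_⟩
      rw [← map_zpow] at hi
      rw [mul_smul]
      exact hi
  have : IsPretransitive (stabilizer T a₂) Δ₁ := ⟨fun y z => by
    obtain ⟨g, rfl⟩ := htr y
    obtain ⟨g', rfl⟩ := htr z
    exact ⟨g' * g⁻¹, by rw [mul_smul, inv_smul_smul]⟩⟩
  obtain ⟨s, hs2⟩ := exists_prime_orderOf_dvd_card' (G := stabilizer T a₂) 2 (by rw [c2]; norm_num)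
  obtain ⟨s', hs'⟩ := exists_prime_orderOf_dvd_card' (G := stabilizer T a₁) 2 (by rw [c1]; norm_num)
  obtain ⟨u, hu⟩ := isConj_iff.1 (SporadicA.M11Facts.isConj_involutions hG (u := (s' : T)) (u' := (s : T))
    (by rw [Subgroup.orderOf_coe, hs']) (by rw [Subgroup.orderOf_coe, hs2]))
  have h4 : s ∈ stabilizer (stabilizer T a₂) (u • a₁) := by
    have h5 : (s : T) • u • a₁ = u • a₁ := by
      rw [← hu, conj_smul, inv_smul_smul]
      exact s'.2
    exact h5
  have h5 := (stabilizer (stabilizer T a₂) (u • a₁)).card_mul_index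
  rw [index_stabilizer_of_transitive, h1.card, c2] at h5
  have h6 := Subgroup.orderOf_dvd_natCard _ h4
  rw [hs2] at h6
  omega

open Cfsg.Agent.SporadicA in
theorem m12_row (h : Spor.IsoM12 T) : Row2 T 12 := by
  obtain ⟨e⟩ := h
  have hc : Nat.card T = 95040 := (Nat.card_congr e.toEquiv).trans MTwelveType.SylowModel.card_M12
  have hs : IsSimpleGroup T := (MulEquiv.isSimpleGroup_congr e).2 Schreier.MTwelve.isSimpleGroup
  have : Finite T := Nat.finite_of_card_ne_zero (by rw [hc]; norm_num)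
  refine row_of_std (0 : Fin 12) M12Perm.Std fun Δ _ h1 => ?_
  obtain ⟨ε, hε⟩ := exists_lab h1 (p := 11) (by norm_num) (by rw [hc]; norm_num) (by norm_num) Cand12.orderOf_tP
  obtain ⟨σ, hσ⟩ := M12Perm.exists_relabel (L := (rep ε : T →* Perm (Fin 12)).range)
    ⟨(card_range h1 ε).trans hc, by
      rintro _ ⟨g, rfl⟩
      exact DegPOne.sign_eq_one hs (by rw [hc]; norm_num) _ g, rep_tr h1 (by norm_num) ε, hε⟩
  exact ⟨ε.trans σ, (range_trans ε σ).trans hσ⟩

theorem m12_two (h : Spor.IsoM12 T) : Two2 T 12 :=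
  two_of_row (m12_row h) (by norm_num) (Out2.of_equiv h.some (Out2.of_card S2061.result))

open Cfsg.Agent.H867.Max.Oct in
theorem m22_cj : CjAt Spor.M22 22 := by
  intro A B hA hB
  obtain ⟨p, p1, p2, rfl⟩ := H829.S8.idx22 A hA
  obtain ⟨q, q1, q2, rfl⟩ := H829.S8.idx22 B hB
  obtain ⟨g, hg⟩ : ∃ g : Spor.M22, g • q = p := by
    by_cases hp : q = p
    · exact ⟨1, by rw [hp, one_smul]⟩
    · obtain ⟨g, hg, g1, g2, g3, -⟩ := map4 (a := none) (b := some 0) (c := q) (d := p)
        (a' := none) (b' := some 0) (c' := p) (d' := q) (by simp) q1.symm p1.symm q2.symm p2.symm hp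
        (by simp) p1.symm q1.symm p2.symm q2.symm (Ne.symm hp)
      exact ⟨mk22 g hg g1 g2, g3⟩
  refine ⟨g⁻¹, fun t => ?_⟩
  rw [mem_stabilizer_iff, mem_stabilizer_iff, conj_smul, inv_inv, hg]

theorem m22_one (h : Spor.IsoM22 T) : One2 T 22 := one_of_cjAt (m22_cj.of_equiv h.some) (by norm_num)

theorem m23_one (h : Spor.IsoM23 T) : One2 T 23 := by
  have : Finite T := Nat.finite_of_card_ne_zero (by
    rw [Nat.card_congr h.some.toEquiv, SporadicA.MathieuRecog.card_M23]; norm_num)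
  refine one_of_row (row_of_rowAt (H561.PPow.rowAt_m23 h) (by norm_num)) fun φ => ?_
  obtain ⟨k, hk⟩ := KFacts.M23.OutOne.exists_conj' h φ
  exact ⟨k, MulEquiv.ext hk⟩

open Cfsg.Agent.SporadicA Cfsg.Agent.SporadicA.M24OfIndex in
theorem m24_row (h : Spor.IsoM24 T) : Row2 T 24 := by
  obtain ⟨e⟩ := h
  have hc : Nat.card T = 244823040 := (Nat.card_congr e.toEquiv).trans S0364.result
  have hs : IsSimpleGroup T := (MulEquiv.isSimpleGroup_congr e).2 S0365.result
  have : Finite T := Nat.finite_of_card_ne_zero (by rw [hc]; norm_num)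
  refine row_of_std (0 : Fin 24) (M24.comap ePt.permCongrHom.toMonoidHom) fun Δ _ h1 => ?_
  obtain ⟨ε, hε⟩ := exists_lab h1 (p := 23) (by norm_num) (by rw [hc]; norm_num) (by norm_num) Cand24.orderOf_tP
  obtain ⟨σ, g1, g2, g3, g4⟩ := exists_relabel (L := (rep ε : T →* Perm (Fin 24)).range)
    ⟨(card_range h1 ε).trans hc, by
      rintro _ ⟨g, rfl⟩
      exact DegPOne.sign_eq_one hs (by rw [hc]; norm_num) _ g, rep_tr h1 (by norm_num) ε, hε⟩
  rw [← range_trans] at g1 g2 g3 g4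
  refine ⟨ε.trans σ, ?_⟩
  have hle : M24 ≤ (rep (ε.trans σ) : T →* Perm (Fin 24)).range.map ePt.permCongrHom.toMonoidHom := by
    rw [← S0374.result, Subgroup.closure_le]
    intro g hg
    rcases hg with rfl | rfl | rfl
    · rw [shift_eq]; exact ⟨_, g1, rfl⟩
    · rw [projInv_eq]; exact ⟨_, g4, rfl⟩
    · obtain ⟨i, hi⟩ := cubeTwist_eq
      rw [hi]
      exact ⟨_, Subgroup.mul_mem _ (Subgroup.pow_mem _ g2 i) g3, rfl⟩
  rw [Subgroup.eq_of_le_of_card_ge hle (by
    rw [Subgroup.card_map_of_injective ePt.permCongrHom.injective, card_range h1, hc, S0364.result]),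
    Subgroup.comap_map_eq_self_of_injective ePt.permCongrHom.injective]

theorem m24_one (h : Spor.IsoM24 T) : One2 T 24 :=
  one_of_row (m24_row h) fun _ => Inr.of_equiv h.some (KFacts.M24Two.Out.exists_conj _)

/-- **the Mathieu groups** -/
theorem boxMat : BoxMat := fun _ _ =>
  ⟨fun h => ⟨m11_eleven (isM11 h), m11_twelve (isM11 h)⟩, fun h => ⟨m12_row h, m12_two h⟩, m22_one, m23_one, m24_one⟩

end Cfsg.Agent.SM.Alt.Mat
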