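import Cfsg.Agent.SM.Alt.MatA
import Cfsg.Agent.H561.PPRowL
import Cfsg.Agent.H220.EP.PermSeven

/-!
# SM (S3570), alternating socle: `L₂(11)` on 11 points and `A₇` on 15 points (helper61)
-/

set_option autoImplicit false

namespace Cfsg.Agent.SM.Alt.Mat

open Cfsg Equiv Subgroup MulAction
open Cfsg.Agent.H561.PPow (RowAt)
open Cfsg.Agent.H220.EP

theorem out2_eleven {F : Type} [Field F] [Fintype F] (hF : Fintype.card F = 11) :
    Out2 (Matrix.ProjectiveSpecialLinearGroup (Fin 2) F) := by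
  have : Fact (Nat.Prime 11) := ⟨by norm_num⟩
  obtain ⟨φ, -, -, h⟩ := H183.OutPSL.out_two (F := F) (p := 11) (f := 1) le_rfl (by rw [hF]; norm_num) (by norm_num)
  have h1 : φ.ker = ⊤ := by
    rw [eq_top_iff]
    intro x _
    have : Subsingleton (Multiplicative (ZMod 1)) := inferInstanceAs (Subsingleton (Fin 1))
    exact Subsingleton.elim _ _
  rw [h1, Subgroup.card_top] at h
  exact Out2.of_card h

theorem out2_seven : Out2 (alternatingGroup (Fin 7)) := by
  obtain ⟨-, hs⟩ := S2119.result 7 (by norm_num) (by norm_num)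
  have key : ∀ σ ∈ alternatingGroup (Fin 7), Inr (MulAut.conjNormal σ : MulAut (alternatingGroup (Fin 7))) :=
    fun σ h => ⟨⟨σ, h⟩, MulEquiv.ext fun _ => rfl⟩
  intro α β
  obtain ⟨σ, rfl⟩ := hs α
  obtain ⟨τ, rfl⟩ := hs β
  by_cases ha : σ ∈ alternatingGroup (Fin 7)
  · exact .inl (key σ ha)
  by_cases hb : τ ∈ alternatingGroup (Fin 7)
  · exact .inr (.inl (key τ hb))
  refine .inr (.inr ?_)
  rw [← map_inv, ← map_mul]
  apply key
  rw [mul_mem_iff_of_index_two alternatingGroup.index_eq_two, inv_mem_iff]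
  exact iff_of_false hb ha

/-- conjugation of subgroups -/
def cj (g : Perm (Fin 7)) (D : Subgroup (Perm (Fin 7))) : Subgroup (Perm (Fin 7)) := D.comap (MulAut.conj g).toMonoidHom

theorem mem_cj {g x : Perm (Fin 7)} {D : Subgroup (Perm (Fin 7))} : x ∈ cj g D ↔ g * x * g⁻¹ ∈ D := Iff.rfl

theorem cj_F7 (g : Perm (Fin 7)) {D : Subgroup (Perm (Fin 7))} (hD : D ∈ F7) : cj g D ∈ F7 := by
  refine ⟨fun x hx => ?_, ?_⟩
  · have h := (inferInstance : A7.Normal).conj_mem _ (hD.1 hx) g⁻¹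
    have e : g⁻¹ * (MulAut.conj g).toMonoidHom x * g⁻¹⁻¹ = x := by
      show g⁻¹ * (g * x * g⁻¹) * g⁻¹⁻¹ = x
      group
    rwa [e] at h
  · have h1 := (cj g D).card_mul_index
    have h2 := D.card_mul_index
    rw [cj, D.index_comap_of_surjective (MulAut.conj g).surjective, ← h2, hD.2] at h1
    exact Nat.eq_of_mul_eq_mul_right (Nat.pos_of_ne_zero index_ne_zero_of_finite) h1

/-- the normaliser is even -/
theorem norm_le {D : Subgroup (Perm (Fin 7))} (hD : D ∈ F7) : normalizer (D : Set (Perm (Fin 7))) ≤ A7 := by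
  classical
  by_contra hLA
  obtain ⟨L, hL⟩ : ∃ L, L = normalizer (D : Set (Perm (Fin 7))) := ⟨_, rfl⟩
  have hDL : D ≤ L := hL ▸ le_normalizer
  have hA : ¬ A7 ≤ L := by
    intro h
    have hs : IsSimpleGroup A7 := alternatingGroup.isSimpleGroup (by simp)
    rw [hL] at h
    have hn : (D.subgroupOf A7).Normal := ⟨fun d hd a => (mem_normalizer_iff.1 (h a.2) d).1 hd⟩
    have hc := card_subgroupOf hD.1
    rcases hn.eq_bot_or_eq_top with h1 | h1
    · rw [h1, card_bot, hD.2] at hc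
      omega
    · rw [h1, card_top, card_A7, hD.2] at hc
      omega
  obtain ⟨Y, hY⟩ := exists_Ys (p := 7) (D := D) (by rw [hD.2]; norm_num)
  have h168 : Nat.card ↥(L ⊓ A7) = 168 := by
    rcases dich (D := L ⊓ A7) (Y := Y) inf_le_right (fun h => hA (h.trans inf_le_left))
      ⟨hY.1.trans (le_inf hDL hD.1), hY.2⟩ with h | h
    · have h1 := (card_dvd_of_le ((le_inf hDL hD.1).trans h)).trans (card_norm_dvd hY.2)
      rw [hD.2] at h1
      norm_num at h1
    · exact h.1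
  rw [← hL] at hLA
  have h5 : A7.relIndex L = 2 := by
    have h2 : A7.relIndex L ∣ A7.index := relIndex_dvd_index_of_normal _ _
    rw [alternatingGroup.index_eq_two] at h2
    rcases (Nat.dvd_prime Nat.prime_two).1 h2 with h | h
    · rw [relIndex_eq_one] at h
      exact absurd h hLA
    · exact h
  have h336 : Nat.card L = 336 := by
    have h6 := card_mul_index (A7.subgroupOf L)
    rw [relIndex] at h5
    rw [h5, ← inf_subgroupOf_left, card_subgroupOf inf_le_left, h168] at h6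
    exact h6.symm
  obtain ⟨R, hR⟩ := Sylow.exists_subgroup_card_pow_prime (G := L) 2 (n := 4) (by rw [h336]; norm_num)
  have hR' : Nat.card (R.map L.subtype) = 2 ^ 4 := by
    rw [card_map_of_injective L.subtype_injective, hR]
  obtain ⟨g, hg⟩ := conj_mem_of_card (p := 2) (n := 4) (k := 315) (by rw [card_P7]; norm_num) (by norm_num)
    (R.map L.subtype) hR' (swap (0 : Fin 7) 1) (orderOf_eq_prime (by decide) (by decide))
  have hgL : g * swap (0 : Fin 7) 1 * g⁻¹ ∈ L := by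
    obtain ⟨x, -, hx⟩ := hg
    rw [← hx]
    exact x.2
  have hsw : (g * swap (0 : Fin 7) 1 * g⁻¹).IsSwap := by
    rw [← swap_apply_apply]
    exact Perm.swap_isSwap_iff.2 (fun h => absurd (g.injective h) (by decide))
  have htop : L = ⊤ := Perm.subgroup_eq_top_of_swap_mem (by norm_num) (by
    rw [← Nat.card_eq_fintype_card (α := L), h336, Fintype.card_fin]
    norm_num) hgL hsw
  exact hA (htop ▸ le_top)

/-- translation -/
def t7 : Perm (Fin 7) := ⟨![1, 2, 3, 4, 5, 6, 0], ![6, 0, 1, 2, 3, 4, 5], by decide, by decide⟩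

/-- negation -/
def n7 : Perm (Fin 7) := ⟨![0, 6, 5, 4, 3, 2, 1], ![0, 6, 5, 4, 3, 2, 1], by decide, by decide⟩

theorem ord_t7 : orderOf t7 = 7 := orderOf_eq_prime (by decide) (by decide)

theorem n7_t7 : n7 * t7 * n7⁻¹ = t7⁻¹ := by decide

theorem n7_sq : n7 * n7 = 1 := by decide

theorem n7_odd : n7 ∉ A7 := by
  rw [Perm.mem_alternatingGroup]
  decide

theorem cj_cj (D : Subgroup (Perm (Fin 7))) : cj n7 (cj n7 D) = D := by
  ext x
  rw [mem_cj, mem_cj, show n7 * (n7 * x * n7⁻¹) * n7⁻¹ = (n7 * n7) * x * (n7 * n7)⁻¹ by group, n7_sq, one_mul, inv_one,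
    mul_one]

theorem cj_ne {D : Subgroup (Perm (Fin 7))} (hD : D ∈ F7) : cj n7 D ≠ D := fun h =>
  n7_odd (norm_le hD (mem_normalizer_iff.2 fun x => by rw [← mem_cj, h]))

theorem two_over {D E : Subgroup (Perm (Fin 7))} (hD : D ∈ F7) (hE : E ∈ F7) (tD : t7 ∈ D) (tE : t7 ∈ E) :
    E = D ∨ E = cj n7 D := by
  classical
  by_contra hn
  push Not at hn
  have h3 := ncard_F7_Y (Y := zpowers t7) (by rw [Nat.card_zpowers, ord_t7])
  have ht : ∀ {K : Subgroup (Perm (Fin 7))}, t7 ∈ K → t7 ∈ cj n7 K := fun h => by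
    rw [mem_cj, n7_t7]
    exact inv_mem h
  have h4 : ({D, cj n7 D, E, cj n7 E} : Set (Subgroup (Perm (Fin 7)))) ⊆ {K | K ∈ F7 ∧ zpowers t7 ≤ K} := by
    rintro K (rfl | rfl | rfl | rfl)
    · exact ⟨hD, zpowers_le.2 tD⟩
    · exact ⟨cj_F7 _ hD, zpowers_le.2 (ht tD)⟩
    · exact ⟨hE, zpowers_le.2 tE⟩
    · exact ⟨cj_F7 _ hE, zpowers_le.2 (ht tE)⟩
  have h5 := (Set.ncard_le_ncard h4 (Set.toFinite _)).trans h3
  have n1 : D ≠ cj n7 E := fun h => hn.2 (by rw [h, cj_cj])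
  have n2 : cj n7 D ≠ cj n7 E := fun h => hn.1 (by rw [← cj_cj E, ← h, cj_cj])
  rw [Set.ncard_insert_of_notMem (by simp [(cj_ne hD).symm, hn.1.symm, n1]),
    Set.ncard_insert_of_notMem (by simp [hn.2.symm, n2]), Set.ncard_pair (cj_ne hE).symm] at h5
  omega

theorem exists_t7 {D : Subgroup (Perm (Fin 7))} (hD : D ∈ F7) : ∃ g, t7 ∈ cj g D := by
  obtain ⟨Y, hY⟩ := exists_Ys (p := 7) (D := D) (by rw [hD.2]; norm_num)
  obtain ⟨g, hg⟩ := conj_mem_of_card (p := 7) (n := 1) (k := 720) (by rw [card_P7]; norm_num) (by norm_num) Y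
    (by rw [hY.2]; norm_num) t7 ord_t7
  exact ⟨g, hY.1 hg⟩

/-- **one class in `S₇`** -/
theorem F7_conj {D E : Subgroup (Perm (Fin 7))} (hD : D ∈ F7) (hE : E ∈ F7) : ∃ g, D = cj g E := by
  obtain ⟨a, ha⟩ := exists_t7 hD
  obtain ⟨b, hb⟩ := exists_t7 hE
  rcases two_over (cj_F7 b hE) (cj_F7 a hD) hb ha with h | h
  · refine ⟨b * a⁻¹, Subgroup.ext fun x => ?_⟩
    have h1 : a⁻¹ * x * a ∈ cj a D ↔ a⁻¹ * x * a ∈ cj b E := by rw [h]
    rw [mem_cj, mem_cj, show a * (a⁻¹ * x * a) * a⁻¹ = x by group] at h1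
    rw [h1, mem_cj, show b * a⁻¹ * x * (b * a⁻¹)⁻¹ = b * (a⁻¹ * x * a) * b⁻¹ by group]
  · refine ⟨b * n7 * a⁻¹, Subgroup.ext fun x => ?_⟩
    have h1 : a⁻¹ * x * a ∈ cj a D ↔ a⁻¹ * x * a ∈ cj n7 (cj b E) := by rw [h]
    rw [mem_cj, mem_cj, mem_cj, show a * (a⁻¹ * x * a) * a⁻¹ = x by group] at h1
    rw [h1, mem_cj,
      show b * n7 * a⁻¹ * x * (b * n7 * a⁻¹)⁻¹ = b * (n7 * (a⁻¹ * x * a) * n7⁻¹) * b⁻¹ by group]

theorem rowAt_seven : RowAt (alternatingGroup (Fin 7)) 15 := by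
  have key : ∀ A : Subgroup (alternatingGroup (Fin 7)), A.index = 15 → A.map A7.subtype ∈ F7 := fun A hA => by
    refine ⟨map_subtype_le A, ?_⟩
    have h := A.card_mul_index
    rw [hA, card_A7] at h
    rw [card_map_of_injective A7.subtype_injective]
    exact Nat.eq_of_mul_eq_mul_right (by norm_num : 0 < 15) h
  have mem : ∀ (A : Subgroup (alternatingGroup (Fin 7))) (t : alternatingGroup (Fin 7)),
      (t : Perm (Fin 7)) ∈ A.map A7.subtype ↔ t ∈ A := fun A t => mem_map_iff_mem A7.subtype_injective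
  intro A B hA hB
  obtain ⟨g, hg⟩ := F7_conj (key A hA) (key B hB)
  refine ⟨MulAut.conjNormal g, fun t => ?_⟩
  rw [← mem, ← mem, hg, mem_cj]
  rfl

/-- **`L₂(11)` of degree 11, `A₇` of degree 15** -/
theorem boxSm : BoxSm := fun _ _ =>
  ⟨fun _ _ _ hF ⟨e⟩ =>
    have h := row_of_rowAt (RowAt.of_equiv e (H561.PPow.rowAt_psl_eleven hF)) (by norm_num)
    ⟨h, two_of_row h (by norm_num) (Out2.of_equiv e (out2_eleven hF))⟩,
  fun ⟨e⟩ =>
    have h := row_of_rowAt (RowAt.of_equiv e rowAt_seven) (by norm_num)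
    ⟨h, two_of_row h (by norm_num) (Out2.of_equiv e out2_seven)⟩⟩

end Cfsg.Agent.SM.Alt.Mat
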