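import Cfsg.Agent.SM.Alt.Defs
import Cfsg.Agent.H410.PSUThree
import Cfsg.Agent.H794.DefAb
import Cfsg.Agent.H125.TwoReeSyl
import Cfsg.Agent.LieRecognition.ReeFinal
import Cfsg.Agent.OddCyclic.ClaimC.SzIso
import Cfsg.Agent.S1163
import Cfsg.Agent.S0330
import Cfsg.Agent.S0243

/-!
# SM (S3570), alternating socle: the Sylow subgroups of the groups of Lie rank one (helper39)
-/

set_option autoImplicit false

namespace Cfsg.Agent.SM.Alt

open Cfsg CoxeterSystem Cfsg.Agent.Nodes.Reps Cfsg.Agent.Nodes.BNOf Cfsg.Agent.Nodes.Bruhat Cfsg.Agent.Omega.ML.Ex.Typ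
open Cfsg.Agent.H800.Sp (NotAb)

namespace R1B

/-- Bruhat decomposition in rank one -/
theorem card_le {p : ℕ} [Fact p.Prime] {M : CoxeterMatrix (Fin 1)} {G : Type} [Group G] [Finite G] (hG : HasRGDT p M G) :
    Nat.card (Sylow p G) ≤ p ^ (Nat.card G).factorization p + 1 := by
  obtain ⟨A, h, T, n, X, hW, R, hX⟩ := hG
  obtain ⟨P, hP⟩ := H410.PSUThree.exists_sylow R hX
  obtain ⟨k₀, hk₀⟩ := exists_rp M.toCoxeterSystem R.nsys (M.toCoxeterSystem.simple 0)
  have hB : ∀ b ∈ RGD.B M.toCoxeterSystem h T X, b • P = P := fun b hb =>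
    Sylow.smul_eq_iff_mem_normalizer.2 (by
      have h1 := R.B_le_normalizer_U hb
      rwa [← hP] at h1)
  have h1 : Function.Surjective fun o : Option P => o.elim P fun u => ((u : G) * k₀) • P := fun Q => by
    obtain ⟨g, rfl⟩ := MulAction.exists_smul_eq G P Q
    obtain ⟨w, hw⟩ := (mem_GG R (g := g)).1 (by rw [H410.TwoTransRGD.GG_eq_top_of_gen R hX]; exact Subgroup.mem_top g)
    by_cases hw1 : w = 1
    · subst hw1
      exact ⟨none, (hB g hw.mem_of_one).symm⟩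
    · rw [H410.PSUThree.eq_simple (cs := M.toCoxeterSystem) (i := 0) (fun j => Subsingleton.elim _ _) hw1] at hw
      obtain ⟨b₁, hb₁, k, hk, b₂, hb₂, rfl⟩ := hw
      obtain ⟨t, ht, u, hu, e⟩ := R.mem_B.1 (inv_mem hb₁)
      have h2 : k₀⁻¹ * (t⁻¹ * k) ∈ T := hk₀.unique (by simpa using (rp_of_mem (inv_mem ht)).mul hk)
      refine ⟨some ⟨u⁻¹, by rw [hP]; exact inv_mem hu⟩, ?_⟩
      show (u⁻¹ * k₀) • P = (b₁ * k * b₂) • P
      rw [show b₁ * k * b₂ = u⁻¹ * k₀ * (k₀⁻¹ * (t⁻¹ * k) * b₂) by rw [← inv_inv b₁, e]; group, mul_smul _ (_ * b₂),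
        hB _ (mul_mem (RGD.T_le_B h2) hb₂)]
  have h2 := Nat.card_le_card_of_surjective _ h1
  rwa [Finite.card_option, Sylow.card_eq_multiplicity] at h2

theorem pow_eq {p a k m n : ℕ} (hp : p.Prime) (hk : ¬ p ∣ k) (hm : ¬ p ∣ m) (h : k * n = p ^ a * m) :
    p ^ n.factorization p = p ^ a := by
  have hm0 : m ≠ 0 := fun e => hm (e ▸ dvd_zero p)
  have h0 := mul_ne_zero (pow_ne_zero a hp.ne_zero) hm0
  rw [← h] at h0
  have h1 := congrArg (fun x => x.factorization p) h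
  simp only [Nat.factorization_mul (left_ne_zero_of_mul h0) (right_ne_zero_of_mul h0),
    Nat.factorization_mul (pow_ne_zero a hp.ne_zero) hm0, Finsupp.coe_add, Pi.add_apply,
    Nat.factorization_eq_zero_of_not_dvd hk, Nat.factorization_eq_zero_of_not_dvd hm, hp.factorization_pow,
    Finsupp.single_eq_same, zero_add, add_zero] at h1
  rw [h1]

variable {T G : Type} [Group T] [Group G] [Finite G] {p c : ℕ} [Fact p.Prime]

theorem aux (e : T ≃* G) (h1 : Nat.card (Sylow p G) ≤ c) (h2 : p ^ (Nat.card G).factorization p + 1 = c) :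
    Nat.card (Sylow p T) ≤ c ∧ ∀ P : Sylow p T, Nat.card (P : Subgroup T) + 1 = c := by
  have := Finite.of_equiv G e.symm.toEquiv
  refine ⟨(Nat.card_le_card_of_surjective _
    (Sylow.mapSurjective_surjective (f := e.symm.toMonoidHom) e.symm.surjective p)).trans h1, fun P => ?_⟩
  rw [Sylow.card_eq_multiplicity, Nat.card_congr e.toEquiv, h2]

theorem rk1N (e : T ≃* G) (h1 : Nat.card (Sylow p G) ≤ c) (h2 : p ^ (Nat.card G).factorization p + 1 = c) (h3 : NotAb p G) :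
    Rk1N T c := by
  refine ⟨p, inferInstance, (aux e h1 h2).1, fun P => ⟨(aux e h1 h2).2 P, ?_⟩⟩
  by_contra h4
  push Not at h4
  exact h3.of_mulEquiv e.symm P ⟨⟨fun x y => Subtype.ext (h4 x x.2 y y.2)⟩⟩

theorem nd {p q : ℕ} (hp : p.Prime) (h : p ∣ q) : (q ≠ 0 → ¬ p ∣ q - 1) ∧ ¬ p ∣ q + 1 :=
  ⟨fun h0 h1 => hp.one_lt.ne' (Nat.dvd_one.1 (by
    have h2 := Nat.dvd_sub h h1
    rwa [show q - (q - 1) = 1 by omega] at h2)), fun h1 => hp.one_lt.ne' (Nat.dvd_one.1 ((Nat.dvd_add_right h).1 h1))⟩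

end R1B

open R1B

/-- **[R1]** -/
theorem boxR1 : BoxR1 := by
  intro T _ F _ _
  obtain ⟨p, hc⟩ := CharP.exists F
  obtain ⟨a, hp, ha⟩ := FiniteField.card F p
  have := Fact.mk hp
  have hq : p ∣ Fintype.card F := ha ▸ dvd_pow_self p a.ne_zero
  have hq0 : Fintype.card F ≠ 0 := Fintype.card_ne_zero
  refine ⟨fun ⟨e⟩ => ?_, fun q h3 hF ⟨e⟩ => ?_, fun m hm hF ⟨e⟩ => ?_, fun m hm hF ⟨e⟩ => ?_⟩
  · have h1 := S0243.result (F := F) rfl 2 le_rfl
    have h2 := (nd hp hq).1 hq0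
    have h4 : p ^ (Nat.card (Matrix.ProjectiveSpecialLinearGroup (Fin 2) F)).factorization p = Fintype.card F := by
      refine (pow_eq (a := a) (k := Nat.gcd 2 (Fintype.card F - 1) * (Fintype.card F - 1))
        (m := (Fintype.card F ^ 2 - 1) * (Fintype.card F - 1)) hp
        (hp.not_dvd_mul (fun h => h2 (h.trans (Nat.gcd_dvd_right _ _))) h2)
        (hp.not_dvd_mul ((nd hp (dvd_pow hq two_ne_zero)).1 (pow_ne_zero _ hq0)) h2) ?_).trans ha.symm
      rw [mul_assoc, h1, Fin.prod_univ_two, ← ha, mul_left_comm, Nat.mul_sub_one, ← pow_two]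
      simp
    have h5 := aux e (c := Fintype.card F + 1) (h4 ▸ card_le (typ_PSL 1)) (by rw [h4])
    exact ⟨p, this, h5⟩
  · obtain ⟨t, rfl⟩ : ∃ t, q = t + 1 := ⟨q - 1, by omega⟩
    have : Finite (PSU 3 F (t + 1)) := Quotient.finite _
    rw [hF] at hq ha
    have h1 := hp.dvd_of_dvd_pow hq
    obtain ⟨b, -, hb⟩ := (Nat.dvd_prime_pow hp).1 (Dvd.intro _ ((pow_two (t + 1)).symm.trans ha))
    have h2 := (nd hp h1).1 (by omega)
    have h5 := (nd hp h1).2
    have h4 : p ^ (Nat.card (PSU 3 F (t + 1))).factorization p = (t + 1) ^ 3 := by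
      refine (pow_eq (a := b * 3) hp (fun h => h5 (h.trans (Nat.gcd_dvd_right 3 (t + 2))))
        (hp.not_dvd_mul h2 (hp.not_dvd_mul (fun h => h5 (hp.dvd_of_dvd_pow (n := 2) h)) (n := t ^ 2 + t + 1) ?_))
        ((HKS.EndOrd.card_psu_three hF).trans (by rw [pow_mul, ← hb]; rfl))).trans (by rw [pow_mul, ← hb])
      rw [show t ^ 2 + t + 1 = (t + 1) * t + 1 by ring]
      exact (nd hp (h1.mul_right t)).2
    obtain ⟨m, hm, hR⟩ := typ_PSU (p := p) hF (le_refl 3)
    obtain rfl : m = 1 := by omega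
    exact rk1N e (h4 ▸ card_le hR) (by rw [h4]) (H794.PsuNotAb.notAb hF le_rfl)
  · have := Fact.mk Nat.prime_two
    obtain ⟨h1, S, -, h2, -⟩ := S1163.result hm hF
    obtain ⟨e'⟩ := OddCyclic.ClaimC.SzIso.iso hm hF
    have h3 := fun P => S0330.result hm hF P
    refine rk1N (p := 2) e (by rw [Sylow.card_eq_index_normalizer S, hF]; exact h2.le) ?_
      (NotAb.of_mulEquiv e' fun P hP => ?_)
    · rw [← Nat.card_congr e'.toEquiv, ← Sylow.card_eq_multiplicity default, (h3 _).1, hF]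
    · obtain ⟨h4, -, -, h5⟩ := h3 P
      rw [Subgroup.center_eq_top, Subgroup.card_top, h4, ← pow_mul] at h5
      have h6 := Nat.pow_right_injective le_rfl h5
      omega
  · have := Fact.mk Nat.prime_three
    have D := LieRecognition.ReeFinal.data hF
    have : Finite ↥(Lie.twistedG2 F (3 ^ m)) := inferInstance
    obtain ⟨P, h1, h2⟩ := H125.TwoReeSyl.exists_sylow_card D hF
    refine rk1N (p := 3) e (by rw [h2, hF]) ?_ (H794.DefAb.notAb_ree ⟨F, _, _, m, hm, hF, ⟨MulEquiv.refl _⟩⟩)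
    rw [← Sylow.card_eq_multiplicity P, h1, hF]

end Cfsg.Agent.SM.Alt
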