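import Cfsg.Agent.SM.Alt.SpA
import Cfsg.Agent.SM.Alt.Defs

/-!
# SM, the 2-transitive actions of `Sp_2m(2)`: the quadratic forms (helper23)

`boxSp : BoxSp`.
-/

set_option autoImplicit false
set_option linter.unusedSectionVars false

namespace Cfsg.Agent.SM.Alt

namespace Sp

open Cfsg Cfsg.Agent.ClassicalGeometry.SympBasic Cfsg.Agent.ClassicalGeometry.SympSiegel
  Cfsg.Agent.ClassicalGeometry.SympAutExists Cfsg.Agent.H387.TwoSpGeo

variable {F : Type} [Field F] [Fintype F] {m : ℕ}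

local notation "V" => (Fin m ⊕ Fin m → F)
local notation "S" => Matrix.symplecticGroup (Fin m) F
local notation "f" => sympForm m F

theorem exists_form (L : V →ₗ[F] F) : ∃ w : V, ∀ x, f x w = L x := by
  refine ⟨Sum.elim (fun i => L (Pi.single (Sum.inr i) 1)) fun i => -L (Pi.single (Sum.inl i) 1), fun x => ?_⟩
  refine LinearMap.congr_fun (g := L) ((Pi.basisFun F _).ext fun j => ?_ : (sympBilin m F).flip _ = L) x
  rw [Pi.basisFun_apply, LinearMap.flip_apply, sympBilin_apply]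
  rcases j with i | i
  · rw [sympForm_single_inl_left, Sum.elim_inr, neg_neg]
  · rw [sympForm_single_inr_left, Sum.elim_inl]

theorem exists_both (hF : Fintype.card F = 2) {x u u' : V} (hx : x ≠ 0) (h1 : u ≠ 0) (h2 : u ≠ x) (h3 : u' ≠ 0)
    (h4 : u' ≠ x) : ∃ z, f x z = 0 ∧ f u z = 1 ∧ f u' z = 1 := by
  obtain ⟨a, ha, ha'⟩ := LieClassical.SympSimple.exists_perp_of_not_smul hx (not_smul hF h1 h2)
  obtain ⟨b, hb, hb'⟩ := LieClassical.SympSimple.exists_perp_of_not_smul hx (not_smul hF h3 h4)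
  by_cases h5 : f u' a = 0
  · by_cases h6 : f u b = 0
    · exact ⟨a + b, by rw [sympForm_add_right, ha, hb, add_zero], by
        rw [sympForm_add_right, h6, add_zero, one_of_ne hF ha'], by rw [sympForm_add_right, h5, zero_add, one_of_ne hF hb']⟩
    · exact ⟨b, hb, one_of_ne hF h6, one_of_ne hF hb'⟩
  · exact ⟨a, ha, one_of_ne hF ha', one_of_ne hF h5⟩

/-- a function which is quadratic on the hyperbolic lines and has an even support is quadratic -/
theorem quad_of (hF : Fintype.card F = 2) {Q : V → F} (h0 : Q 0 = 0)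
    (h1 : ∀ u v, f u v = 1 → Q (u + v) = Q u + Q v + 1) (h2 : ∑ v, Q v = 0) (u v : V) :
    Q (u + v) = Q u + Q v + f u v := by
  classical
  have t := two_eq hF
  have k1 : ∀ x u w, f x w = 0 → f x u = 0 → f u w = 1 → Q (x + u) + Q u = Q (x + w) + Q w := fun x u w h3 h4 h5 => by
    have h6 := h1 (x + u) w (by rw [sympForm_add_left, h3, h5, zero_add])
    have h7 := h1 u (x + w) (by rw [sympForm_add_right, form_comm hF, h4, h5, zero_add])
    rw [show u + (x + w) = x + u + w by abel, h6] at h7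
    linear_combination h7 + (Q u - Q w) * t
  have k2 : ∀ x u, Q x = 1 → f x u = 0 → Q (x + u) = Q u + 1 := fun x u hx h3 => by
    have hx0 : x ≠ 0 := fun h => zero_ne_one (h0.symm.trans (h ▸ hx))
    by_cases a1 : u = 0
    · rw [a1, add_zero, hx, h0, zero_add]
    by_cases a2 : u = x
    · rw [a2, vadd_self hF, hx, h0, add_self hF]
    by_contra h4
    have h5 : Q (x + u) + Q u = 0 := (zero_or_one hF _).resolve_right fun h => h4 (by
      linear_combination h - Q u * t)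
    have h6 : ∀ w, (Q w + if w = x then 1 else 0) + (Q (x + w) + if x + w = x then 1 else 0) = 0 := fun w => by
      by_cases b1 : w = 0
      · rw [b1, add_zero x, if_neg hx0.symm, if_pos rfl, h0, hx, add_zero, zero_add, add_self hF]
      by_cases b2 : w = x
      · rw [b2, vadd_self hF, if_neg hx0.symm, if_pos rfl, h0, hx, add_zero, add_zero, add_self hF]
      rw [if_neg b2, if_neg (by rwa [add_eq_left]), add_zero, add_zero, add_comm]
      rcases zero_or_one hF (f x w) with b3 | b3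
      · obtain ⟨z, z1, z2, z3⟩ := exists_both hF hx0 a1 a2 b1 b2
        rw [k1 x w z z1 b3 z3, ← k1 x u z z1 h3 z2, h5]
      · rw [h1 x w b3, hx]
        linear_combination (Q w + 1) * t
    have h7 := Finset.sum_involution (s := Finset.univ) (fun w _ => x + w) (fun w _ => h6 w)
      (fun w _ _ h => hx0 (add_eq_right.1 h)) (fun _ _ => Finset.mem_univ _)
      fun w _ => by rw [← add_assoc, vadd_self hF, zero_add]
    rw [Finset.sum_add_distrib, h2, Finset.sum_ite_eq', if_pos (Finset.mem_univ _), zero_add] at h7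
    exact one_ne_zero h7
  rcases zero_or_one hF (f u v) with h3 | h3
  · rw [h3, add_zero]
    rcases zero_or_one hF (Q u) with a1 | a1
    · rcases zero_or_one hF (Q v) with a2 | a2
      · rw [a1, a2, add_zero]
        refine (zero_or_one hF _).resolve_right fun a3 => ?_
        have h4 := k2 _ v a3 (by rw [sympForm_add_left, sympForm_self, h3, add_zero])
        rw [add_assoc, vadd_self hF, add_zero, a1, a2, zero_add] at h4
        exact zero_ne_one h4
      · rw [add_comm u, k2 v u a2 (by rw [form_comm hF, h3]), a2]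
    · rw [k2 u v a1 h3, a1, add_comm]
  · rw [h1 u v h3, h3]

variable {Δ : Type} [MulAction (Matrix.symplecticGroup (Fin m) F) Δ]

/-- the quadratic form of a point -/
noncomputable def Qf (a : Δ) (v : V) : F := (χ a v : F)

theorem Qf_pos {a : Δ} {v : V} (h : Dv a v) : Qf a v = 1 := by rw [Qf, χ_pos h, Int.cast_one]

theorem Qf_neg {a : Δ} {v : V} (h : ¬ Dv a v) : Qf a v = 0 := by rw [Qf, χ_neg h, Int.cast_zero]

theorem Qf_eq_one {a : Δ} {v : V} : Qf a v = 1 ↔ Dv a v :=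
  ⟨fun h => by_contra fun h1 => zero_ne_one ((Qf_neg h1).symm.trans h), Qf_pos⟩

theorem Qf_smul (g : S) (a : Δ) (v : V) : Qf (g • a) (g • v) = Qf a v := congrArg _ (χ_smul g a v)

theorem Qf_smul' (g : S) (a : Δ) (v : V) : Qf (g • a) v = Qf a (g⁻¹ • v) := by rw [← Qf_smul g a, smul_inv_smul]

/-- the points are quadratic forms -/
structure Gd (F : Type) [Field F] [Fintype F] (m : ℕ) (Δ : Type) [MulAction (Matrix.symplecticGroup (Fin m) F) Δ]
    (d : ℤ) : Prop where
  card : Fintype.card F = 2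
  ex : ∀ a b : Δ, ∃ v : Fin m ⊕ Fin m → F, Qf a v = 0 ∧ tv v • a = b
  quad : ∀ (a : Δ) (u v : Fin m ⊕ Fin m → F), Qf a (u + v) = Qf a u + Qf a v + sympForm m F u v
  sum : ∀ a : Δ, ∑ v : Fin m ⊕ Fin m → F, χ a v = d

theorem gd [Fintype Δ] (hF : Fintype.card F = 2) (hm : 2 ≤ m) {y s : ℤ} (hy : 2 ≤ y)
    (hn : (2 : ℤ) ^ (2 * m) = 16 * y ^ 2) (hs : s = 1 ∨ s = -1) (hc : (Fintype.card Δ : ℤ) = 8 * y ^ 2 + 2 * y * s)
    (h2 : Two F m Δ) : Gd F m Δ (8 * y ^ 2 - 2 * y * s) := by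
  have h3 : ∀ a : Δ, ∑ v : V, χ a v = 8 * y ^ 2 - 2 * y * s := fun a => by
    rw [(count hF hm hy hn hs hc h2 a).1, hc]
    ring
  refine ⟨hF, fun a b => ?_, fun a => quad_of hF (Qf_neg fun h => h.1 rfl) (fun u v h => ?_) ?_, h3⟩
  · by_cases h : a = b
    · exact ⟨0, Qf_neg fun h => h.1 rfl, by rw [tv_zero, one_smul, h]⟩
    · obtain ⟨v, hv⟩ := h2.exists_tv hF h
      exact ⟨v, Qf_neg fun h1 => h (h1.2.symm.trans hv), hv⟩
  · have h6 : f u (u + v) = 1 := by rw [sympForm_add_right, sympForm_self, zero_add, h]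
    have h7 : f (u + v) v = 1 := by rw [sympForm_add_left, sympForm_self, add_zero, h]
    by_cases a1 : Dv a u <;> by_cases a2 : Dv a v
    · rw [Qf_pos a1, Qf_pos a2, Qf_pos (a1.add a2 h), add_self hF, zero_add]
    · rw [Qf_pos a1, Qf_neg a2, add_zero, add_self hF]
      refine Qf_neg fun a3 => a2 ?_
      have := a1.add a3 h6
      rwa [← add_assoc, vadd_self hF, zero_add] at this
    · rw [Qf_neg a1, Qf_pos a2, zero_add, add_self hF]
      refine Qf_neg fun a3 => a1 ?_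
      have := a3.add a2 h7
      rwa [add_assoc, vadd_self hF, add_zero] at this
    · rw [Qf_neg a1, Qf_neg a2, add_zero, zero_add]
      exact Qf_pos ((((count hF hm hy hn hs hc h2 a).2 u v h).resolve_left a1).resolve_left a2)
  · have h4 := congrArg (Int.cast : ℤ → F) (h3 a)
    push_cast at h4
    refine h4.trans ?_
    linear_combination (4 * (y : F) ^ 2 - y * s) * two_eq hF

namespace Gd

variable {d : ℤ} (H : Gd F m Δ d)
include H

theorem tv_eq {a : Δ} {w : V} (h : Qf a w = 0) (x : V) : Qf (tv w • a) x = Qf a x + f x w := by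
  rw [Qf_smul', ← eq_inv_of_mul_eq_one_left (tv_tv H.card w), tv_smul]
  rcases zero_or_one H.card (f x w) with h1 | h1
  · rw [h1, zero_smul, add_zero, add_zero]
  · rw [h1, one_smul, H.quad, h, h1, add_zero]

theorem inj {a b : Δ} (h : ∀ x : V, Qf b x = Qf a x) : b = a := by
  obtain ⟨v, h1, rfl⟩ := H.ex a b
  rw [eq_zero_of_forall_sympForm_left (v := v) fun x => add_eq_left.1 ((H.tv_eq h1 x).symm.trans (h x)), tv_zero, one_smul]

theorem fix_iff (g : S) (a : Δ) : g • a = a ↔ ∀ x : V, Qf a (g⁻¹ • x) = Qf a x :=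
  ⟨fun h x => by rw [← Qf_smul', h], fun h => H.inj fun x => by rw [Qf_smul', h]⟩

theorem same {Δ' : Type} [MulAction (Matrix.symplecticGroup (Fin m) F) Δ'] (H' : Gd F m Δ' d)
    (hd : 2 * d ≠ Fintype.card V) (a : Δ) (a' : Δ') : ∃ b : Δ, ∀ g : S, g • b = b ↔ g • a' = a' := by
  have t := two_eq H.card
  obtain ⟨w, hw⟩ := exists_form
    { toFun := fun x : V => Qf a x + Qf a' x
      map_add' := fun u v => by
        rw [H.quad, H'.quad]
        linear_combination f u v * t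
      map_smul' := fun c x => by
        rcases zero_or_one H.card c with rfl | rfl
        · rw [zero_smul, Qf_neg fun h => h.1 rfl, Qf_neg fun h => h.1 rfl, RingHom.id_apply, zero_smul, add_zero]
        · rw [one_smul, RingHom.id_apply, one_smul] }
  have h1 : ∀ x, Qf a' x = Qf a x + f x w := fun x => by
    have h2 : f x w = Qf a x + Qf a' x := hw x
    linear_combination -h2 - Qf a x * t
  rcases zero_or_one H.card (Qf a w) with h2 | h2
  · refine ⟨tv w • a, fun g => ?_⟩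
    rw [H.fix_iff, H'.fix_iff]
    simp only [H.tv_eq h2, h1]
  · refine absurd ?_ hd
    have h3 : ∀ x : V, χ a' x + χ a (w + x) = 1 := fun x => by
      have h4 : Qf a (w + x) = Qf a' x + 1 := by
        rw [H.quad, h1, h2, form_comm H.card]
        ring
      by_cases h5 : Dv a' x
      · rw [χ_pos h5, χ_neg fun h6 => ?_, add_zero]
        rw [Qf_pos h5, Qf_pos h6, add_self H.card] at h4
        exact one_ne_zero h4
      · rw [Qf_neg h5, zero_add] at h4
        rw [χ_neg h5, χ_pos (Qf_eq_one.1 h4), zero_add]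
    have h4 := Finset.sum_congr (s₁ := Finset.univ) rfl fun x _ => h3 x
    rw [Finset.sum_add_distrib, H'.sum, 
      Fintype.sum_equiv (Equiv.addLeft w) (fun v => χ a (w + v)) (fun v => χ a v) fun _ => rfl, H.sum,
      Finset.sum_const, Finset.card_univ, nsmul_eq_mul, mul_one] at h4
    rw [← h4, two_mul]

theorem exists_perp_sing (hm : 3 ≤ m) (a : Δ) :
    ∃ v w : V, v ≠ 0 ∧ w ≠ 0 ∧ v ≠ w ∧ Qf a v = 0 ∧ Qf a w = 0 ∧ f v w = 0 := by
  have k : ∀ i j : Fin m, Qf a (eb j : V) = 1 → ∃ v : V, Qf a v = 0 ∧ (v = eb i ∨ v = eb i + eb j) := fun i j h => by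
    rcases zero_or_one H.card (Qf a (eb i : V)) with h1 | h1
    · exact ⟨_, h1, .inl rfl⟩
    · exact ⟨_, by rw [H.quad, h, h1, form_eb, add_zero, add_self H.card], .inr rfl⟩
  have k2 : ∀ i j l : Fin m, i ≠ j → i ≠ l → j ≠ l → Qf a (eb l : V) = 1 →
      ∃ v w : V, v ≠ 0 ∧ w ≠ 0 ∧ v ≠ w ∧ Qf a v = 0 ∧ Qf a w = 0 ∧ f v w = 0 := fun i j l h1 h2 h3 h => by
    obtain ⟨v, v1, v2⟩ := k i l h
    obtain ⟨w, w1, w2⟩ := k j l h
    have v3 : v (Sum.inl i) = 1 := by rcases v2 with rfl | rfl <;> simp [eb_apply, h2]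
    have w3 : w (Sum.inl j) = 1 := by rcases w2 with rfl | rfl <;> simp [eb_apply, h3]
    have w4 : w (Sum.inl i) = 0 := by rcases w2 with rfl | rfl <;> simp [eb_apply, h1, h2]
    refine ⟨v, w, fun h4 => ?_, fun h4 => ?_, fun h4 => ?_, v1, w1, ?_⟩
    · exact zero_ne_one ((congrFun h4 _).symm.trans v3)
    · exact zero_ne_one ((congrFun h4 _).symm.trans w3)
    · exact zero_ne_one (w4.symm.trans (h4 ▸ v3))
    · rcases v2 with rfl | rfl <;> rcases w2 with rfl | rfl <;>
        simp only [sympForm_add_left, sympForm_add_right, form_eb, add_zero]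
  rcases zero_or_one H.card (Qf a (eb ⟨0, by omega⟩ : V)) with h0 | h0
  · rcases zero_or_one H.card (Qf a (eb ⟨1, by omega⟩ : V)) with h1 | h1
    · exact ⟨_, _, eb_ne_zero _, eb_ne_zero _, eb_ne (by simp), h0, h1, form_eb _ _⟩
    · exact k2 ⟨0, by omega⟩ ⟨2, by omega⟩ _ (by simp) (by simp) (by simp) h1
  · exact k2 ⟨1, by omega⟩ ⟨2, by omega⟩ _ (by simp) (by simp) (by simp) h0

theorem not_hom3 (hm : 3 ≤ m) (a : Δ) : ¬ Hom3 S Δ := fun h => by
  have t := two_eq H.card
  obtain ⟨v, w, v0, w0, hvw, v1, w1, h1⟩ := H.exists_perp_sing hm a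
  obtain ⟨u, u1, u2⟩ : ∃ u : V, Qf a u = 0 ∧ f v u = 1 := by
    obtain ⟨x, hx⟩ := exists_form_eq_one v0
    rcases zero_or_one H.card (Qf a x) with h2 | h2
    · exact ⟨x, h2, hx⟩
    · exact ⟨v + x, by rw [H.quad, v1, h2, hx, zero_add, add_self H.card],
        by rw [sympForm_add_right, sympForm_self, zero_add, hx]⟩
  have k : ∀ p q : V, Qf a p = 0 → Qf a q = 0 → tv p • a = tv q • a → p = q := fun p q h2 h3 h4 =>
    eq_of_forall_sympForm_left fun x => add_left_cancel ((H.tv_eq h2 x).symm.trans (h4 ▸ H.tv_eq h3 x))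
  have k0 : ∀ p : V, Qf a p = 0 → p ≠ 0 → a ≠ tv p • a := fun p h2 h3 h4 =>
    h3 (k p 0 h2 (Qf_neg fun h => h.1 rfl) (by rw [tv_zero, one_smul, ← h4]))
  have u0 : u ≠ 0 := ne_zero_of_form_right (u2 ▸ one_ne_zero)
  have hvu : v ≠ u := fun h2 => zero_ne_one ((sympForm_self u).symm.trans (h2 ▸ u2))
  obtain ⟨g, g1, g2, g3⟩ := h a (tv v • a) (tv w • a) a (tv v • a) (tv u • a) (k0 v v1 v0) (k0 w w1 w0)
    (fun h2 => hvw (k v w v1 w1 h2)) (k0 v v1 v0) (k0 u u1 u0) fun h2 => hvu (k v u v1 u1 h2)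
  have h2 : ∀ x : V, Qf (g • tv (v + w) • a) x = Qf (g • a) x + Qf (g • tv v • a) x + Qf (g • tv w • a) x := fun x => by
    simp only [Qf_smul' g]
    rw [H.tv_eq v1, H.tv_eq w1, H.tv_eq (by rw [H.quad, v1, w1, h1, add_zero, add_zero]), sympForm_add_right]
    linear_combination -Qf a (g⁻¹ • x) * t
  have h3 : ∀ x : V, Qf (g • a) x + Qf (g • tv v • a) x + Qf (g • tv w • a) x =
      Qf a x + Qf (tv v • a) x + Qf (tv u • a) x := fun x => by
    have n1 : g • a ≠ g • tv v • a := fun h => k0 v v1 v0 (smul_left_cancel g h)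
    have n2 : g • a ≠ g • tv w • a := fun h => k0 w w1 w0 (smul_left_cancel g h)
    have n3 : g • tv v • a ≠ g • tv w • a := fun h => hvw (k v w v1 w1 (smul_left_cancel g h))
    generalize g • a = p at *
    generalize g • tv v • a = q at *
    generalize g • tv w • a = r at *
    rcases g1 with rfl | rfl | rfl <;> rcases g2 with rfl | rfl | rfl <;> rcases g3 with rfl | rfl | rfl <;>
      first | exact absurd rfl n1 | exact absurd rfl n2 | exact absurd rfl n3 | ring
  obtain ⟨z, z1, z2⟩ := H.ex a (g • tv (v + w) • a)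
  obtain rfl : z = v + u := eq_of_forall_sympForm_left fun x => by
    have h4 := (h2 x).trans (h3 x)
    rw [← z2, H.tv_eq z1, H.tv_eq v1, H.tv_eq u1] at h4
    rw [sympForm_add_right]
    linear_combination h4 + Qf a x * t
  rw [H.quad, v1, u1, u2, add_zero, zero_add] at z1
  exact one_ne_zero z1

end Gd

end Sp

open Sp

/-- **The 2-transitive actions of `Sp_2m(2)` on the quadratic forms.** -/
theorem boxSp : BoxSp := by
  rintro T _ F _ _ m c hF hm ⟨e⟩ hc
  obtain ⟨π, hπ⟩ : ∃ π : Matrix.symplecticGroup (Fin m) F →* T, Function.Surjective π :=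
    ⟨e.symm.toMonoidHom.comp (QuotientGroup.mk' _), e.symm.surjective.comp (QuotientGroup.mk'_surjective _)⟩
  obtain ⟨k, rfl⟩ : ∃ k, m = k + 3 := ⟨m - 3, by omega⟩
  obtain ⟨y, hy⟩ : ∃ y : ℤ, y = 2 ^ (k + 1) := ⟨_, rfl⟩
  have y2 : 2 ≤ y := by
    have : (0 : ℤ) < 2 ^ k := by positivity
    rw [hy, pow_succ]
    omega
  have hn : (2 : ℤ) ^ (2 * (k + 3)) = 16 * y ^ 2 := by rw [hy]; ring
  obtain ⟨s, hs, hc'⟩ : ∃ s : ℤ, (s = 1 ∨ s = -1) ∧ (c : ℤ) = 8 * y ^ 2 + 2 * y * s := by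
    rcases hc with rfl | rfl
    · exact ⟨1, .inl rfl, by rw [hy, show k + 3 - 1 = k + 2 from rfl]; push_cast; ring⟩
    · refine ⟨-1, .inr rfl, ?_⟩
      rw [hy, Nat.cast_mul, Nat.cast_sub Nat.one_le_two_pow, show k + 3 - 1 = k + 2 from rfl]
      push_cast
      ring
  have key : ∀ (Δ : Type) [MulAction T Δ], Act T Δ c → Nonempty Δ ∧
      @Gd F _ _ (k + 3) Δ (MulAction.compHom Δ π) (8 * y ^ 2 - 2 * y * s) := fun Δ _ h => by
    have := h.fin
    have := Fintype.ofFinite Δ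
    have h1 : (Fintype.card Δ : ℤ) = 8 * y ^ 2 + 2 * y * s := by rw [← Nat.card_eq_fintype_card, h.card, hc']
    refine ⟨Fintype.card_pos_iff.1 ?_, ?_⟩
    · have : (0 : ℤ) < Fintype.card Δ := by rcases hs with rfl | rfl <;> nlinarith
      exact_mod_cast this
    · letI := MulAction.compHom Δ π
      refine gd hF (by omega) y2 hn hs h1 fun a b x z h2 h3 => ?_
      obtain ⟨t, ht⟩ := h.two a b x z h2 h3
      obtain ⟨g, rfl⟩ := hπ t
      exact ⟨g, ht⟩
  refine ⟨fun Δ₁ Δ₂ _ _ h1 h2 => ?_, fun Δ _ h h3 => ?_⟩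
  · obtain ⟨⟨a⟩, H⟩ := key Δ₁ h1
    obtain ⟨⟨a'⟩, H'⟩ := key Δ₂ h2
    letI := MulAction.compHom Δ₁ π
    letI := MulAction.compHom Δ₂ π
    obtain ⟨b, hb⟩ := H.same H' (by
      rw [← Nat.card_eq_fintype_card, H387.TwoSpGeo.card_V, hF]
      push_cast
      rw [hn]
      rcases hs with rfl | rfl <;> intro h <;> nlinarith) a a'
    refine ⟨b, a', fun t => ?_⟩
    obtain ⟨g, rfl⟩ := hπ t
    exact hb g
  · obtain ⟨⟨a⟩, H⟩ := key Δ h
    letI := MulAction.compHom Δ π
    refine H.not_hom3 (by omega) a fun a b e x z w h4 h5 h6 h7 h8 h9 => ?_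
    obtain ⟨t, ht⟩ := h3 a b e x z w h4 h5 h6 h7 h8 h9
    obtain ⟨g, rfl⟩ := hπ t
    exact ⟨g, ht⟩

end Cfsg.Agent.SM.Alt
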