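import Cfsg.Agent.SM.Alt.Defs

/-!
# SM (S3570), alternating socle: the boxes of case (b), `T = A_m` inside `S = A_(m+1)` or `A_(m+2)` (helper42)
-/

set_option autoImplicit false
set_option linter.unusedVariables false

namespace Cfsg.Agent.SM.Alt

open Cfsg Equiv Subgroup MulAction

/-- types in degree 7: 2-transitive maximal subgroups of the same order are conjugate in `S_7` -/
def BoxTY7 : Prop := ∀ (Δ : Type) [Fintype Δ] [DecidableEq Δ] (Y B₁ B₂ : Subgroup (Perm Δ)), Fintype.card Δ = 7 →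
  alternatingGroup Δ ≤ Y → B₁ ⋖ Y → B₂ ⋖ Y → ¬ alternatingGroup Δ ≤ B₁ → ¬ alternatingGroup Δ ≤ B₂ →
  (∀ a b x y : Δ, a ≠ b → x ≠ y → ∃ g ∈ B₁, g a = x ∧ g b = y) → (∀ a b x y : Δ, a ≠ b → x ≠ y → ∃ g ∈ B₂, g a = x ∧ g b = y) →
  Nat.card B₁ = Nat.card B₂ → ∃ g : Perm Δ, ∀ x, x ∈ B₁ ↔ g * x * g⁻¹ ∈ B₂

/-- `Y ≥ A_c`, `H` is the stabiliser in `Y` of the set `A`, `Y = H B` with `B` maximal in `Y` and `K = H ⊓ B` maximal in `H` -/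
structure Ext {Δ : Type} [Fintype Δ] [DecidableEq Δ] (Y H K B : Subgroup (Perm Δ)) (A : Finset Δ) : Prop where
  five : A.card + 5 ≤ Fintype.card Δ
  alt : alternatingGroup Δ ≤ Y
  stab : ∀ g, g ∈ H ↔ g ∈ Y ∧ ∀ x, g x ∈ A ↔ x ∈ A
  bm : B ⋖ Y
  nB : ¬ alternatingGroup Δ ≤ B
  inf : H ⊓ B = K
  km : K ⋖ H
  nK : ∃ g ∈ alternatingGroup Δ, (∀ x ∈ A, g x = x) ∧ g ∉ K
  fac : ∀ y ∈ Y, ∃ h ∈ H, ∃ b ∈ B, y = h * b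

/-- the transitive extensions of `K` -/
def BoxExt : Prop := ∀ (Δ : Type) [Fintype Δ] [DecidableEq Δ] (Y H K : Subgroup (Perm Δ)) (A : Finset Δ),
  (A.card = 1 → ∀ B₁ B₂ B₃, Ext Y H K B₁ A → Ext Y H K B₂ A → Ext Y H K B₃ A → B₁ = B₂ ∨ B₁ = B₃ ∨ B₂ = B₃) ∧
  (A.card = 1 → Y = ⊤ → ∀ B₁ B₂, Ext Y H K B₁ A → Ext Y H K B₂ A → B₁ = B₂) ∧
  (A.card = 2 → Y = alternatingGroup Δ → ∀ B₁ B₂, Ext Y H K B₁ A → Ext Y H K B₂ A →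
    ∃ τ : Perm Δ, (∀ x, x ∉ A → τ x = x) ∧ ∀ g, g ∈ B₁ ↔ τ * g * τ⁻¹ ∈ B₂)

end Cfsg.Agent.SM.Alt
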