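import Cfsg.Agent.SM.Alt.TyA
import Cfsg.Agent.SM.Alt.Defs2
import Cfsg.Agent.H561.PPRowA
import Cfsg.Agent.H427.Fc.AltA
import Cfsg.Agent.LieClassical.FieldTransfer
import Cfsg.Agent.S0813
import Cfsg.Agent.S2060

/-!
# SM (S3570), types of 2-primitive groups: `boxTY_of`, `boxTY7` (helper31)
-/

set_option autoImplicit false
set_option maxHeartbeats 400000
set_option linter.unusedSectionVars false
set_option linter.unusedVariables false

namespace Cfsg.Agent.SM.Alt.Ty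

open Cfsg Equiv Subgroup MulAction Cfsg.Agent.H384.TwoTrans

/-- the orders possible for `L₂(q)` of degree `q + 1` -/
def Sm (c b : ℕ) : Prop := ∃ p f : ℕ, p.Prime ∧ 1 ≤ f ∧ c = p ^ f + 1 ∧ b ≤ f * (c * (c - 1) * (c - 2))

theorem not_sm {c b b' : ℕ} (k : ℕ) (hc : c ≤ 2 ^ (k + 1)) (hb : k * (c * (c - 1) * (c - 2)) < b') (hb' : b' ≤ b) :
    ¬ Sm c b := by
  rintro ⟨p, f, hp, -, h1, h2⟩
  have h3 : 2 ^ f < 2 ^ (k + 1) := by
    have := Nat.pow_le_pow_left hp.two_le f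
    omega
  have h4 := Nat.mul_le_mul_right (c * (c - 1) * (c - 2))
    (Nat.lt_succ_iff.1 ((Nat.pow_lt_pow_iff_right (by norm_num)).1 h3))
  omega

theorem not_pp {p f r : ℕ} (hp : p.Prime) (hr : r.Prime) (h2 : r ≠ 2) (h : p ^ f = 2 * r) : False := by
  have h3 := (Nat.prime_dvd_prime_iff_eq Nat.prime_two hp).1 (Nat.prime_two.dvd_of_dvd_pow (h ▸ dvd_mul_right 2 r))
  have h4 := (Nat.prime_dvd_prime_iff_eq hr hp).1 (hr.dvd_of_dvd_pow (h ▸ dvd_mul_left r 2))
  exact h2 (h4.trans h3.symm)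

theorem not_sm_pp {b r : ℕ} (hr : r.Prime) (h2 : r ≠ 2) : ¬ Sm (2 * r + 1) b := by
  rintro ⟨p, f, hp, -, h1, -⟩
  exact not_pp (f := f) hp hr h2 (by omega)

theorem three_pow (f : ℕ) : 2 * (f + 2) + 5 ≤ 3 ^ (f + 2) := by
  induction f with
  | zero => norm_num
  | succ f ih => rw [show f + 1 + 2 = f + 2 + 1 from rfl, pow_succ]; omega

theorem not_sm_aff {k b : ℕ} (h6 : 6 ≤ 2 ^ k) (hb : 2 ^ k * ∏ i : Fin k, (2 ^ k - 2 ^ (i : ℕ)) ≤ 2 * b) :
    ¬ Sm (2 ^ k) b := by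
  rintro ⟨p, f, hp, hf, h1, h2⟩
  obtain ⟨j, rfl⟩ : ∃ j, k = j + 3 := ⟨k - 3, by
    by_contra hk
    have : k ≤ 2 := by omega
    have := Nat.pow_le_pow_right two_pos this
    omega⟩
  have h8 : 2 ^ (j + 3) = 8 * 2 ^ j := by rw [pow_add, mul_comm]; rfl
  have h9 : 0 < 2 ^ j := Nat.two_pow_pos j
  have h3 : 3 ≤ p := by
    rcases hp.two_le.eq_or_lt with rfl | h
    · have := dvd_pow_self 2 (show f ≠ 0 by omega)
      omega
    · exact h
  have h4 : 2 * f < 2 ^ (j + 3) - 4 := by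
    have h5 := Nat.pow_le_pow_left h3 f
    rcases hf.eq_or_lt with rfl | h
    · omega
    · obtain ⟨g, rfl⟩ : ∃ g, f = g + 2 := ⟨f - 2, by omega⟩
      have := three_pow g
      omega
  rw [Fin.prod_univ_succ, Fin.prod_univ_succ, Fin.prod_univ_succ] at hb
  have h5 : 1 ≤ ∏ i : Fin j, (2 ^ (j + 3) - 2 ^ ((i.succ.succ.succ : Fin (j + 3)) : ℕ)) :=
    Finset.prod_pos fun i _ => Nat.sub_pos_of_lt (Nat.pow_lt_pow_right (by norm_num) (Fin.is_lt _))
  generalize ∏ i : Fin j, (2 ^ (j + 3) - 2 ^ ((i.succ.succ.succ : Fin (j + 3)) : ℕ)) = z at h5 hb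
  change 2 ^ (j + 3) * ((2 ^ (j + 3) - 1) * ((2 ^ (j + 3) - 2) * ((2 ^ (j + 3) - 4) * z))) ≤ 2 * b at hb
  have h7 : 0 < 2 ^ (j + 3) * (2 ^ (j + 3) - 1) * (2 ^ (j + 3) - 2) :=
    Nat.mul_pos (Nat.mul_pos (by omega) (by omega)) (by omega)
  rw [← mul_assoc, ← mul_assoc] at hb
  generalize 2 ^ (j + 3) * (2 ^ (j + 3) - 1) * (2 ^ (j + 3) - 2) = X at h2 hb h7
  generalize 2 ^ (j + 3) - 4 = w at h4 hb
  have h10 := Nat.mul_le_mul_left X (Nat.le_mul_of_pos_right w h5)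
  nlinarith

theorem not_sm_sp {m c b : ℕ} (hm : 3 ≤ m) (hn : c = 2 ^ (m - 1) * (2 ^ m + 1) ∨ c = 2 ^ (m - 1) * (2 ^ m - 1))
    (hb : 2 ^ (m ^ 2) * ∏ i ∈ Finset.range m, (2 ^ (2 * (i + 1)) - 1) ≤ b) : ¬ Sm c b := by
  rcases Nat.lt_or_ge m 7 with h7 | h7
  · refine not_sm (2 * m - 1) ?_ ?_ hb <;> interval_cases m <;> rcases hn with rfl | rfl <;> decide +kernel
  · obtain ⟨k, rfl⟩ : ∃ k, m = k + 1 := ⟨m - 1, by omega⟩
    have h1 : c ≤ 2 ^ (2 * (k + 1)) := by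
      have h2 : 2 ^ (2 * (k + 1)) = 2 ^ k * (2 * 2 ^ (k + 1)) := by ring
      have h3 := Nat.two_pow_pos (k + 1)
      rw [h2]
      rcases hn with rfl | rfl <;> exact Nat.mul_le_mul_left _ (by omega)
    refine not_sm (2 * k + 1) h1 ?_ ((Nat.le_mul_of_pos_right _ (Finset.prod_pos fun i _ =>
      Nat.sub_pos_of_lt (Nat.one_lt_two_pow (by omega)))).trans hb)
    have h2 : c * (c - 1) * (c - 2) ≤ 2 ^ (6 * (k + 1)) := by
      rw [show 2 ^ (6 * (k + 1)) = 2 ^ (2 * (k + 1)) * 2 ^ (2 * (k + 1)) * 2 ^ (2 * (k + 1)) by ring]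
      exact Nat.mul_le_mul (Nat.mul_le_mul h1 (by omega)) (by omega)
    have h3 : 2 * k + 1 < 2 ^ (k + 1) := by
      have := k.lt_two_pow_self
      rw [pow_succ]
      omega
    calc (2 * k + 1) * (c * (c - 1) * (c - 2)) ≤ (2 * k + 1) * 2 ^ (6 * (k + 1)) := Nat.mul_le_mul_left _ h2
      _ < 2 ^ (k + 1) * 2 ^ (6 * (k + 1)) := Nat.mul_lt_mul_of_pos_right h3 (Nat.two_pow_pos _)
      _ = 2 ^ (7 * (k + 1)) := by ring
      _ ≤ _ := Nat.pow_le_pow_right two_pos (by nlinarith)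

theorem two_odd {i j u v : ℕ} (hu : Odd u) (h : 2 ^ i * u = 2 ^ j * v) : j ≤ i :=
  (Nat.pow_dvd_pow_iff_le_right one_lt_two).1
    (((Nat.coprime_two_left.2 hu).pow_left j).dvd_of_dvd_mul_right (h ▸ dvd_mul_right _ _))

theorem sp_odd {m c : ℕ} (hm : 3 ≤ m) (hn : c = 2 ^ (m - 1) * (2 ^ m + 1) ∨ c = 2 ^ (m - 1) * (2 ^ m - 1)) :
    ∃ u, Odd u ∧ 2 ^ m ≤ u + 1 ∧ c = 2 ^ (m - 1) * u := by
  have h1 := dvd_pow_self 2 (show m ≠ 0 by omega)
  have h2 := Nat.two_pow_pos m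
  exact hn.elim (fun k => ⟨_, Nat.odd_iff.2 (by omega), by omega, k⟩) fun k => ⟨_, Nat.odd_iff.2 (by omega), by omega, k⟩

theorem sp_ne {m c : ℕ} (hm : 3 ≤ m) (hn : c = 2 ^ (m - 1) * (2 ^ m + 1) ∨ c = 2 ^ (m - 1) * (2 ^ m - 1)) :
    28 ≤ c ∧ c ≠ 176 ∧ c ≠ 276 ∧ ¬ ∃ d, c = 2 ^ d := by
  obtain ⟨u, hu, h1, h2⟩ := sp_odd hm hn
  have h3 : 2 ^ 3 ≤ 2 ^ m := Nat.pow_le_pow_right two_pos hm
  refine and_assoc.1 (and_assoc.1 ⟨?_, ?_⟩)
  · rcases Nat.lt_or_ge m 5 with h5 | h5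
    · interval_cases m <;> omega
    · have h6 : 2 ^ 4 ≤ 2 ^ (m - 1) := Nat.pow_le_pow_right two_pos (by omega)
      have h7 : 2 ^ 5 ≤ 2 ^ m := Nat.pow_le_pow_right two_pos h5
      have h8 : 16 * 31 ≤ c := h2 ▸ Nat.mul_le_mul h6 (by omega)
      omega
  · rintro ⟨d, hd⟩
    have h4 : u ∣ 2 ^ d := hd ▸ h2 ▸ dvd_mul_left _ _
    have h5 := ((Nat.coprime_two_right.2 hu).pow_right d).eq_one_of_dvd h4
    omega

/-- the kinds -/
inductive Kd | aff | psl | sp | l11 | a7 | m11 | m11' | m12 | m22 | m23 | m24 | hs | co3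

open Classical in
/-- the kind is determined by the degree and the order -/
noncomputable def cd (c b : ℕ) : Kd :=
  if Sm c b then .psl else if c = 11 then (if b ≤ 1320 then .l11 else .m11) else
  if c = 12 then (if b ≤ 7920 then .m11' else .m12) else if c = 15 then .a7 else if c = 22 then .m22 else
  if c = 23 then .m23 else if c = 24 then .m24 else if c = 176 then .hs else if c = 276 then .co3 else
  if ∃ d, c = 2 ^ d then .aff else .sp

theorem cd_aff {k b : ℕ} (h : ¬ Sm (2 ^ k) b) : cd (2 ^ k) b = .aff := by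
  have h1 : ∀ p c, p.Prime → p ≠ 2 → p ∣ c → 2 ^ k ≠ c := fun p c hp h2 h3 e =>
    h2 ((Nat.prime_dvd_prime_iff_eq hp Nat.prime_two).1 (hp.dvd_of_dvd_pow (e ▸ h3)))
  rw [cd, if_neg h, if_neg (h1 11 _ (by norm_num) (by norm_num) (by norm_num)),
    if_neg (h1 3 _ (by norm_num) (by norm_num) (by norm_num)), if_neg (h1 3 _ (by norm_num) (by norm_num) (by norm_num)),
    if_neg (h1 11 _ (by norm_num) (by norm_num) (by norm_num)), if_neg (h1 23 _ (by norm_num) (by norm_num) (by norm_num)),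
    if_neg (h1 3 _ (by norm_num) (by norm_num) (by norm_num)), if_neg (h1 11 _ (by norm_num) (by norm_num) (by norm_num)),
    if_neg (h1 3 _ (by norm_num) (by norm_num) (by norm_num)), if_pos ⟨k, rfl⟩]

variable {Δ : Type} [Fintype Δ] [DecidableEq Δ] {Y B R : Subgroup (Perm Δ)}

/-- the normal subgroup of each kind -/
inductive Of (R : Subgroup (Perm Δ)) : Kd → Prop
  | aff (k : ℕ) (e : Nonempty (R ≃* Multiplicative (Fin k → ZMod 2))) (hc : Fintype.card Δ = 2 ^ k)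
      (hf : ∀ v ∈ R, ∀ x, v x = x → v = 1) : Of R .aff
  | psl (F : Type) [Field F] [Fintype F] (e : Nonempty (R ≃* Matrix.ProjectiveSpecialLinearGroup (Fin 2) F))
      (hc : Fintype.card Δ = Fintype.card F + 1) (h : T2 R) : Of R .psl
  | sp (F : Type) [Field F] [Fintype F] (m : ℕ) (hF : Fintype.card F = 2) (hm : 3 ≤ m) (e : Nonempty (R ≃* PSp m F))
      (hn : Fintype.card Δ = 2 ^ (m - 1) * (2 ^ m + 1) ∨ Fintype.card Δ = 2 ^ (m - 1) * (2 ^ m - 1)) (h : T2 R) : Of R .sp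
  | l11 (F : Type) [Field F] [Fintype F] (hF : Fintype.card F = 11)
      (e : Nonempty (R ≃* Matrix.ProjectiveSpecialLinearGroup (Fin 2) F)) (hc : Fintype.card Δ = 11) (h : T2 R) : Of R .l11
  | a7 (e : Nonempty (R ≃* ↥(alternatingGroup (Fin 7)))) (hc : Fintype.card Δ = 15) (h : T2 R) : Of R .a7
  | m11 (e : Spor.IsoM11 R) (hc : Fintype.card Δ = 11) (h : T2 R) : Of R .m11
  | m11' (e : Spor.IsoM11 R) (hc : Fintype.card Δ = 12) (h : T2 R) : Of R .m11'
  | m12 (e : Spor.IsoM12 R) (hc : Fintype.card Δ = 12) (h : T2 R) : Of R .m12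
  | m22 (e : Spor.IsoM22 R) (hc : Fintype.card Δ = 22) (h : T2 R) : Of R .m22
  | m23 (e : Spor.IsoM23 R) (hc : Fintype.card Δ = 23) (h : T2 R) : Of R .m23
  | m24 (e : Spor.IsoM24 R) (hc : Fintype.card Δ = 24) (h : T2 R) : Of R .m24
  | hs (e : Spor.IsoHS R) (hc : Fintype.card Δ = 176) (h : T2 R) : Of R .hs
  | co3 (e : Spor.IsoCo3 R) (hc : Fintype.card Δ = 276) (h : T2 R) : Of R .co3

theorem Of.conj (hSp : BoxSp) (hR : BoxR1) (hM : BoxMat) (hS : BoxSm) (hH : BoxHS) (hC : BoxCo)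
    (h3 : 3 ≤ Fintype.card Δ) {R₁ R₂ : Subgroup (Perm Δ)} (tr : ∀ a b : Δ, ∃ g ∈ R₁, g a = b) {k : Kd} (h₁ : Of R₁ k)
    (h₂ : Of R₂ k) : ∃ g : Perm Δ, ∀ x, x ∈ R₁ ↔ g * x * g⁻¹ ∈ R₂ := by
  have h2 : 2 ≤ Fintype.card Δ := by omega
  have : Nonempty Δ := Fintype.card_pos_iff.1 (by omega)
  cases h₁ <;> cases h₂
  · next k e hc hf k' e' hc' hf' =>
    obtain rfl : k = k' := Nat.pow_right_injective le_rfl (hc.symm.trans hc')
    exact conj_of_reg tr (e.some.trans e'.some.symm) hf hf'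
  · next F _ _ e hc h F' _ _ e' hc' h' =>
    exact conj_of_row h2 h h' (e.some.trans ((LieClassical.FieldTransfer.pslCongr
      (FiniteField.ringEquivOfCardEq (by omega))).trans e'.some.symm)) (one2_of_rk1 h3 (hc ▸ (hR R₁ F).1 e)).row
  · next F _ _ m hF hm e hn h F' _ _ m' hF' hm' e' hn' h' =>
    obtain ⟨u, hu, -, e1⟩ := sp_odd hm hn
    obtain ⟨v, hv, -, e2⟩ := sp_odd hm' hn'
    obtain rfl : m = m' := by
      have := two_odd hu (e1.symm.trans e2)
      have := two_odd hv (e2.symm.trans e1)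
      omega
    exact conj_of_row h2 h h' (e.some.trans ((LieClassical.FieldTransfer.pspCongr m
      (FiniteField.ringEquivOfCardEq (hF.trans hF'.symm))).trans e'.some.symm)) (hSp R₁ F m _ hF hm e hn).1.row
  · next F _ _ hF e hc h F' _ _ hF' e' hc' h' =>
    exact conj_of_row h2 h h' (e.some.trans ((LieClassical.FieldTransfer.pslCongr
      (FiniteField.ringEquivOfCardEq (hF.trans hF'.symm))).trans e'.some.symm)) (hc ▸ ((hS R₁).1 F hF e).1)
  · next e hc h e' hc' h' => exact conj_of_row h2 h h' (e.some.trans e'.some.symm) (hc ▸ ((hS R₁).2 e).1)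
  · next e hc h e' hc' h' => exact conj_of_row h2 h h' (e.some.trans e'.some.symm) (hc ▸ ((hM R₁).1 e).1.row)
  · next e hc h e' hc' h' => exact conj_of_row h2 h h' (e.some.trans e'.some.symm) (hc ▸ ((hM R₁).1 e).2.row)
  · next e hc h e' hc' h' => exact conj_of_row h2 h h' (e.some.trans e'.some.symm) (hc ▸ ((hM R₁).2.1 e).1)
  · next e hc h e' hc' h' => exact conj_of_row h2 h h' (e.some.trans e'.some.symm) (hc ▸ ((hM R₁).2.2.1 e).row)
  · next e hc h e' hc' h' => exact conj_of_row h2 h h' (e.some.trans e'.some.symm) (hc ▸ ((hM R₁).2.2.2.1 e).row)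
  · next e hc h e' hc' h' => exact conj_of_row h2 h h' (e.some.trans e'.some.symm) (hc ▸ ((hM R₁).2.2.2.2 e).row)
  · next e hc h e' hc' h' => exact conj_of_row h2 h h' (e.some.trans e'.some.symm) (hc ▸ (hH R₁ e).1)
  · next e hc h e' hc' h' => exact conj_of_row h2 h h' (e.some.trans e'.some.symm) (hc ▸ (hC R₁ e).row)

theorem alt_le_of_card (h : (Fintype.card Δ).factorial = 2 * Nat.card R) : alternatingGroup Δ ≤ R := by
  have h1 := R.card_mul_index
  rw [Nat.card_perm, Nat.card_eq_fintype_card (α := Δ), h, mul_comm 2] at h1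
  exact (Perm.eq_alternatingGroup_of_index_eq_two (Nat.eq_of_mul_eq_mul_left Nat.card_pos h1)).ge

theorem card_l2 {T : Type} [Group T] {F : Type} [Field F] [Fintype F]
    (e : T ≃* Matrix.ProjectiveSpecialLinearGroup (Fin 2) F) :
    Nat.card T * Nat.gcd 2 (Fintype.card F - 1) = Fintype.card F * (Fintype.card F ^ 2 - 1) := by
  rw [Nat.card_congr e.toEquiv]
  exact ClassicalGeometry.PSL2Basic.card_PSL2_gcd F

theorem aut_l2 {T : Type} [Group T] {F : Type} [Field F] [Fintype F]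
    (e : T ≃* Matrix.ProjectiveSpecialLinearGroup (Fin 2) F) {p f : ℕ} (hp : p.Prime) (hf : 1 ≤ f)
    (hF : Fintype.card F = p ^ f) (h4 : 4 ≤ p ^ f) : Nat.card (MulAut T) = f * (p ^ f * ((p ^ f) ^ 2 - 1)) := by
  have := Fact.mk hp
  rw [Nat.card_congr (MulAut.congr e).toEquiv, S0813.result p f hf hF 2 le_rfl fun _ => h4,
    ClassicalGeometry.PSL2Basic.card_PGL2, hF, if_pos rfl, one_mul]

theorem aut_m11 {T : Type} [Group T] (e : Spor.IsoM11 T) : Nat.card (MulAut T) ≤ 7920 := by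
  have : Finite Spor.M11 := Nat.finite_of_card_ne_zero (by rw [HNType.Alt.card_M11]; norm_num)
  rw [Nat.card_congr (MulAut.congr e.some).toEquiv, card_eq_card_quotient_mul_card_subgroup (Inn Spor.M11),
    show Nat.card (MulAut Spor.M11 ⧸ Inn Spor.M11) = 1 from S2060.result, one_mul, ← HNType.Alt.card_M11]
  exact Nat.card_le_card_of_surjective _ (MonoidHom.rangeRestrict_surjective _)

theorem exists_of (hL : BoxLin) (hR : BoxR1) (h6 : 6 ≤ Fintype.card Δ) (hY : alternatingGroup Δ ≤ Y) (hB : B ⋖ Y)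
    (hA : ¬ alternatingGroup Δ ≤ B) (h : Pr2 B) :
    ∃ R : Subgroup (Perm Δ), Y ⊓ normalizer (R : Set (Perm Δ)) = B ∧
      (∀ a b : Δ, ∃ g ∈ R, g a = b) ∧ Of R (cd (Fintype.card Δ) (Nat.card B)) := by
  obtain ⟨R, hn, h0, tr, hR'⟩ := red (t2_pr h (by omega)) (by omega)
  have e0 := eq_norm (by omega) hY hB hA hn h0
  refine ⟨R, e0, tr, ?_⟩
  have : Nontrivial Δ := Fintype.one_lt_card_iff_nontrivial.1 (by omega)
  rcases hR' with ⟨hc, -, hf⟩ | ⟨hs, hna, hK, hb, h1⟩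
  · obtain ⟨k, e, h1, h2⟩ := exists_elem (A := R) (fun x y => Subtype.ext (hc _ x.2 _ y.2)) fun x =>
      Subtype.ext (sq_of_reg h (by omega) hn hf x.2)
    have h3 := aff_le hY e0 hn tr hf
    rw [card_reg tr hf] at h1
    rw [h2, h1] at h3
    rw [h1, cd_aff (not_sm_aff (h1 ▸ h6) h3)]
    exact .aff k e h1 hf
  have h2 := t2_nor h hn tr h1
  have hl : Nat.card R ≤ Nat.card B := card_le_of_le hn.le
  have ha : (Fintype.card Δ).factorial ≠ 2 * Nat.card R := fun k => hA ((alt_le_of_card k).trans hn.le)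
  have hr := not_rk1N h (by omega) hn h2
  have hd := h2.act.dvd (by omega)
  have hlin := fun (F : Type) (_ : Field F) (_ : Fintype F) d hd e hc =>
    not_lin h hn h2 (hL R F d _ hd e hc Δ h2.act)
  generalize Nat.card B = b at hb hl
  generalize hc : Fintype.card Δ = c at hK ha hr hd hlin h6
  cases hK with
  | alt n hn e => exact absurd (H354.Four.card_alt (by omega) e) ha
  | psl F d n hd hd2 e hn =>
    rcases Nat.lt_or_ge 2 d with hd3 | hd3
    · exact (hlin F _ _ d hd3 e hn).elim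
    obtain rfl : d = 2 := by omega
    obtain ⟨p, _, ⟨f, hf⟩, hp, hF⟩ := FiniteField.card' F
    change Fintype.card F = p ^ f at hF
    have h4 := hd2 rfl
    have h5 : c = Fintype.card F + 1 := by
      refine Nat.eq_of_mul_eq_mul_right (show 0 < Fintype.card F - 1 by omega) ?_
      rw [hn, ← Nat.sq_sub_sq, one_pow]
    rw [aut_l2 e.some hp hf hF (hF ▸ h4), ← one_pow 2, Nat.sq_sub_sq] at hb
    rw [cd, if_pos ⟨p, f, hp, hf, hF ▸ h5, hb.trans_eq (by
      rw [h5, hF, Nat.add_sub_cancel, show p ^ f + 1 - 2 = p ^ f - 1 from rfl]; ring)⟩]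
    exact .psl F e (hc.trans h5) h2
  | sp F m n hF hm e hn =>
    have h3 := S0245.result (F := F) hF m
    rw [card_eq_card_quotient_mul_card_subgroup (center _), S0246.result (F := F) hF m (by omega),
      show Nat.gcd 2 (2 - 1) = 1 from rfl, mul_one] at h3
    obtain ⟨a1, a2, a3, a4⟩ := sp_ne hm hn
    rw [cd, if_neg (not_sm_sp hm hn (((Nat.card_congr e.some.toEquiv).trans h3).ge.trans hl)), if_neg (by omega),
      if_neg (by omega), if_neg (by omega), if_neg (by omega), if_neg (by omega), if_neg (by omega), if_neg a2, if_neg a3,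
      if_neg a4]
    exact .sp F m hF hm e (hc ▸ hn) h2
  | psu F q n hq hF e hn => exact absurd (hn ▸ (hR R F).2.1 q hq hF e) hr
  | sz F m n hm hF e hn => exact absurd (hn ▸ (hR R F).2.2.1 m hm hF e) hr
  | ree F m n hm hF e hn => exact absurd (hn ▸ (hR R F).2.2.2 m hm hF e) hr
  | psl2_8 F hF e =>
    have h3 := card_l2 e.some
    rw [hF] at h3
    norm_num at h3
    omega
  | psl2_9 F hF e =>
    have h3 := card_l2 e.some
    rw [hF] at h3
    norm_num [Nat.factorial] at h3 ha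
    omega
  | psl2_11 F hF e =>
    rw [aut_l2 e.some (p := 11) (by norm_num) le_rfl hF (by norm_num)] at hb
    rw [cd, if_neg (not_sm_pp (r := 5) (by norm_num) (by norm_num)), if_pos rfl, if_pos (hb.trans (by norm_num))]
    exact .l11 F hF e hc h2
  | psl4_2 F hF e => exact absurd (H354.Four.card_alt (by omega) ⟨e.some.trans (S0256.result hF).some⟩) ha
  | a7 e =>
    rw [cd, if_neg (not_sm_pp (r := 7) (by norm_num) (by norm_num)), if_neg (by norm_num), if_neg (by norm_num),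
      if_pos rfl]
    exact .a7 e hc h2
  | m11 k =>
    rw [BiChar.Small.card_of_iso k HNType.Alt.card_M11] at hl
    rw [cd, if_neg (not_sm 3 (by norm_num) (by norm_num) hl), if_pos rfl, if_neg (by omega)]
    exact .m11 k hc h2
  | m11' k =>
    rw [BiChar.Small.card_of_iso k HNType.Alt.card_M11] at hl
    rw [cd, if_neg (not_sm 3 (by norm_num) (by norm_num) hl), if_neg (by norm_num), if_pos rfl,
      if_pos (hb.trans (aut_m11 k))]
    exact .m11' k hc h2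
  | m12 k =>
    rw [BiChar.Small.card_of_iso k MTwelveType.SylowModel.card_M12] at hl
    rw [cd, if_neg (not_sm 3 (by norm_num) (by norm_num) hl), if_neg (by norm_num), if_pos rfl, if_neg (by omega)]
    exact .m12 k hc h2
  | m22 k =>
    rw [BiChar.Small.card_of_iso k SporadicA.MathieuRecog.card_M22] at hl
    rw [cd, if_neg (not_sm 4 (by norm_num) (by norm_num) hl), if_neg (by norm_num), if_neg (by norm_num),
      if_neg (by norm_num), if_pos rfl]
    exact .m22 k hc h2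
  | m23 k =>
    rw [BiChar.Small.card_of_iso k SporadicA.MathieuRecog.card_M23] at hl
    rw [cd, if_neg (not_sm 4 (by norm_num) (by norm_num) hl), if_neg (by norm_num), if_neg (by norm_num),
      if_neg (by norm_num), if_neg (by norm_num), if_pos rfl]
    exact .m23 k hc h2
  | m24 k =>
    rw [BiChar.Small.card_of_iso k S0364.result] at hl
    rw [cd, if_neg (not_sm 4 (by norm_num) (by norm_num) hl), if_neg (by norm_num), if_neg (by norm_num),
      if_neg (by norm_num), if_neg (by norm_num), if_neg (by norm_num), if_pos rfl]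
    exact .m24 k hc h2
  | hs k =>
    rw [BiChar.Small.card_of_iso k BiChar.Small.card_HS] at hl
    rw [cd, if_neg (not_sm 7 (by norm_num) (by norm_num) hl), if_neg (by norm_num), if_neg (by norm_num),
      if_neg (by norm_num), if_neg (by norm_num), if_neg (by norm_num), if_neg (by norm_num), if_pos rfl]
    exact .hs k hc h2
  | co3 k =>
    rw [BiChar.Small.card_of_isoCo3 k] at hl
    rw [cd, if_neg (not_sm 8 (by norm_num) (by norm_num) hl), if_neg (by norm_num), if_neg (by norm_num),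
      if_neg (by norm_num), if_neg (by norm_num), if_neg (by norm_num), if_neg (by norm_num), if_neg (by norm_num),
      if_pos rfl]
    exact .co3 k hc h2

theorem seven_num {q d : ℕ} (hq : 2 ≤ q) (hd : 2 ≤ d) (h : 7 * (q - 1) = q ^ d - 1) : (q = 2 ∧ d = 3) ∨ q = 6 := by
  obtain ⟨r, rfl⟩ : ∃ r, q = r + 2 := ⟨q - 2, by omega⟩
  have h0 : ∀ n, 0 < (r + 2) ^ n := fun n => by positivity
  have h1 : 7 * (r + 1) + 1 = (r + 2) ^ d := by
    have := h0 d
    omega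
  rcases Nat.lt_or_ge d 4 with h4 | h4
  · interval_cases d
    · exact Or.inr (by nlinarith)
    · exact Or.inl ⟨by nlinarith [h0 2], rfl⟩
  · have h2 := Nat.pow_le_pow_right (show 0 < r + 2 by omega) h4
    have h3 : 2 ^ 3 * (r + 2) ≤ (r + 2) ^ 4 := by
      rw [pow_succ (r + 2) 3]
      exact Nat.mul_le_mul_right _ (Nat.pow_le_pow_left (by omega) 3)
    omega

theorem exists_seven (h7 : Fintype.card Δ = 7) (hY : alternatingGroup Δ ≤ Y) (hB : B ⋖ Y)
    (hA : ¬ alternatingGroup Δ ≤ B) (h : T2 B) :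
    ∃ R : Subgroup (Perm Δ), Y ⊓ normalizer (R : Set (Perm Δ)) = B ∧
      (∀ a b : Δ, ∃ g ∈ R, g a = b) ∧ ((Nat.card B ≤ 49 ∧ ∀ v ∈ R, ∀ x, v x = x → v = 1) ∨ (60 ≤ Nat.card B ∧
        ∃ (F : Type) (_ : Field F) (_ : Fintype F), Fintype.card F = 2 ∧
          Nonempty (R ≃* Matrix.ProjectiveSpecialLinearGroup (Fin 3) F))) := by
  obtain ⟨R, hn, h0, tr, hR'⟩ := red h (by omega)
  refine ⟨R, eq_norm (by omega) hY hB hA hn h0, tr, ?_⟩
  have : Nontrivial Δ := Fintype.one_lt_card_iff_nontrivial.1 (by omega)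
  rcases hR' with ⟨-, -, hf⟩ | ⟨hs, hna, hK, -, -⟩
  · refine Or.inl ⟨?_, hf⟩
    obtain ⟨a, b, hab⟩ := exists_pair_ne Δ
    obtain ⟨v, hv, rfl⟩ := tr a b
    have : Fact (Nat.Prime 7) := ⟨by norm_num⟩
    have h1 : zpowers (⟨v, hv⟩ : R) = ⊤ := zpowers_eq_top_of_prime_card ((card_reg tr hf).trans h7)
      fun e => hab (by rw [show v = 1 from congrArg Subtype.val e]; rfl)
    have h2 : ∀ g ∈ B, g a = a → g (v a) = v a → g = 1 := fun g hg k l => by
      have h3 : v⁻¹ * (g * v * g⁻¹) = 1 := hf _ (R.mul_mem (R.inv_mem hv) (hn.conj g hg v hv)) a (by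
        show v⁻¹ (g (v (g⁻¹ a))) = a
        rw [Perm.inv_eq_iff_eq.2 k.symm, l]
        exact v.symm_apply_apply a)
      have h4 : Commute g v := mul_inv_eq_iff_eq_mul.1 (inv_mul_eq_one.1 h3).symm
      refine Equiv.ext fun x => ?_
      obtain ⟨u, hu, rfl⟩ := tr a x
      obtain ⟨n, hn'⟩ := h1.ge (mem_top ⟨u, hu⟩)
      rw [← show v ^ n = u from congrArg Subtype.val hn']
      exact (congrArg (fun z : Perm Δ => z a) (h4.zpow_right n).eq).trans (congrArg (v ^ n) k)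
    have h3 := Nat.card_le_card_of_injective (fun g : B => (g.1 a, g.1 (v a))) fun g g' e =>
      Subtype.ext (inv_mul_eq_one.1 (h2 _ (B.mul_mem (B.inv_mem g'.2) g.2) (Perm.inv_eq_iff_eq.2 (congrArg Prod.fst e))
        (Perm.inv_eq_iff_eq.2 (congrArg Prod.snd e)))).symm
    rwa [Nat.card_prod, Nat.card_eq_fintype_card (α := Δ), h7] at h3
  refine Or.inr ⟨(H427.Fc.sixty_le hs hna).trans (card_le_of_le hn.le), ?_⟩
  have ha : (Fintype.card Δ).factorial ≠ 2 * Nat.card R := fun k => hA ((alt_le_of_card k).trans hn.le)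
  generalize Fintype.card Δ = c at hK ha h7
  cases hK with
  | alt n hn e => exact absurd (H354.Four.card_alt (by omega) e) ha
  | psl F d n hd hd2 e hn =>
    rcases seven_num Fintype.one_lt_card hd (h7 ▸ hn) with ⟨h1, rfl⟩ | h1
    · exact ⟨F, _, _, h1, e⟩
    · obtain ⟨p, _, f, hp, hF⟩ := FiniteField.card' F
      exact (not_pp (r := 3) hp (by norm_num) (by norm_num) (hF.symm.trans h1)).elim
  | sp F m n hF hm e hn => have := (sp_ne hm hn).1; omega
  | psu F q n hq hF e hn => have := Nat.pow_le_pow_left hq 3; omega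
  | sz F m n hm hF e hn =>
    have h1 : 2 ^ 3 ≤ Fintype.card F := hF ▸ Nat.pow_le_pow_right two_pos (by omega)
    have := Nat.pow_le_pow_left h1 2
    omega
  | ree F m n hm hF e hn =>
    have := Nat.pow_le_pow_left (show 2 ≤ Fintype.card F from Fintype.one_lt_card) 3
    omega
  | _ => omega

end Cfsg.Agent.SM.Alt.Ty

namespace Cfsg.Agent.SM.Alt

open Cfsg Equiv Subgroup MulAction Ty

/-- **types of 2-primitive groups** -/
theorem boxTY_of (hSp : BoxSp) (hL : BoxLin) (hR : BoxR1) (hM : BoxMat) (hS : BoxSm) (hH : BoxHS) (hC : BoxCo) :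
    BoxTY := fun Δ _ _ Y B₁ B₂ h6 hY b₁ b₂ a₁ a₂ p₁ p₂ hc => by
  obtain ⟨R₁, e₁, t₁, o₁⟩ := exists_of hL hR h6 hY b₁ a₁ p₁
  obtain ⟨R₂, e₂, -, o₂⟩ := exists_of hL hR h6 hY b₂ a₂ p₂
  obtain ⟨g, hg⟩ := o₁.conj hSp hR hM hS hH hC (by omega) t₁ (hc ▸ o₂)
  exact ⟨g, conj_B (by omega) hY e₁ e₂ hg⟩

/-- **types in degree seven** -/
theorem boxTY7 : BoxTY7 := fun Δ _ _ Y B₁ B₂ h7 hY b₁ b₂ a₁ a₂ p₁ p₂ hc => by
  obtain ⟨R₁, e₁, t₁, o₁⟩ := exists_seven h7 hY b₁ a₁ p₁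
  obtain ⟨R₂, e₂, t₂, o₂⟩ := exists_seven h7 hY b₂ a₂ p₂
  have : Nonempty Δ := Fintype.card_pos_iff.1 (by omega)
  have : Fact (Nat.Prime 7) := ⟨by norm_num⟩
  suffices h : ∃ g : Perm Δ, ∀ x, x ∈ R₁ ↔ g * x * g⁻¹ ∈ R₂ from
    let ⟨g, hg⟩ := h
    ⟨g, conj_B (by omega) hY e₁ e₂ hg⟩
  rcases o₁ with ⟨c₁, f₁⟩ | ⟨c₁, F, _, _, hF, ⟨e⟩⟩ <;> rcases o₂ with ⟨c₂, f₂⟩ | ⟨c₂, F', _, _, hF', ⟨e'⟩⟩
  · exact conj_of_reg t₁ (mulEquivOfPrimeCardEq ((card_reg t₁ f₁).trans h7) ((card_reg t₂ f₂).trans h7)) f₁ f₂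
  · omega
  · omega
  · let θ := e.trans ((LieClassical.FieldTransfer.pslCongr
      (FiniteField.ringEquivOfCardEq (hF.trans hF'.symm))).trans e'.symm)
    obtain ⟨a⟩ := ‹Nonempty Δ›
    have hi : ∀ {R : Subgroup (Perm Δ)}, (∀ a b : Δ, ∃ g ∈ R, g a = b) → (stabilizer R a).index = 7 := fun {R} t => by
      have : IsPretransitive R Δ := ⟨fun x y => let ⟨g, hg, k⟩ := t x y; ⟨⟨g, hg⟩, k⟩⟩
      rw [index_stabilizer_of_transitive, Nat.card_eq_fintype_card, h7]
    obtain ⟨γ, hγ⟩ := H561.PPow.RowAt.of_equiv e (H561.PPow.rowAt_psl (n := 7) (by norm_num) (by rw [hF]; rfl))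
      (stabilizer R₁ a) ((stabilizer R₂ a).comap θ.toMonoidHom) (hi t₁)
      ((index_comap_of_surjective _ θ.surjective).trans (hi t₂))
    exact conj_of_iso t₁ (γ.trans θ) hγ

end Cfsg.Agent.SM.Alt
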