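import Cfsg.Agent.SM.Alt.Jb
import Cfsg.Agent.SM.Alt.Ty
import Cfsg.Agent.SM.Alt.Ext
import Cfsg.Agent.SM.Alt.HS
import Cfsg.Agent.SM.Alt.SpB
import Cfsg.Agent.SM.Alt.Lin
import Cfsg.Agent.SM.Alt.R1
import Cfsg.Agent.SM.Alt.MatB
import Cfsg.Agent.SM.Alt.MatC
import Cfsg.Agent.SM.Alt.Co
import Cfsg.Agent.H503.TwoAlt

/-!
# SM (S3570): the overgroups with alternating socle, `bndA : Bnd fA RA` (helper42)
-/

set_option autoImplicit false
set_option linter.unusedVariables false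
set_option linter.unusedSectionVars false

namespace Cfsg.Agent.SM.Alt

open Cfsg Equiv Subgroup MulAction

theorem Act.deg_alt {T Δ : Type} [Group T] [MulAction T Δ] {c m : ℕ} (h : Act T Δ c) (hs : IsSimpleGroup T)
    (hn : ¬ IsMulCommutative T) (h5 : 5 ≤ m) (h6 : m ≠ 6) (e : T ≃* alternatingGroup (Fin m)) :
    c = m ∨ (m = 5 ∧ c = 6) ∨ (m = 7 ∧ c = 15) ∨ (m = 8 ∧ c = 15) := by
  have A : H384.TwoTrans.AS T Δ ⊤ :=
    ⟨h.finite, h.fin, h.faithful, h.mp, inferInstance, (topEquiv (G := T)).isSimpleGroup_congr.2 hs,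
      fun k => hn ⟨⟨fun a b => congrArg Subtype.val (k.is_comm.comm (⟨a, mem_top a⟩ : (⊤ : Subgroup T)) ⟨b, mem_top b⟩)⟩⟩, by
        rcases (inferInstance : (center T).Normal).eq_bot_or_eq_top with k | k
        · rw [← k]
          ext g
          rw [mem_centralizer_iff, mem_center_iff]
          exact ⟨fun k1 x => k1 x (mem_top x), fun k1 x _ => k1 x⟩
        · exact absurd ⟨⟨fun a b => (mem_center_iff.1 (k.symm ▸ mem_top b : b ∈ center T) a)⟩⟩ hn⟩
  exact h.card ▸ H503.TwoAlt.degree A h5 h6 (topEquiv.trans e)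

theorem bndA_of (hE : BoxExt)
    (hc : ∀ {T Δ : Type} [Group T] [MulAction T Δ] {c : ℕ}, Act T Δ c → IsSimpleGroup T → ¬ IsMulCommutative T → Cs T c) :
    Bnd fA RA := by
  rintro Ω _ _ X H T ⟨M₀, S₀, u₀, p₀⟩
  obtain ⟨a⟩ : Nonempty Ω := Fintype.card_pos_iff.1 (lt_of_lt_of_le two_pos u₀.two)
  have sub : OvP fA X H T ⊆ {M | TyA X H T M a} ∪ {M | TyB X H T M} := by
    rintro M ⟨S, u, p⟩
    obtain ⟨Δ, _, _, φ, A, F, J | J⟩ := cases_of u p a
    · exact Or.inl ⟨S, Δ, _, _, φ, A, F, J⟩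
    · exact Or.inr ⟨S, Δ, _, _, φ, A, F, J⟩
  have hA := tyA_le hc X H T a
  have tot := (Set.ncard_le_ncard sub (Set.toFinite _)).trans (Set.ncard_union_le _ _)
  rcases Set.eq_empty_or_nonempty {M | TyB X H T M} with hB | ⟨M₁, h₁⟩
  · obtain ⟨S, Δ, _, _, φ, A, F, J⟩ : TyA X H T M₀ a := (sub ⟨S₀, u₀, p₀⟩).resolve_right (hB ▸ Set.notMem_empty _)
    let _ := act F.rho
    have D := F.jd hc J
    have h6 := F.six
    rw [hB, Set.ncard_empty] at tot
    exact ⟨2, Or.inl ⟨rfl, Or.inr ⟨_, _, J.two, D.le_five, J.half, F.deg J, D.act.dvd (by omega), F.deg J ▸ D.dvd _ le_rfl⟩⟩,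
      tot.trans hA⟩
  obtain ⟨m, h5, ⟨e⟩, h4, h2⟩ := tyB_le hE h₁
  have ht := two_card_of h5 e
  by_cases h6 : m = 6
  · subst h6
    rw [show Nat.factorial 6 = 720 from rfl] at ht
    exact ⟨6, Or.inr (Or.inl ⟨rfl, by omega⟩), by omega⟩
  have h3 := h2 h6
  rcases Set.eq_empty_or_nonempty {M | TyA X H T M a} with hA' | ⟨M₂, S, Δ, _, _, φ, A, F, J⟩
  · rw [hA', Set.ncard_empty] at tot
    exact ⟨2, Or.inl ⟨rfl, Or.inl ⟨m, h5, ht⟩⟩, by omega⟩
  let _ := act F.rho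
  have D := F.jd hc J
  have k1 := J.two
  have k2 := J.half
  have k3 := D.le_five
  have k4 := D.dvd _ le_rfl
  refine ⟨4, Or.inr (Or.inr ⟨rfl, ?_⟩), by omega⟩
  rw [F.deg J]
  rcases D.act.deg_alt F.u.socH.simple F.u.socH.nab h5 h6 e with k | ⟨rfl, k⟩ | ⟨rfl, k⟩ | ⟨rfl, k⟩
  · exact absurd (k ▸ ht.symm) F.nalt
  · rw [show Nat.factorial 5 = 120 from rfl] at ht
    rw [k] at k2 ⊢
    have k5 : A.card = 2 ∨ A.card = 3 := by omega
    refine Or.inl ⟨by omega, ?_⟩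
    rcases k5 with l | l <;> rw [l]
    · exact Or.inl rfl
    · exact Or.inr rfl
  · rw [show Nat.factorial 7 = 5040 from rfl] at ht
    have k5 : Nat.card T = 2520 := by omega
    rw [k, k5] at k4
    rw [k]
    refine Or.inr ⟨Or.inl k5, ?_⟩
    generalize A.card = j at k1 k3 k4
    interval_cases j <;> first | rfl | (norm_num [Nat.choose] at k4)
  · rw [show Nat.factorial 8 = 40320 from rfl] at ht
    have k5 : Nat.card T = 20160 := by omega
    rw [k, k5] at k4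
    rw [k]
    refine Or.inr ⟨Or.inr k5, ?_⟩
    generalize A.card = j at k1 k3 k4
    interval_cases j <;> first | rfl | (norm_num [Nat.choose] at k4)

/-- **the alternating family** -/
theorem bndA : Bnd fA RA :=
  bndA_of (boxExt_of (boxTY_of boxSp boxLin boxR1 Mat.boxMat Mat.boxSm HS.boxHS boxCo) boxTY7)
    fun h hs hn => cs_of boxSp boxLin boxR1 Mat.boxMat Mat.boxSm HS.boxHS boxCo h hs hn

end Cfsg.Agent.SM.Alt
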