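import Cfsg.Agent.SM.Alt.Defs2
import Mathlib.GroupTheory.GroupAction.Jordan

/-!
# SM-A7, part A: tools for the transitive extensions (helper91)
-/

set_option autoImplicit false
set_option linter.unusedVariables false
set_option linter.unusedSectionVars false

namespace Cfsg.Agent.SM.Alt.Xt

open Cfsg Equiv Subgroup MulAction

variable {Δ : Type} [Fintype Δ] [DecidableEq Δ]

/-- the permutations that keep a relation -/
def Pres (r : Δ → Δ → Prop) : Subgroup (Perm Δ) where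
  carrier := {g | ∀ x y, r (g x) (g y) ↔ r x y}
  one_mem' := fun x y => Iff.rfl
  mul_mem' := fun {g h} hg hh x y => (hg (h x) (h y)).trans (hh x y)
  inv_mem' := fun {g} hg x y => by
    have := hg (g⁻¹ x) (g⁻¹ y)
    simpa using this.symm

theorem mem_pres {r : Δ → Δ → Prop} {g : Perm Δ} : g ∈ Pres r ↔ ∀ x y, r (g x) (g y) ↔ r x y := Iff.rfl

theorem swap_pres {r : Δ → Δ → Prop} (hr : Equivalence r) {p q : Δ} (h : r p q) : swap p q ∈ Pres r := by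
  have key : ∀ x, r (swap p q x) x := by
    intro x
    rw [swap_apply_def]
    split_ifs with h1 h2
    · rw [h1]; exact hr.symm h
    · rw [h2]; exact h
    · exact hr.refl x
  intro x y
  exact ⟨fun hh => hr.trans (hr.trans (hr.symm (key x)) hh) (key y),
    fun hh => hr.trans (hr.trans (key x) hh) (hr.symm (key y))⟩

/-- the relation "on the same side of `O`" -/
def Side (O : Set Δ) : Δ → Δ → Prop := fun x y => x ∈ O ↔ y ∈ O

theorem side_equiv (O : Set Δ) : Equivalence (Side O) :=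
  ⟨fun _ => Iff.rfl, fun h => Iff.symm h, fun h1 h2 => Iff.trans h1 h2⟩

theorem sw2_alt {p q s t : Δ} (h1 : p ≠ q) (h2 : s ≠ t) : swap p q * swap s t ∈ alternatingGroup Δ := by
  rw [Perm.mem_alternatingGroup, Perm.sign_mul, Perm.sign_swap h1, Perm.sign_swap h2]
  decide

theorem sw2_fix {A : Finset Δ} {p q s t : Δ} (hp : p ∉ A) (hq : q ∉ A) (hs : s ∉ A) (ht : t ∉ A) :
    ∀ a ∈ A, (swap p q * swap s t) a = a := by
  intro a ha
  have e1 : a ≠ p := fun h => hp (h ▸ ha)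
  have e2 : a ≠ q := fun h => hq (h ▸ ha)
  have e3 : a ≠ s := fun h => hs (h ▸ ha)
  have e4 : a ≠ t := fun h => ht (h ▸ ha)
  rw [Perm.mul_apply, swap_apply_of_ne_of_ne e3 e4, swap_apply_of_ne_of_ne e1 e2]

theorem stab_of_fix {A : Finset Δ} {g : Perm Δ} (h : ∀ a ∈ A, g a = a) : ∀ x, g x ∈ A ↔ x ∈ A := by
  intro x
  refine ⟨fun hx => ?_, fun hx => by rw [h x hx]; exact hx⟩
  have := g.injective (h _ hx)
  rw [← this]; exact hx

theorem cyc1 {x y z : Δ} (h1 : x ≠ y) (h2 : x ≠ z) (h3 : y ≠ z) : (swap x z * swap x y) x = y := by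
  rw [Perm.mul_apply, swap_apply_left, swap_apply_of_ne_of_ne h1.symm h3]

theorem cyc2 {x y z : Δ} : (swap x z * swap x y) y = z := by
  rw [Perm.mul_apply, swap_apply_right, swap_apply_left]

theorem ex_out (E : Finset Δ) (h : E.card < Fintype.card Δ) : ∃ x, x ∉ E := by
  by_contra hc
  push Not at hc
  have : E = Finset.univ := Finset.eq_univ_iff_forall.2 hc
  rw [this, Finset.card_univ] at h
  exact lt_irrefl _ h

/-- three points off `A` on one side of `O` -/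
theorem three_side {A : Finset Δ} (h5 : A.card + 5 ≤ Fintype.card Δ) (O : Set Δ) :
    ∃ p q s, p ∉ A ∧ q ∉ A ∧ s ∉ A ∧ p ≠ q ∧ p ≠ s ∧ q ≠ s ∧ Side O p q ∧ Side O p s := by
  classical
  have h1 := Finset.card_filter_add_card_filter_not (s := Aᶜ) (fun x => x ∈ O)
  rw [Finset.card_compl] at h1
  by_cases h : 2 < (Aᶜ.filter fun x => x ∈ O).card
  · obtain ⟨p, hp, q, hq, s, hs, e1, e2, e3⟩ := Finset.two_lt_card.1 h
    simp only [Finset.mem_filter, Finset.mem_compl] at hp hq hs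
    exact ⟨p, q, s, hp.1, hq.1, hs.1, e1, e2, e3, iff_of_true hp.2 hq.2, iff_of_true hp.2 hs.2⟩
  · obtain ⟨p, hp, q, hq, s, hs, e1, e2, e3⟩ := Finset.two_lt_card.1
      (show 2 < (Aᶜ.filter fun x => ¬ x ∈ O).card by omega)
    simp only [Finset.mem_filter, Finset.mem_compl] at hp hq hs
    exact ⟨p, q, s, hp.1, hq.1, hs.1, e1, e2, e3, iff_of_false hp.2 hq.2, iff_of_false hp.2 hs.2⟩

theorem alt_two (h4 : 4 ≤ Fintype.card Δ) {a b x y : Δ} (h1 : a ≠ b) (h2 : x ≠ y) :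
    ∃ g ∈ alternatingGroup Δ, g a = x ∧ g b = y := by
  have hc : Nat.card Δ = Fintype.card Δ := Nat.card_eq_fintype_card
  have h0 := alternatingGroup.isMultiplyPretransitive Δ
  have h3 : IsMultiplyPretransitive (alternatingGroup Δ) Δ 2 :=
    isMultiplyPretransitive_of_le (n := Nat.card Δ - 2) (by omega) (Nat.sub_le _ _)
  obtain ⟨g, hg1, hg2⟩ := is_two_pretransitive_iff.1 h3 h1 h2
  exact ⟨g.1, g.2, hg1, hg2⟩

/-- two-transitive -/
def Tw (B : Subgroup (Perm Δ)) : Prop := ∀ a b x y : Δ, a ≠ b → x ≠ y → ∃ g ∈ B, g a = x ∧ g b = y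

theorem Tw.prim {B : Subgroup (Perm Δ)} (h : Tw B) : IsPreprimitive B Δ := by
  apply isPreprimitive_of_is_two_pretransitive
  rw [is_two_pretransitive_iff]
  intro a b c d h1 h2
  obtain ⟨g, hg, e1, e2⟩ := h a b c d h1 h2
  exact ⟨⟨g, hg⟩, e1, e2⟩

theorem tw_of {B : Subgroup (Perm Δ)} {a a' : Δ} (h : ∀ x y : Δ, x ≠ y → ∃ g ∈ B, g x = a ∧ g y = a') : Tw B := by
  intro u v x y h1 h2
  obtain ⟨g, hg, e1, e2⟩ := h u v h1
  obtain ⟨k, hk, f1, f2⟩ := h x y h2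
  refine ⟨k⁻¹ * g, B.mul_mem (B.inv_mem hk) hg, ?_, ?_⟩
  · rw [Perm.mul_apply, e1, ← f1]; simp
  · rw [Perm.mul_apply, e2, ← f2]; simp

theorem jordan {B : Subgroup (Perm Δ)} (h : IsPreprimitive B Δ) {x y z : Δ} (h1 : x ≠ y) (h2 : x ≠ z) (h3 : y ≠ z)
    (hm : swap x y * swap x z ∈ B) : alternatingGroup Δ ≤ B :=
  Perm.alternatingGroup_le_of_isPreprimitive_of_isThreeCycle_mem h (Perm.isThreeCycle_swap_mul_swap_same h1 h2 h3) hm

/-- a product `H B` fixes the order of `B` -/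
theorem card_eq_of_fac {G : Type} [Group G] [Finite G] {Y H B₁ B₂ : Subgroup G} (l1 : B₁ ≤ Y) (l2 : B₂ ≤ Y)
    (e : H ⊓ B₁ = H ⊓ B₂) (f1 : ∀ y ∈ Y, ∃ h ∈ H, ∃ b ∈ B₁, y = h * b) (f2 : ∀ y ∈ Y, ∃ h ∈ H, ∃ b ∈ B₂, y = h * b) :
    Nat.card B₁ = Nat.card B₂ := by
  have key : ∀ B : Subgroup G, B ≤ Y → (∀ y ∈ Y, ∃ h ∈ H, ∃ b ∈ B, y = h * b) →
      Nat.card B = Nat.card (orbit Y ((1 : G) : G ⧸ H)) * Nat.card ↥(H ⊓ B) := by
    intro B l f
    have h1 : Nat.card B = Nat.card (orbit B ((1 : G) : G ⧸ H)) * Nat.card (stabilizer B ((1 : G) : G ⧸ H)) := by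
      rw [← Nat.card_prod, Nat.card_congr (orbitProdStabilizerEquivGroup B ((1 : G) : G ⧸ H))]
    have h2 : orbit B ((1 : G) : G ⧸ H) = orbit Y ((1 : G) : G ⧸ H) := by
      ext x
      constructor
      · rintro ⟨b, rfl⟩
        exact ⟨⟨b.1, l b.2⟩, rfl⟩
      · rintro ⟨y, rfl⟩
        obtain ⟨h, hh, b, hb, e⟩ := f y⁻¹ (Y.inv_mem y.2)
        refine ⟨⟨b⁻¹, B.inv_mem hb⟩, ?_⟩
        show ((b⁻¹ * 1 : G) : G ⧸ H) = ((y.1 * 1 : G) : G ⧸ H)
        rw [QuotientGroup.eq]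
        have : (y : G) = b⁻¹ * h⁻¹ := by rw [← mul_inv_rev, ← e]; simp
        rw [this]
        simpa using hh
    have h3 : stabilizer B ((1 : G) : G ⧸ H) = (H ⊓ B).subgroupOf B := by
      ext b
      rw [mem_stabilizer_iff, mem_subgroupOf]
      show ((b.1 * 1 : G) : G ⧸ H) = ((1 : G) : G ⧸ H) ↔ _
      rw [QuotientGroup.eq]
      simp
    rw [h1, h2, h3, Nat.card_congr (subgroupOfEquivOfLe (inf_le_right : H ⊓ B ≤ B)).toEquiv]
  rw [key B₁ l1 f1, key B₂ l2 f2, e]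

variable {Y H K B B₁ B₂ : Subgroup (Perm Δ)} {A : Finset Δ}

theorem kH (e : Ext Y H K B A) : K ≤ H := e.km.le

theorem kB (e : Ext Y H K B A) : K ≤ B := e.inf ▸ inf_le_right

theorem memK (e : Ext Y H K B A) {g : Perm Δ} : g ∈ K ↔ g ∈ H ∧ g ∈ B := by rw [← e.inf]; exact Iff.rfl

theorem kA (e : Ext Y H K B A) {g : Perm Δ} (hg : g ∈ K) : ∀ x, g x ∈ A ↔ x ∈ A := ((e.stab g).1 (kH e hg)).2

theorem memH (e : Ext Y H K B A) {g : Perm Δ} (h1 : g ∈ alternatingGroup Δ) (h2 : ∀ a ∈ A, g a = a) : g ∈ H :=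
  (e.stab g).2 ⟨e.alt h1, stab_of_fix h2⟩

theorem card_eq (e₁ : Ext Y H K B₁ A) (e₂ : Ext Y H K B₂ A) : Nat.card B₁ = Nat.card B₂ :=
  card_eq_of_fac e₁.bm.le e₂.bm.le (e₁.inf.trans e₂.inf.symm) e₁.fac e₂.fac

/-- `K` is the full stabiliser of a relation that it keeps and that is not trivial off `A` -/
theorem full (e : Ext Y H K B A) {r : Δ → Δ → Prop} (hK : K ≤ Pres r) {x y z : Δ} (hx : x ∉ A) (hy : y ∉ A) (hz : z ∉ A)
    (h1 : x ≠ y) (h2 : x ≠ z) (h3 : y ≠ z) (r1 : r x y) (r2 : ¬ r y z) {h : Perm Δ} (hh : h ∈ H) (hr : h ∈ Pres r) :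
    h ∈ K := by
  rcases e.km.eq_or_eq (le_inf (kH e) hK : K ≤ H ⊓ Pres r) inf_le_left with h4 | h4
  · rw [← h4]; exact ⟨hh, hr⟩
  · exfalso
    have h5 : swap x z * swap x y ∈ H ⊓ Pres r := by
      rw [h4]; exact memH e (sw2_alt h2 h1) (sw2_fix hx hz hx hy)
    have h6 := h5.2 x y
    rw [cyc1 h1 h2 h3, cyc2] at h6
    exact r2 (h6.2 r1)

/-- the data of a proper equivalence relation off `A` kept by `K` -/
structure Rel (K : Subgroup (Perm Δ)) (A : Finset Δ) (r : Δ → Δ → Prop) : Prop where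
  eqv : Equivalence r
  le : K ≤ Pres r
  nt : ∃ x y z, x ∉ A ∧ y ∉ A ∧ z ∉ A ∧ x ≠ y ∧ r x y ∧ ¬ r y z

theorem Rel.sw (e : Ext Y H K B A) {r : Δ → Δ → Prop} (R : Rel K A r) {p q s t : Δ} (hp : p ∉ A) (hq : q ∉ A)
    (hs : s ∉ A) (ht : t ∉ A) (h1 : p ≠ q) (h2 : s ≠ t) (r1 : r p q) (r2 : r s t) : swap p q * swap s t ∈ K := by
  obtain ⟨x, y, z, hx, hy, hz, e1, e2, e3⟩ := R.nt
  refine full e R.le hx hy hz e1 ?_ ?_ e2 e3 (memH e (sw2_alt h1 h2) (sw2_fix hp hq hs ht))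
    ((Pres r).mul_mem (swap_pres R.eqv r1) (swap_pres R.eqv r2))
  · rintro rfl; exact e3 (R.eqv.symm e2)
  · rintro rfl; exact e3 (R.eqv.refl _)

/-- a subset that `K` keeps or exchanges with its complement -/
theorem rel_side (e : Ext Y H K B A) {O : Set Δ} (hK : K ≤ Pres (Side O)) {u v : Δ} (hu : u ∉ A) (hv : v ∉ A)
    (h1 : u ∈ O) (h2 : v ∉ O) : Rel K A (Side O) := by
  refine ⟨side_equiv O, hK, ?_⟩
  obtain ⟨p, q, s, hp, hq, hs, e1, e2, e3, r1, r2⟩ := three_side e.five O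
  by_cases h : q ∈ O
  · exact ⟨p, q, v, hp, hq, hv, e1, r1, fun hh => h2 (hh.1 h)⟩
  · exact ⟨p, q, u, hp, hq, hu, e1, r1, fun hh => h (hh.2 h1)⟩

theorem side_not_prim (e : Ext Y H K B A) {O : Set Δ} (R : Rel K A (Side O)) : ¬ IsPreprimitive B Δ := by
  intro hB
  obtain ⟨p, q, s, hp, hq, hs, e1, e2, e3, r1, r2⟩ := three_side e.five O
  exact e.nB (jordan hB e1 e2 e3 (kB e (R.sw e hp hq hp hs e1 e2 r1 r2)))

/-- `K` is its own normaliser in `H` -/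
theorem mem_of_norm (e : Ext Y H K B A) (hk : ∃ k ∈ K, k ≠ 1 ∧ ∀ a ∈ A, k a = a) {g : Perm Δ} (hg : g ∈ H)
    (hn : ∀ x, x ∈ K ↔ g * x * g⁻¹ ∈ K) : g ∈ K := by
  rcases e.km.eq_or_eq (le_inf (kH e) le_normalizer : K ≤ H ⊓ normalizer (K : Set (Perm Δ))) inf_le_left with h4 | h4
  · rw [← h4]; exact ⟨hg, mem_normalizer_iff.2 hn⟩
  · exfalso
    have hN : H ≤ normalizer (K : Set (Perm Δ)) := inf_eq_left.1 h4
    have lift : ∀ g : Perm Δ, (∀ a ∈ A, g a = a) → ∃ f : Perm {x // x ∉ A}, Perm.ofSubtype f = g := by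
      intro g hg
      refine ⟨g.subtypePerm fun x => not_congr (stab_of_fix hg x), Perm.ofSubtype_subtypePerm _ ?_⟩
      intro x hx hA
      exact hx (hg x hA)
    have h5 : 5 ≤ Fintype.card {x // x ∉ A} := by
      have := e.five
      rw [Fintype.card_subtype_compl, Fintype.card_coe]
      omega
    have hle : alternatingGroup {x // x ∉ A} ≤ K.comap Perm.ofSubtype := by
      refine alt_le_of_conj h5 ?_ ?_
      · obtain ⟨k, hk1, hk2, hk3⟩ := hk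
        obtain ⟨f, rfl⟩ := lift k hk3
        intro hb
        have : f ∈ K.comap (Perm.ofSubtype : Perm {x // x ∉ A} →* Perm Δ) := hk1
        rw [hb, mem_bot] at this
        exact hk2 (by rw [this, map_one])
      · intro f hf x hx
        rw [mem_comap, map_mul, map_mul, map_inv]
        refine (mem_normalizer_iff.1 (hN (memH e ?_ ?_)) _).1 hx
        · rw [Perm.mem_alternatingGroup, Perm.sign_ofSubtype]; exact hf
        · intro a ha
          exact Perm.ofSubtype_apply_of_not_mem f (not_not.2 ha)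
    obtain ⟨t, ht1, ht2, ht3⟩ := e.nK
    obtain ⟨f, rfl⟩ := lift t ht2
    apply ht3
    rw [Perm.mem_alternatingGroup, Perm.sign_ofSubtype] at ht1
    exact hle ht1

theorem conj_Y (e : Ext Y H K B A) (g x : Perm Δ) : x ∈ Y ↔ g * x * g⁻¹ ∈ Y := by
  have h5 : 5 ≤ Fintype.card Δ := by have := e.five; omega
  rcases eq_alt_or_top h5 e.alt with h | h
  · rw [h]
    exact ⟨fun hx => alternatingGroup.normal.conj_mem x hx g, fun hx => by
      have := alternatingGroup.normal.conj_mem' _ hx g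
      simpa [mul_assoc] using this⟩
  · rw [h]; simp

theorem conj_H (e : Ext Y H K B A) {g : Perm Δ} (hg : ∀ x, g x ∈ A ↔ x ∈ A) (x : Perm Δ) :
    x ∈ H ↔ g * x * g⁻¹ ∈ H := by
  rw [e.stab, e.stab, ← conj_Y e g x]
  refine and_congr_right fun _ => ⟨fun h y => ?_, fun h y => ?_⟩
  · rw [Perm.mul_apply, Perm.mul_apply, hg, h, ← hg]; simp
  · have := h (g y)
    have e2 : (g * x * g⁻¹) (g y) = g (x y) := by simp
    rw [e2, hg, hg] at this
    exact this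

/-- a permutation that keeps `A` and carries `B₁` to `B₂` normalises `K` -/
theorem norm_K (e₁ : Ext Y H K B₁ A) (e₂ : Ext Y H K B₂ A) {g : Perm Δ} (hg : ∀ x, g x ∈ A ↔ x ∈ A)
    (hc : ∀ x, x ∈ B₁ ↔ g * x * g⁻¹ ∈ B₂) (x : Perm Δ) : x ∈ K ↔ g * x * g⁻¹ ∈ K := by
  rw [memK e₁, memK e₂, ← conj_H e₁ hg, ← hc]

theorem conj_iff {B : Subgroup (Perm Δ)} {k : Perm Δ} (hk : k ∈ B) (x : Perm Δ) : k * x * k⁻¹ ∈ B ↔ x ∈ B := by
  rw [B.mul_mem_cancel_right (B.inv_mem hk), B.mul_mem_cancel_left hk]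

theorem eq_of_conj (e₁ : Ext Y H K B₁ A) (e₂ : Ext Y H K B₂ A) (hk : ∃ k ∈ K, k ≠ 1 ∧ ∀ a ∈ A, k a = a) {g : Perm Δ}
    (hY : g ∈ Y) (hg : ∀ x, g x ∈ A ↔ x ∈ A) (hc : ∀ x, x ∈ B₁ ↔ g * x * g⁻¹ ∈ B₂) : B₁ = B₂ := by
  have h1 : g ∈ K := mem_of_norm e₁ hk ((e₁.stab g).2 ⟨hY, hg⟩) (norm_K e₁ e₂ hg hc)
  ext x
  rw [hc, conj_iff (kB e₂ h1)]

theorem conj_mul {B₁ B₂ : Subgroup (Perm Δ)} {g b : Perm Δ} (hb : b ∈ B₂) (hc : ∀ x, x ∈ B₁ ↔ g * x * g⁻¹ ∈ B₂) :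
    ∀ x, x ∈ B₁ ↔ b * g * x * (b * g)⁻¹ ∈ B₂ := by
  intro x
  rw [hc, ← conj_iff hb]
  have : b * g * x * (b * g)⁻¹ = b * (g * x * g⁻¹) * b⁻¹ := by group
  rw [this]

end Cfsg.Agent.SM.Alt.Xt
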