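import Cfsg.Agent.SM.Alt.Defs2
import Cfsg.Agent.SM.Rig
import Cfsg.Agent.SM.Mat.Tool
import Cfsg.Agent.H454.Reg.Alt.Frame
import Cfsg.Agent.H427.Fc.Alt
import Cfsg.Agent.H529.TwinCycle
import Cfsg.Agent.S0493

/-!
# SM (S3570), alternating socle: the natural action of `M` and the two cases (helper42)

* `Fr φ`: `φ : M → Sym Δ` is injective and maps the socle `S` onto the alternating group.
* `Ja φ a A`: the stabiliser of `a` is the stabiliser of the set `A`, `2 ≤ |A| ≤ |Δ| / 2`.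
* `Jb φ A`: `H` is the stabiliser of the set `A`, `|A| ≤ 2`, and `T` is the alternating group of the complement.
-/

set_option autoImplicit false
set_option linter.unusedVariables false
set_option linter.unusedSectionVars false

namespace Cfsg.Agent.SM.Alt

open Cfsg Equiv Subgroup MulAction

theorem sixty {T : Type} [Group T] [Finite T] (hs : IsSimpleGroup T) (hn : ¬ IsMulCommutative T) : 60 ≤ Nat.card T := by
  by_contra hcon
  have := S0493.result (G := T) (fun h => hn h.isMulCommutative) (by omega)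
  omega

section model

variable {Δ : Type} [Fintype Δ] [DecidableEq Δ] {Y Z H T B : Subgroup (Perm Δ)}

theorem two_card_alt (h : 2 ≤ Fintype.card Δ) : 2 * Nat.card (alternatingGroup Δ) = (Fintype.card Δ).factorial := by
  have : Nontrivial Δ := Fintype.one_lt_card_iff_nontrivial.1 h
  rw [two_mul_nat_card_alternatingGroup, Nat.card_perm, Nat.card_eq_fintype_card]

theorem alt_tr (h : 3 ≤ Fintype.card Δ) (a b : Δ) : ∃ g ∈ alternatingGroup Δ, g a = b := by
  obtain ⟨g, hg, k⟩ := H454.Reg.Alt.trans_alt (s := {a}) (t := {b}) (by simp) (by simpa using h)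
  exact ⟨g, hg, Finset.mem_singleton.1 (k a (Finset.mem_singleton_self a))⟩

/-- a group with an even element of a large prime order is intransitive -/
theorem exists_set (hZ : ¬ alternatingGroup Δ ≤ Z) {p : ℕ} (hp : p.Prime) (hd : p ∣ Nat.card ↥(alternatingGroup Δ ⊓ Z))
    (h1 : Fintype.card Δ < 2 * p) (h5 : 5 ≤ Fintype.card Δ) (h2 : p + 3 ≤ Fintype.card Δ ∨ (Fintype.card Δ = 7 ∧ p = 5)) :
    ∃ A : Finset Δ, A.Nonempty ∧ 2 * A.card ≤ Fintype.card Δ ∧ ∀ g ∈ Z, ∀ x, g x ∈ A ↔ x ∈ A := by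
  classical
  have := Fact.mk hp
  obtain ⟨g, hg⟩ := exists_prime_orderOf_dvd_card' p hd
  have ho : orderOf (g : Perm Δ) = p := by rw [Subgroup.orderOf_coe, hg]
  have hle : (g : Perm Δ).support.card ≤ Fintype.card Δ := Finset.card_le_univ _
  have hcyc : (g : Perm Δ).IsCycle := Perm.isCycle_of_prime_order (by rw [ho]; exact hp) (by rw [ho]; omega)
  have hsup : (g : Perm Δ).support.card = p := by rw [← hcyc.orderOf, ho]
  have hnt : ¬ IsPretransitive Z Δ := fun ht => by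
    have hpr := H454.Reg.Alt.prim_of_cycle Z ht g.2.2 hcyc (by rw [hsup]; exact hp) (by rw [hsup]; exact h1)
    rcases h2 with h2 | ⟨h7, rfl⟩
    · exact hZ (S0713.result Z hpr hp h5 h2 hcyc hsup g.2.2)
    · have hn : ((alternatingGroup Δ).subgroupOf Z).Normal := inferInstance
      have h3 : fixedPoints ((alternatingGroup Δ).subgroupOf Z) Δ ≠ ⊤ := fun k => hcyc.ne_one (Perm.ext fun x => by
        have h4 : x ∈ fixedPoints ((alternatingGroup Δ).subgroupOf Z) Δ := k.symm ▸ Set.mem_univ x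
        exact h4 ⟨⟨g, g.2.2⟩, g.2.1⟩)
      have h4 : IsPretransitive ↥(alternatingGroup Δ ⊓ Z) Δ := ⟨fun a b => by
        obtain ⟨u, hu⟩ := (IsQuasiPreprimitive.isPretransitive_of_normal h3).exists_smul_eq a b
        exact ⟨⟨u.1.1, u.2, u.1.2⟩, hu⟩⟩
      have h6 := H454.Reg.Alt.prim_of_cycle _ h4 g.2 hcyc (by rw [hsup]; exact hp) (by rw [hsup]; exact h1)
      exact hZ (inf_eq_left.1 (H529.TwinCycle.eq_alternating_seven h7 inf_le_left h6 hcyc hsup g.2))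
  obtain ⟨a, b, hab⟩ : ∃ a b : Δ, ∀ z ∈ Z, z a ≠ b := by
    by_contra k
    push Not at k
    exact hnt ⟨fun a b => let ⟨z, hz, e⟩ := k a b; ⟨⟨z, hz⟩, e⟩⟩
  let O : Finset Δ := Finset.univ.filter fun x => ∃ z ∈ Z, z a = x
  have hO : ∀ z ∈ Z, ∀ x, z x ∈ O ↔ x ∈ O := fun z hz x => by
    simp only [O, Finset.mem_filter, Finset.mem_univ, true_and]
    exact ⟨fun ⟨w, hw, e⟩ => ⟨z⁻¹ * w, Z.mul_mem (Z.inv_mem hz) hw, Perm.inv_eq_iff_eq.2 e⟩,
      fun ⟨w, hw, e⟩ => ⟨z * w, Z.mul_mem hz hw, congrArg z e⟩⟩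
  have ha : a ∈ O := Finset.mem_filter.2 ⟨Finset.mem_univ _, 1, Z.one_mem, rfl⟩
  have hb : b ∈ Oᶜ := Finset.mem_compl.2 fun k => let ⟨z, hz, e⟩ := (Finset.mem_filter.1 k).2; hab z hz e
  have hc := Finset.card_add_card_compl O
  rcases le_total O.card Oᶜ.card with k | k
  · exact ⟨O, ⟨a, ha⟩, by omega, hO⟩
  · exact ⟨Oᶜ, ⟨b, hb⟩, by omega, fun z hz x => by rw [Finset.mem_compl, Finset.mem_compl, hO z hz x]⟩

/-- a maximal subgroup which keeps a set is the stabiliser of the set -/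
theorem stab_iff (hY : alternatingGroup Δ ≤ Y) (hZ : Z ⋖ Y) (h3 : 3 ≤ Fintype.card Δ) {A : Finset Δ} (h0 : A.Nonempty)
    (h1 : 2 * A.card ≤ Fintype.card Δ) (h : ∀ g ∈ Z, ∀ x, g x ∈ A ↔ x ∈ A) (g : Perm Δ) :
    g ∈ Z ↔ g ∈ Y ∧ ∀ x, g x ∈ A ↔ x ∈ A := by
  rcases hZ.eq_or_eq (c := Y ⊓ H454.Reg.Alt.stab A) (le_inf hZ.le h) inf_le_left with k | k
  · rw [← k]
    exact Iff.rfl
  · exfalso
    obtain ⟨a, ha⟩ := h0
    have h2 := Finset.card_add_card_compl A
    have h4 := Finset.card_pos.2 ⟨a, ha⟩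
    obtain ⟨b, hb⟩ := Finset.card_pos.1 (show 0 < Aᶜ.card by omega)
    obtain ⟨u, hu, e⟩ := alt_tr h3 a b
    exact Finset.mem_compl.1 hb (e ▸ (inf_eq_left.1 k (hY hu) a).2 ha)

/-- **one of the two factors is intransitive** -/
theorem dich (f : Fac Y (alternatingGroup Δ) H T B) (h7 : 7 ≤ Fintype.card Δ) :
    (∃ A : Finset Δ, A.Nonempty ∧ 2 * A.card ≤ Fintype.card Δ ∧ ∀ g ∈ H, ∀ x, g x ∈ A ↔ x ∈ A) ∨
      ∃ A : Finset Δ, A.Nonempty ∧ 2 * A.card ≤ Fintype.card Δ ∧ ∀ g ∈ B, ∀ x, g x ∈ A ↔ x ∈ A := by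
  obtain ⟨p, hp, h1, h2, h3⟩ : ∃ p : ℕ, p.Prime ∧ Fintype.card Δ < 2 * p ∧ 2 < p ∧
      (p + 3 ≤ Fintype.card Δ ∨ (Fintype.card Δ = 7 ∧ p = 5)) := by
    rcases Nat.lt_or_ge 7 (Fintype.card Δ) with k | k
    · obtain ⟨p, hp, h1, h2⟩ := H427.Fc.exists_prime_three (n := Fintype.card Δ) k
      exact ⟨p, hp, h1, by omega, Or.inl h2⟩
    · exact ⟨5, by norm_num, by omega, by norm_num, Or.inr ⟨by omega, rfl⟩⟩
  have h4 : p ∣ Nat.card (alternatingGroup Δ) := by
    have h5 : p ∣ 2 * Nat.card (alternatingGroup Δ) := by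
      rw [two_card_alt (by omega)]
      exact (hp.dvd_factorial).2 (by omega)
    exact ((Nat.Prime.dvd_mul hp).1 h5).resolve_left fun k => absurd (Nat.le_of_dvd two_pos k) (by omega)
  have h5 : p ∣ Nat.card T * Nat.card ↥(alternatingGroup Δ ⊓ B) := f.card_eq ▸ h4.mul_right _
  rcases (Nat.Prime.dvd_mul hp).1 h5 with k | k
  · exact Or.inl (exists_set f.nH hp (k.trans (card_dvd_of_le (le_inf f.le f.asH.le))) h1 (by omega) h3)
  · exact Or.inr (exists_set f.nB hp k h1 (by omega) h3)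

/-- the even permutations which fix `A` pointwise -/
def fixA (A : Finset Δ) : Subgroup (Perm Δ) where
  carrier := {g | g ∈ alternatingGroup Δ ∧ ∀ x ∈ A, g x = x}
  one_mem' := ⟨Subgroup.one_mem _, fun _ _ => rfl⟩
  mul_mem' := fun {g h} hg hh => ⟨Subgroup.mul_mem _ hg.1 hh.1, fun x hx => by rw [Perm.mul_apply, hh.2 x hx, hg.2 x hx]⟩
  inv_mem' := fun {g} hg => ⟨Subgroup.inv_mem _ hg.1, fun x hx => Perm.inv_eq_iff_eq.2 (hg.2 x hx).symm⟩

theorem fixA_ne {A : Finset Δ} (h : A.card + 3 ≤ Fintype.card Δ) : fixA A ≠ ⊥ := by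
  have h2 := Finset.card_add_card_compl A
  obtain ⟨a, ha, b, hb, c, hc, h1, h3, h4⟩ := Finset.two_lt_card.1 (show 2 < Aᶜ.card by omega)
  rw [Finset.mem_compl] at ha hb hc
  intro k
  have h5 : swap a b * swap a c ∈ fixA A :=
    ⟨by rw [Perm.mem_alternatingGroup, map_mul, Perm.sign_swap h1, Perm.sign_swap h3]; simp, fun x hx => by
      have e1 : x ≠ a := fun e => ha (e ▸ hx)
      have e2 : x ≠ b := fun e => hb (e ▸ hx)
      have e3 : x ≠ c := fun e => hc (e ▸ hx)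
      rw [Perm.mul_apply, swap_apply_of_ne_of_ne e1 e3, swap_apply_of_ne_of_ne e1 e2]⟩
  rw [k, mem_bot] at h5
  have h6 : (swap a b * swap a c) a = a := by rw [h5]; rfl
  rw [Perm.mul_apply, swap_apply_left, swap_apply_of_ne_of_ne h3.symm h4.symm] at h6
  exact h3 h6.symm

theorem le_fixA (h : SM.AS H T) (hY : alternatingGroup Δ ≤ Y) {A C : Finset Δ} (hH : ∀ g, g ∈ H ↔ g ∈ Y ∧ ∀ x, g x ∈ A ↔ x ∈ A)
    (hC : C = A ∨ C = Aᶜ) (h3 : C.card + 3 ≤ Fintype.card Δ) : fixA C ≤ H ∧ T ≤ fixA C := by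
  have k : ∀ g : Perm Δ, (∀ x, g x ∈ A ↔ x ∈ A) ↔ ∀ x, g x ∈ C ↔ x ∈ C := fun g => by
    rcases hC with rfl | rfl
    · exact Iff.rfl
    · simp only [Finset.mem_compl, not_iff_not]
  have h1 : fixA C ≤ H := fun g hg => (hH g).2 ⟨hY hg.1, (k g).2 (H454.Reg.Alt.mem_stab_of fun x hx => by rwa [hg.2 x hx])⟩
  refine ⟨h1, h.le_of_conj h1 (fun g hg x hx => ⟨(inferInstance : (alternatingGroup Δ).Normal).conj_mem x hx.1 g, fun y hy => ?_⟩)
    (fixA_ne h3)⟩
  have h2 : g⁻¹ y ∈ C := ((k g⁻¹).1 ((hH _).1 (H.inv_mem (h.le hg))).2 y).2 hy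
  rw [Perm.mul_apply, Perm.mul_apply, hx.2 _ h2]
  exact Perm.eq_inv_iff_eq.1 rfl

/-- an almost simple stabiliser of a set -/
theorem shape (h : SM.AS H T) (hY : alternatingGroup Δ ≤ Y) (h6 : 6 ≤ Fintype.card Δ) {A : Finset Δ} (h0 : A.Nonempty)
    (h1 : 2 * A.card ≤ Fintype.card Δ) (h7 : 7 ≤ Fintype.card Δ ∨ A.card = 1)
    (hH : ∀ g, g ∈ H ↔ g ∈ Y ∧ ∀ x, g x ∈ A ↔ x ∈ A) :
    (A.card = 1 ∨ A.card = 2 ∧ Y = alternatingGroup Δ) ∧ A.card + 5 ≤ Fintype.card Δ ∧ T = fixA A := by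
  have hc := Finset.card_add_card_compl A
  have h4 := Finset.card_pos.2 h0
  obtain ⟨k1, k2⟩ := le_fixA h hY hH (Or.inl rfl) (by omega)
  have h2 : A.card ≤ 2 := by
    by_contra k
    obtain ⟨-, k3⟩ := le_fixA h hY hH (Or.inr rfl) (by omega)
    refine h.ne_bot (eq_bot_iff.2 fun t ht => mem_bot.2 (Perm.ext fun x => ?_))
    by_cases hx : x ∈ A
    · exact (k2 ht).2 x hx
    · exact (k3 ht).2 x (Finset.mem_compl.2 hx)
  refine ⟨?_, by omega, le_antisymm k2 ?_⟩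
  · rcases Nat.lt_or_ge 1 A.card with k | k
    · refine Or.inr ⟨by omega, (eq_alt_or_top (by omega) hY).resolve_right fun e => ?_⟩
      obtain ⟨a, b, hab, rfl⟩ := Finset.card_eq_two.1 (show A.card = 2 by omega)
      have h3 : swap a b ∈ H := (hH _).2 ⟨e ▸ mem_top _, H454.Reg.Alt.mem_stab_of fun x hx => by
        rcases Finset.mem_insert.1 hx with rfl | hx
        · simp
        · rw [Finset.mem_singleton.1 hx]
          simp⟩
      have h5 := h.cen _ h3 fun t ht => by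
        rw [mul_swap_eq_swap_mul, (k2 ht).2 a (by simp), (k2 ht).2 b (by simp)]
      exact hab (swap_eq_one_iff.1 h5)
    · exact Or.inl (by omega)
  · let ι : Perm {x // x ∉ A} →* Perm Δ := Perm.ofSubtype
    have hι : ∀ g ∈ fixA A, ∃ u : Perm {x // x ∉ A}, ι u = g := fun g hg =>
      ⟨g.subtypePerm fun x => not_congr (H454.Reg.Alt.mem_stab_of (fun x hx => by rwa [hg.2 x hx]) x),
        Perm.ofSubtype_subtypePerm _ fun x hx k => hx (hg.2 x k)⟩
    have hs : ∀ u : Perm {x // x ∉ A}, Perm.sign (ι u) = Perm.sign u := fun u => Perm.sign_ofSubtype u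
    have h5 : 5 ≤ Fintype.card {x // x ∉ A} := by
      rw [Fintype.card_subtype_compl, Fintype.card_coe]
      omega
    have h8 := alt_le_of_conj h5 (N := T.comap ι) (fun k => h.ne_bot (eq_bot_iff.2 fun t ht => by
      obtain ⟨u, rfl⟩ := hι t (k2 ht)
      have h9 : u ∈ T.comap ι := ht
      rw [k, mem_bot] at h9
      rw [h9, map_one]
      exact Subgroup.one_mem _)) fun g hg x hx => by
        rw [mem_comap, map_mul, map_mul, map_inv]
        exact h.conj _ (k1 ⟨(hs g).trans hg, fun y hy => Perm.ofSubtype_apply_of_not_mem g (not_not.2 hy)⟩) _ hx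
    intro g hg
    obtain ⟨u, rfl⟩ := hι g hg
    exact h8 ((hs u).symm.trans hg.1)

end model

variable {Ω : Type} [Fintype Ω] [DecidableEq Ω] {X H T M S M₁ S₁ M₂ S₂ : Subgroup (Perm Ω)}
variable {Δ Δ' : Type} [Fintype Δ] [DecidableEq Δ] [Fintype Δ'] [DecidableEq Δ']

/-- the natural action of `M` -/
structure Fr (X H T M S : Subgroup (Perm Ω)) (φ : M →* Perm Δ) : Prop where
  u : Up X H T M S
  inj : Function.Injective φ
  alt : ∀ m : M, φ m ∈ alternatingGroup Δ ↔ (m : Perm Ω) ∈ S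
  sur : ∀ g ∈ alternatingGroup Δ, ∃ m, φ m = g
  six : 6 ≤ Fintype.card Δ

/-- the image of a subgroup -/
def im (φ : M →* Perm Δ) (K : Subgroup (Perm Ω)) : Subgroup (Perm Δ) := (K.subgroupOf M).map φ

theorem mem_im {φ : M →* Perm Δ} {K : Subgroup (Perm Ω)} {g : Perm Δ} : g ∈ im φ K ↔ ∃ m : M, (m : Perm Ω) ∈ K ∧ φ m = g :=
  Iff.rfl

/-- the stabiliser of `a` is the stabiliser of the set `A` -/
structure Ja (φ : M →* Perm Δ) (a : Ω) (A : Finset Δ) : Prop where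
  two : 2 ≤ A.card
  half : 2 * A.card ≤ Fintype.card Δ
  st : ∀ m : M, (m : Perm Ω) a = a ↔ ∀ x, φ m x ∈ A ↔ x ∈ A

/-- `H` is the stabiliser of the set `A` -/
structure Jb (H T S : Subgroup (Perm Ω)) (φ : M →* Perm Δ) (A : Finset Δ) : Prop where
  ty : A.card = 1 ∨ A.card = 2 ∧ ∀ m : M, (m : Perm Ω) ∈ S
  five : A.card + 5 ≤ Fintype.card Δ
  st : ∀ m : M, (m : Perm Ω) ∈ H ↔ ∀ x, φ m x ∈ A ↔ x ∈ A
  soc : ∀ m : M, (m : Perm Ω) ∈ T ↔ φ m ∈ fixA A

namespace Fr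

variable {φ : M →* Perm Δ}

theorem mem (F : Fr X H T M S φ) {K : Subgroup (Perm Ω)} (m : M) : φ m ∈ im φ K ↔ (m : Perm Ω) ∈ K :=
  ⟨fun ⟨_, h, e⟩ => F.inj e ▸ h, fun h => ⟨m, h, rfl⟩⟩

theorem im_S (F : Fr X H T M S φ) : im φ S = alternatingGroup Δ := by
  ext g
  refine ⟨fun ⟨m, h, e⟩ => e ▸ (F.alt m).2 h, fun h => ?_⟩
  obtain ⟨m, rfl⟩ := F.sur g h
  exact ⟨m, (F.alt m).1 h, rfl⟩

theorem fac (F : Fr X H T M S φ) (a : Ω) :
    Fac (im φ M) (alternatingGroup Δ) (im φ H) (im φ T) (im φ (M ⊓ stabilizer (Perm Ω) a)) :=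
  F.im_S ▸ (F.u.fac a).top.map F.inj

theorem card_im (F : Fr X H T M S φ) {K : Subgroup (Perm Ω)} (hK : K ≤ M) : Nat.card (im φ K) = Nat.card K :=
  (card_map_of_injective F.inj).trans (Nat.card_congr (subgroupOfEquivOfLe hK).toEquiv)

theorem two_card (F : Fr X H T M S φ) : 2 * Nat.card S = (Fintype.card Δ).factorial := by
  rw [← F.card_im F.u.socM.le, F.im_S, two_card_alt (le_trans (by norm_num) F.six)]

/-- the socle and the alternating group -/
noncomputable def iso (F : Fr X H T M S φ) : S ≃* alternatingGroup Δ :=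
  MulEquiv.ofBijective ((φ.comp (inclusion F.u.socM.le)).codRestrict _ fun s => (F.alt _).2 s.2)
    ⟨fun s t e => inclusion_injective F.u.socM.le (F.inj (congrArg Subtype.val e)), fun g => by
      obtain ⟨m, hm⟩ := F.sur g g.2
      exact ⟨⟨m, (F.alt m).1 (hm ▸ g.2)⟩, Subtype.ext hm⟩⟩

theorem iso_apply (F : Fr X H T M S φ) (s : S) : (F.iso s : Perm Δ) = φ ⟨s, F.u.socM.le s.2⟩ := rfl

theorem TM (F : Fr X H T M S φ) : T ≤ M := F.u.socH.le.trans F.u.ov.2

/-- **rigidity** -/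
theorem rig {φ₁ : M₁ →* Perm Δ} {φ₂ : M₂ →* Perm Δ} (F₁ : Fr X H T M₁ S₁ φ₁) (F₂ : Fr X H T M₂ S₂ φ₂) (τ : Perm Δ)
    (hT : ∀ t (ht : t ∈ T), τ * φ₁ ⟨t, F₁.TM ht⟩ * τ⁻¹ = φ₂ ⟨t, F₂.TM ht⟩) {a b : Ω}
    (hB : ∀ (s : M₁) (s' : M₂), (s : Perm Ω) a = a → τ * φ₁ s * τ⁻¹ = φ₂ s' → (s' : Perm Ω) b = b) : M₁ = M₂ :=
  F₁.u.rig_model F₂.u F₁.iso F₂.iso (MulAut.conjNormal τ) (fun t ht => Subtype.ext (hT t ht)) (a := a) (b := b)
    fun s s' hs e => hB ⟨s, F₁.u.socM.le s.2⟩ ⟨s', F₂.u.socM.le s'.2⟩ hs (congrArg Subtype.val e)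

/-- transport along a bijection -/
theorem congr (F : Fr X H T M S φ) (β : Δ ≃ Δ') : Fr X H T M S (β.permCongrHom.toMonoidHom.comp φ) where
  u := F.u
  inj := β.permCongrHom.injective.comp F.inj
  alt := fun m => by
    rw [← F.alt m, Perm.mem_alternatingGroup, Perm.mem_alternatingGroup]
    exact Eq.congr_left (Perm.sign_permCongr β (φ m))
  sur := fun g hg => by
    obtain ⟨m, hm⟩ := F.sur (β.symm.permCongr g) ((Perm.sign_permCongr β.symm g).trans hg)
    exact ⟨m, (congrArg β.permCongrHom hm).trans (β.permCongrHom.apply_symm_apply g)⟩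
  six := Fintype.card_congr β ▸ F.six

/-- an intransitive `H` -/
theorem jb (F : Fr X H T M S φ) {A : Finset Δ} (h0 : A.Nonempty) (h1 : 2 * A.card ≤ Fintype.card Δ)
    (h7 : 7 ≤ Fintype.card Δ ∨ A.card = 1) (h : ∀ g ∈ im φ H, ∀ x, g x ∈ A ↔ x ∈ A) : Jb H T S φ A := by
  obtain ⟨a⟩ : Nonempty Ω := Fintype.card_pos_iff.1 (lt_of_lt_of_le two_pos F.u.two)
  have f := F.fac a
  have h6 := F.six
  have hH := stab_iff f.asM.le f.hm (by omega) h0 h1 h
  obtain ⟨k1, k2, k3⟩ := shape f.asH f.asM.le h6 h0 h1 h7 hH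
  refine ⟨k1.imp id fun k : A.card = 2 ∧ im φ M = alternatingGroup Δ => ⟨k.1, fun m => (F.alt m).1 (k.2 ▸ (F.mem m).2 m.2)⟩,
    k2, fun m => ?_, fun m => ?_⟩
  · rw [← F.mem m, hH, and_iff_right ((F.mem m).2 m.2)]
  · rw [← F.mem m, k3]

/-- an intransitive point stabiliser -/
theorem ja (F : Fr X H T M S φ) (a : Ω) {A : Finset Δ} (h0 : A.Nonempty) (h1 : 2 * A.card ≤ Fintype.card Δ)
    (h : ∀ g ∈ im φ (M ⊓ stabilizer (Perm Ω) a), ∀ x, g x ∈ A ↔ x ∈ A) : Ja φ a A := by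
  have f := F.fac a
  have h6 := F.six
  have hB := stab_iff f.asM.le f.bm (by omega) h0 h1 h
  have st : ∀ m : M, (m : Perm Ω) a = a ↔ ∀ x, φ m x ∈ A ↔ x ∈ A := fun m => by
    have k := hB (φ m)
    rw [F.mem m, and_iff_right ((F.mem m).2 m.2)] at k
    exact ⟨fun e => k.1 ⟨m.2, e⟩, fun e => (k.2 e).2⟩
  refine ⟨?_, h1, st⟩
  by_contra k
  obtain ⟨x, rfl⟩ := Finset.card_eq_one.1 (show A.card = 1 by have := Finset.card_pos.2 h0; omega)
  -- the degrees agree, so `S` is the alternating group of `Ω`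
  have h2 : ∀ y : Δ, ∃ m : M, φ m x = y := fun y => by
    obtain ⟨g, hg, e⟩ := alt_tr (by omega) x y
    obtain ⟨m, rfl⟩ := F.sur g hg
    exact ⟨m, e⟩
  choose w hw using h2
  have h3 : ∀ m : M, (m : Perm Ω) a = a ↔ φ m x = x := fun m => (st m).trans
    ⟨fun e => Finset.mem_singleton.1 ((e x).2 (Finset.mem_singleton_self x)), fun e y => by
      rw [Finset.mem_singleton, Finset.mem_singleton]
      exact ⟨fun e' => (φ m).injective (e'.trans e.symm), fun e' => e' ▸ e⟩⟩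
  have h4 : ∀ m m' : M, (m : Perm Ω) a = (m' : Perm Ω) a ↔ φ m x = φ m' x := fun m m' => by
    have h5 := h3 (m'⁻¹ * m)
    rw [map_mul, map_inv, Perm.mul_apply, Perm.inv_eq_iff_eq] at h5
    rw [← h5]
    exact Perm.inv_eq_iff_eq.symm
  have h5 : Function.Bijective fun y : Δ => (w y : Perm Ω) a :=
    ⟨fun y z e => by rw [← hw y, ← hw z, ← h4]; exact e, fun b => by
      obtain ⟨t, ht, e⟩ := F.u.trans a b
      exact ⟨φ ⟨t, F.TM ht⟩ x, ((h4 _ _).2 (hw _)).trans e⟩⟩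
  have h8 := F.two_card
  rw [Fintype.card_of_bijective h5] at h8
  have h9 := S.card_mul_index
  rw [Nat.card_perm, Nat.card_eq_fintype_card (α := Ω), ← h8, mul_comm 2] at h9
  have h10 := Perm.eq_alternatingGroup_of_index_eq_two (Nat.eq_of_mul_eq_mul_left Nat.card_pos h9)
  exact F.u.not_alt (h10 ▸ F.u.socM.le)

end Fr

theorem fr_of (u : Up X H T M S) {φ : M →* Perm Δ} (hi : Function.Injective φ) (h6 : 6 ≤ Fintype.card Δ)
    (hc : 2 * Nat.card S = (Fintype.card Δ).factorial) : Fr X H T M S φ := by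
  have h1 : Nat.card (im φ S) = Nat.card S :=
    (card_map_of_injective hi).trans (Nat.card_congr (subgroupOfEquivOfLe u.socM.le).toEquiv)
  have h9 := (im φ S).card_mul_index
  rw [Nat.card_perm, Nat.card_eq_fintype_card (α := Δ), ← hc, mul_comm 2, h1] at h9
  have h10 := Perm.eq_alternatingGroup_of_index_eq_two (Nat.eq_of_mul_eq_mul_left Nat.card_pos h9)
  refine ⟨u, hi, fun m => ?_, fun g hg => ?_, h6⟩
  · rw [← h10]
    exact ⟨fun ⟨_, h, e⟩ => hi e ▸ h, fun h => ⟨m, h, rfl⟩⟩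
  · obtain ⟨m, -, e⟩ := h10.ge hg
    exact ⟨m, e⟩

/-- **The two cases.** -/
theorem cases_of (u : Up X H T M S) (hS : IsAlternating S) (a : Ω) :
    ∃ (Δ : Type) (_ : Fintype Δ) (_ : DecidableEq Δ) (φ : M →* Perm Δ) (A : Finset Δ),
      Fr X H T M S φ ∧ (Ja φ a A ∨ Jb H T S φ A) := by
  classical
  obtain ⟨c, h5, ⟨e⟩⟩ := hS
  have hc : 2 * Nat.card S = c.factorial := by
    rw [Nat.card_congr e.toEquiv, two_card_alt (by rw [Fintype.card_fin]; omega), Fintype.card_fin]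
  have h60 := sixty u.socH.simple u.socH.nab
  have hn := u.socM.toNor.normal
  rcases Nat.lt_or_ge 6 c with h7 | h6
  · obtain ⟨φ, hφ⟩ := H600.KSix.exists_emb h7 (S.subgroupOf M) ((subgroupOfEquivOfLe u.socM.le).trans e)
      (eq_bot_iff.2 fun g hg => mem_bot.2 (Subtype.ext (u.socM.cen g g.2 fun t ht =>
        (congrArg Subtype.val (hg ⟨t, u.socM.le ht⟩ ht)).symm)))
    have F := fr_of u hφ.inj (by rw [Fintype.card_fin]; omega) (by rw [Fintype.card_fin]; exact hc)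
    have h8 : 7 ≤ Fintype.card (Fin c) := by rw [Fintype.card_fin]; exact h7
    rcases dich (F.fac a) h8 with ⟨A, h0, h1, h2⟩ | ⟨A, h0, h1, h2⟩
    · exact ⟨Fin c, inferInstance, inferInstance, φ, A, F, Or.inr (F.jb h0 h1 (Or.inl h8) h2)⟩
    · exact ⟨Fin c, inferInstance, inferInstance, φ, A, F, Or.inl (F.ja a h0 h1 h2)⟩
  · -- `M` acts on the six cosets of `H`
    have h1 : c ≤ H.relIndex S := OddHalf.D5.Elem.le_index h5 e _ fun k => u.not_le (subgroupOf_eq_top.1 k)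
    have h2 := Fac.card_mul S H
    have h3 : Nat.card T ≤ Nat.card ↥(S ⊓ H) := card_le_of_le (le_inf u.le u.socH.le)
    have h4 : c = 6 ∧ H.relIndex S = 6 := by
      interval_cases c
      · rw [show Nat.factorial 5 = 120 from rfl] at hc
        exfalso
        nlinarith
      · rw [show Nat.factorial 6 = 720 from rfl] at hc
        refine ⟨rfl, le_antisymm ?_ h1⟩
        by_contra k
        nlinarith
    obtain ⟨rfl, h4⟩ := h4
    have h8 : (H.subgroupOf M).index = 6 := by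
      have h9 : H.subgroupOf M ⊔ S.subgroupOf M = ⊤ := eq_top_iff.2 fun m _ => by
        obtain ⟨h, hh, s, hs, k⟩ := (u.fac a).facH m m.2
        rw [show m = ⟨h, u.ov.2 hh.1⟩ * ⟨s, u.socM.le hs⟩ from Subtype.ext k]
        exact Subgroup.mul_mem _ (mem_sup_left hh.1) (mem_sup_right hs)
      have h10 := relIndex_sup_right (H.subgroupOf M) (S.subgroupOf M)
      rw [h9, relIndex_top_right, relIndex_subgroupOf u.ov.2] at h10
      have k1 := Fac.card_mul M S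
      have k2 := Fac.card_mul H S
      have k3 := Fac.card_mul M H
      rw [inf_eq_right.2 u.socM.le, show S.relIndex M = S.relIndex H from h10, ← h2, h4] at k1
      rw [inf_eq_right.2 u.ov.2, ← k1, ← k2, inf_comm H S, mul_right_comm _ 6] at k3
      exact Nat.eq_of_mul_eq_mul_left (by rw [inf_comm S H, k2]; exact Nat.card_pos) k3
    let Δ := M ⧸ H.subgroupOf M
    let _ : Fintype Δ := Fintype.ofFinite Δ
    have h9 : Fintype.card Δ = 6 := by rw [← Nat.card_eq_fintype_card]; exact h8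
    have hi : Function.Injective (toPermHom M Δ) := by
      rw [← MonoidHom.ker_eq_bot_iff, ← Subgroup.normalCore_eq_ker]
      by_contra k
      have h10 := (u.socM.as.subgroupOf le_rfl).le_of_conj (N := (H.subgroupOf M).normalCore) (fun m _ => m.2)
        (fun g _ x hx => (normalCore_normal _).conj_mem x hx g) k
      exact u.not_le fun s hs => (H.subgroupOf M).normalCore_le (h10 (x := ⟨s, u.socM.le hs⟩) hs)
    have F := fr_of u hi (by rw [h9]) (by rw [h9]; exact hc)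
    refine ⟨Δ, inferInstance, inferInstance, toPermHom M Δ, {((1 : M) : Δ)}, F, Or.inr (F.jb (by simp) (by simp [h9])
      (Or.inr (by simp)) ?_)⟩
    rintro _ ⟨m, hm, rfl⟩
    refine H454.Reg.Alt.mem_stab_of fun x hx => ?_
    rw [Finset.mem_singleton] at hx ⊢
    rw [hx]
    show ((m * 1 : M) : Δ) = ((1 : M) : Δ)
    rw [eq_comm, QuotientGroup.eq]
    simpa using hm

end Cfsg.Agent.SM.Alt
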