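import Cfsg.Agent.SM.Alt.Tab

/-!
# SM (S3570), alternating socle, case (a): the arithmetic of the homogeneous actions (helper42)
-/

set_option autoImplicit false
set_option linter.unusedVariables false

namespace Cfsg.Agent.SM.Alt

open Cfsg Equiv Subgroup MulAction

/-- the data of a `k`-homogeneous action of degree `c` -/
structure JD (T Δ : Type) [Group T] [MulAction T Δ] (c k : ℕ) : Prop where
  act : Act T Δ c
  cs : Cs T c
  two : 2 ≤ k
  half : 2 * k ≤ c
  dvd : ∀ j ≤ k, c.choose j ∣ Nat.card T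
  hom3 : 3 ≤ k → Hom3 T Δ
  nlin : ¬ Lin T Δ
  nalt : c.factorial ≠ 2 * Nat.card T

theorem choose_inj {c d k : ℕ} (hk : 1 ≤ k) (hc : k ≤ c) (hd : k ≤ d) (h : c.choose k = d.choose k) : c = d := by
  have key : ∀ {a b : ℕ}, k ≤ a → a < b → a.choose k < b.choose k := fun {a b} h1 h2 => by
    obtain ⟨j, rfl⟩ : ∃ j, k = j + 1 := ⟨k - 1, by omega⟩
    have h3 := Nat.choose_le_choose (j + 1) (show a + 1 ≤ b from h2)
    have h4 := Nat.choose_pos (show j ≤ a by omega)
    rw [Nat.choose_succ_succ'] at h3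
    omega
  rcases lt_trichotomy c d with k1 | k1 | k1
  · exact absurd h (key hc k1).ne
  · exact k1
  · exact absurd h (key hd k1).ne'

theorem two_choose (c : ℕ) : 2 * c.choose 2 = c * (c - 1) := by
  have h := Nat.descFactorial_eq_factorial_mul_choose c 2
  rw [Nat.descFactorial_succ, Nat.descFactorial_succ, Nat.descFactorial_zero, Nat.sub_zero] at h
  rw [show (2 : ℕ) * c.choose 2 = Nat.factorial 2 * c.choose 2 from rfl, ← h]
  ring

theorem four_dvd {q t g : ℕ} (hq : 4 ≤ q) (h : t * g = (q + 1) * q * (q - 1)) (h4 : (q + 1).choose 4 ∣ t) : q - 2 ∣ 24 := by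
  have h1 := Nat.descFactorial_eq_factorial_mul_choose (q + 1) 4
  rw [Nat.descFactorial_succ, Nat.descFactorial_succ, Nat.descFactorial_succ, Nat.descFactorial_succ, Nat.descFactorial_zero,
    Nat.sub_zero, show q + 1 - 3 = q - 2 by omega, show q + 1 - 2 = q - 1 by omega, Nat.add_sub_cancel,
    show Nat.factorial 4 = 24 from rfl] at h1
  have h2 : (q + 1) * q * (q - 1) * (q - 2) ∣ (q + 1) * q * (q - 1) * 24 := by
    rw [show (q + 1) * q * (q - 1) * (q - 2) = 24 * (q + 1).choose 4 by rw [← h1]; ring, ← h, mul_comm _ 24]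
    exact Nat.mul_dvd_mul_left 24 (h4.mul_right g)
  exact (Nat.mul_dvd_mul_iff_left (Nat.mul_pos (Nat.mul_pos (by omega) (by omega)) (by omega))).1 h2

theorem binom_tab' : ((List.range 403).all fun c => [2, 3, 4].all fun k => [9, 11, 12, 15, 22, 23, 24, 27].all fun d =>
    [3, 4, 5].all fun l => decide (k < l → 2 * l ≤ d → l.factorial * c.descFactorial k = k.factorial * d.descFactorial l →
      (c = 56 ∧ d = 22) ∨ (d = 15 ∧ l = 5))) = true := by
  decide +kernel

theorem binom_tab : ∀ c < 403, ∀ k ∈ [2, 3, 4], ∀ d ∈ [9, 11, 12, 15, 22, 23, 24, 27], ∀ l ∈ [3, 4, 5], k < l → 2 * l ≤ d →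
    l.factorial * c.descFactorial k = k.factorial * d.descFactorial l → (c = 56 ∧ d = 22) ∨ (d = 15 ∧ l = 5) :=
  fun c hc k hk d hd l hl => of_decide_eq_true (List.all_eq_true.1 (List.all_eq_true.1 (List.all_eq_true.1
    (List.all_eq_true.1 binom_tab' c (List.mem_range.2 hc)) k hk) d hd) l hl)

theorem binom_le : ∀ d ∈ [9, 11, 12, 15, 22, 23, 24, 27], ∀ l ∈ [3, 4, 5], d.descFactorial l ≤ l.factorial * 80730 := by
  decide +kernel

theorem binom_ge : ∀ k ∈ [2, 3, 4], k.factorial * 80730 < Nat.descFactorial 403 k := by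
  decide +kernel

theorem binom_eq {c k d l : ℕ} (h2 : 2 ≤ k) (hkl : k < l) (h5 : l ≤ 5) (hl : 2 * l ≤ d) (hd : d ∈ [9, 11, 12, 15, 22, 23, 24, 27])
    (h : c.choose k = d.choose l) : (c = 56 ∧ d = 22) ∨ (d = 15 ∧ l = 5) := by
  have hk : k ∈ [2, 3, 4] := by
    simp only [List.mem_cons, List.not_mem_nil, or_false]
    omega
  have hl' : l ∈ [3, 4, 5] := by
    simp only [List.mem_cons, List.not_mem_nil, or_false]
    omega
  refine binom_tab c ?_ k hk d hd l hl' hkl hl ?_
  · by_contra k1
    have h1 := Nat.choose_le_choose k (show 403 ≤ c by omega)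
    have h3 := binom_le d hd l hl'
    have h4 := binom_ge k hk
    rw [Nat.descFactorial_eq_factorial_mul_choose] at h3 h4
    have h6 := Nat.le_of_mul_le_mul_left h3 (Nat.factorial_pos l)
    have h7 := Nat.lt_of_mul_lt_mul_left h4
    omega
  · rw [Nat.descFactorial_eq_factorial_mul_choose, Nat.descFactorial_eq_factorial_mul_choose, h]
    ring

variable {T Δ Δ' : Type} [Group T] [MulAction T Δ] [MulAction T Δ'] {c k d l : ℕ}

theorem JD.two2 (h : JD T Δ c k) : Two2 T c := by
  obtain ⟨a, cs, -, -, -, -, nl, na⟩ := h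
  cases cs with
  | alt e => exact absurd e na
  | lin e => exact absurd (e Δ a) nl
  | l2 q g h4 hg hc e => exact e.two
  | no3 e _ _ _ => exact e
  | mat e _ => exact e

theorem JD.three (h : JD T Δ c k) (h3 : 3 ≤ k) :
    (∃ q g, 4 ≤ q ∧ (g = 1 ∨ g = 2) ∧ c = q + 1 ∧ Nat.card T * g = (q + 1) * q * (q - 1)) ∨
    (c, Nat.card T) ∈ [(11, 7920), (11, 660), (12, 7920), (12, 95040), (22, 443520), (23, 10200960), (24, 244823040)] := by
  obtain ⟨a, cs, -, -, dv, hm, nl, na⟩ := h
  cases cs with
  | alt e => exact absurd e na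
  | lin e => exact absurd (e Δ a) nl
  | l2 q g h4 hg hc e => exact Or.inl ⟨q, g, h4, hg, rfl, hc⟩
  | no3 _ e _ _ => exact absurd (dv 3 h3) (e Δ a (hm h3))
  | mat _ e => exact Or.inr e

theorem JD.le_five (h : JD T Δ c k) : k ≤ 5 := by
  by_contra k6
  have h1 := h.half
  have h6 := h.dvd 6 (by omega)
  have := h.act.finite
  have hpos : 0 < Nat.card T := Nat.card_pos
  rcases h.three (by omega) with ⟨q, g, h4, hg, rfl, hc⟩ | e
  · have h2 := four_dvd h4 hc (h.dvd 4 (by omega))
    have h3 := Nat.le_of_dvd (by norm_num) h2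
    have h5 := Nat.le_of_dvd hpos h6
    have h7 : 11 ≤ q := by omega
    have h8 : q ≤ 26 := by omega
    rcases hg with rfl | rfl <;> interval_cases q <;> first | (norm_num at h2; done) | (norm_num [Nat.choose] at h5 hc; omega)
  · simp only [List.mem_cons, Prod.mk.injEq, List.not_mem_nil, or_false] at e
    rcases e with ⟨rfl, e⟩ | ⟨rfl, e⟩ | ⟨rfl, e⟩ | ⟨rfl, e⟩ | ⟨rfl, e⟩ | ⟨rfl, e⟩ | ⟨rfl, e⟩ <;>
      first | omega | (rw [e] at h6; norm_num [Nat.choose] at h6)

/-- **two homogeneous actions on subsets of different sizes have different degrees** -/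
theorem JD.cross (h : JD T Δ c k) (h' : JD T Δ' d l) (hkl : k < l) (e : c.choose k = d.choose l) : False := by
  have h2 := h.two
  have h5 := h'.le_five
  have hc := h.half
  have hd := h'.half
  have := h.act.finite
  have hpos : 0 < Nat.card T := Nat.card_pos
  have fin : d ∈ [9, 11, 12, 15, 22, 23, 24, 27] → (d = 22 → Nat.card T = 443520) → (d = 15 → l ≠ 5) → False := fun k1 k2 k3 => by
    rcases binom_eq h2 hkl h5 hd k1 e with ⟨rfl, k4⟩ | ⟨k4, k5⟩
    · have k5 := k2 k4
      obtain ⟨a, cs, -, -, -, -, nl, na⟩ := h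
      generalize hz : 56 = z at cs a na
      cases cs with
      | alt e => exact na e
      | lin e => exact nl (e Δ a)
      | l2 q g h4 hg hc e =>
        obtain rfl : q = 55 := by omega
        rcases hg with rfl | rfl <;> omega
      | no3 _ _ _ e => exact e hz.symm
      | mat _ e =>
        subst hz
        simp at e
    · exact k3 k4 k5
  rcases h'.three (by omega) with ⟨q, g, h4, hg, rfl, hq⟩ | e'
  · rcases Nat.lt_or_ge 3 l with h3 | h3
    · have k1 := four_dvd h4 hq (h'.dvd 4 h3)
      have k2 := Nat.le_of_dvd (by norm_num) k1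
      have k3 : 7 ≤ q := by omega
      have k4 : q ≤ 26 := by omega
      refine fin ?_ (fun k5 => ?_) fun k5 k6 => ?_
      · interval_cases q <;> first | (norm_num at k1; done) | simp
      · obtain rfl : q = 21 := by omega
        norm_num at k1
      · obtain rfl : q = 14 := by omega
        have k7 := Nat.le_of_dvd hpos (h'.dvd 5 k6.ge)
        rcases hg with rfl | rfl <;> norm_num [Nat.choose] at k7 hq <;> omega
    · obtain rfl : l = 3 := by omega
      obtain rfl : k = 2 := by omega
      have k1 := six_choose (q + 1)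
      rw [← e, show q + 1 - 2 = q - 1 by omega, Nat.add_sub_cancel, ← hq, show 6 * c.choose 2 = 3 * (2 * c.choose 2) by ring,
        two_choose] at k1
      obtain ⟨z, hz⟩ := h.act.dvd (by omega)
      have k2 : 0 < c * (c - 1) := Nat.mul_pos (by omega) (by omega)
      have k3 : z * g = 3 := Nat.eq_of_mul_eq_mul_left k2 (by rw [← mul_assoc, ← hz, ← k1, mul_comm])
      obtain rfl : g = 1 := by
        rcases hg with rfl | rfl
        · rfl
        · omega
      rw [mul_one] at k1 hq
      obtain ⟨a, cs, -, -, -, -, nl, na⟩ := h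
      cases cs with
      | alt e => exact na e
      | lin e => exact nl (e Δ a)
      | l2 r g h4' hg' hc' e =>
        rw [Nat.add_sub_cancel] at k1 k2
        have k4 : 3 * g = r - 1 := Nat.eq_of_mul_eq_mul_left k2 (by rw [← hc', ← k1]; ring)
        have k5 : Nat.card T = 60 ∨ Nat.card T = 168 := by
          rcases hg' with rfl | rfl
          · obtain rfl : r = 4 := by omega
            omega
          · obtain rfl : r = 7 := by omega
            omega
        rcases Nat.lt_or_ge 5 q with k6 | k6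
        · have k7 : 7 * 6 * 5 ≤ (q + 1) * q * (q - 1) := Nat.mul_le_mul (Nat.mul_le_mul (by omega) (by omega)) (by omega)
          omega
        · obtain rfl : q = 5 := by omega
          omega
      | no3 _ _ e _ => exact e k1.symm
      | mat _ e =>
        simp only [List.mem_cons, Prod.mk.injEq, List.not_mem_nil, or_false] at e
        rcases e with ⟨rfl, e⟩ | ⟨rfl, e⟩ | ⟨rfl, e⟩ | ⟨rfl, e⟩ | ⟨rfl, e⟩ | ⟨rfl, e⟩ | ⟨rfl, e⟩ <;> omega
  · simp only [List.mem_cons, Prod.mk.injEq, List.not_mem_nil, or_false] at e'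
    refine fin ?_ (fun k5 => ?_) fun k5 => ?_
    · simp only [List.mem_cons, List.not_mem_nil, or_false]
      omega
    · omega
    · omega

end Cfsg.Agent.SM.Alt
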