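import Cfsg.Agent.SM.Alt.JaA
import Cfsg.Agent.SM.Alt.Fr
import Cfsg.Agent.S0735
import Cfsg.Agent.S0736
import Cfsg.Agent.H786.KW.PrimesEven

/-!
# SM (S3570), alternating socle, case (a): the point stabiliser is the stabiliser of a set (helper42)
-/

set_option autoImplicit false
set_option linter.unusedVariables false
set_option linter.unusedSectionVars false

namespace Cfsg.Agent.SM.Alt

open Cfsg Equiv Subgroup MulAction
open scoped Pointwise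

section hom

variable {Δ : Type} [Fintype Δ] [DecidableEq Δ] {G : Subgroup (Perm Δ)} {k : ℕ}

/-- transitive on the `k`-subsets -/
def Hg (G : Subgroup (Perm Δ)) (k : ℕ) : Prop :=
  ∀ s t : Finset Δ, s.card = k → t.card = k → ∃ g ∈ G, ∀ x ∈ s, g x ∈ t

theorem Hg.pre (h : Hg G k) : IsPretransitive G (Set.powersetCard Δ k) := ⟨fun s t => by
  obtain ⟨g, hg, e⟩ := h s t s.2 t.2
  refine ⟨⟨g, hg⟩, Set.powersetCard.eq_iff_subset.2 fun y hy => ?_⟩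
  obtain ⟨x, hx, rfl⟩ := Finset.mem_smul_finset.1 (show y ∈ (⟨g, hg⟩ : G) • (s : Finset Δ) from hy)
  exact e x hx⟩

theorem Hg.of_pre (h : IsPretransitive G (Set.powersetCard Δ k)) : Hg G k := fun s t hs ht => by
  obtain ⟨g, e⟩ := h.exists_smul_eq ⟨s, hs⟩ ⟨t, ht⟩
  have e1 : g • s = t := (Set.powersetCard.coe_smul (g := g) (s := ⟨s, hs⟩)).symm.trans (congrArg Subtype.val e)
  exact ⟨g, g.2, fun x hx => e1 ▸ Finset.smul_mem_smul_finset hx⟩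

theorem Hg.down (h : Hg G k) (hk : 2 * k ≤ Fintype.card Δ) {j : ℕ} (hj : j ≤ k) : Hg G j := by
  induction hj using Nat.decreasingInduction with
  | self => exact h
  | of_succ j hj ih =>
    rcases Nat.eq_zero_or_pos j with rfl | h0
    · intro s t hs _
      exact ⟨1, G.one_mem, fun x hx => absurd hx (Finset.card_eq_zero.1 hs ▸ Finset.notMem_empty x)⟩
    · exact Hg.of_pre (S0736.result G (k := j + 1) (by omega) ih.pre fun q _ hq => by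
        have := Nat.le_of_dvd (by omega) hq
        omega)

theorem Hg.index (h : Hg G k) (s : Set.powersetCard Δ k) : (stabilizer G s).index = (Fintype.card Δ).choose k := by
  have := h.pre
  rw [index_stabilizer_of_transitive, Set.powersetCard.card, Nat.card_eq_fintype_card]

theorem Hg.dvd (h : Hg G k) (hk : k ≤ Fintype.card Δ) : (Fintype.card Δ).choose k ∣ Nat.card G := by
  obtain ⟨s, -, hs⟩ := Finset.exists_subset_card_eq (s := (Finset.univ : Finset Δ)) (n := k) hk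
  rw [← h.index ⟨s, hs⟩]
  exact index_dvd_card _

end hom

/-- the action given by a homomorphism -/
abbrev act {T Δ : Type} [Group T] (ρ : T →* Perm Δ) : MulAction T Δ := MulAction.compHom Δ ρ

/-- actions with a common stabiliser are isomorphic -/
theorem equiv_of_same {T Δ₁ Δ₂ : Type} [Group T] {ρ₁ : T →* Perm Δ₁} {ρ₂ : T →* Perm Δ₂} (h₁ : ∀ x y, ∃ t, ρ₁ t x = y)
    (h₂ : ∀ x y, ∃ t, ρ₂ t x = y) {a₁ : Δ₁} {a₂ : Δ₂} (h : ∀ t, ρ₁ t a₁ = a₁ ↔ ρ₂ t a₂ = a₂) :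
    ∃ β : Δ₁ ≃ Δ₂, ∀ t x, β (ρ₁ t x) = ρ₂ t (β x) := by
  choose w hw using h₁ a₁
  have k : ∀ s t : T, ρ₁ s a₁ = ρ₁ t a₁ ↔ ρ₂ s a₂ = ρ₂ t a₂ := fun s t => by
    have h3 := h (t⁻¹ * s)
    rwa [map_mul, map_mul, map_inv, map_inv, Perm.mul_apply, Perm.mul_apply, Perm.inv_eq_iff_eq, Perm.inv_eq_iff_eq] at h3
  refine ⟨Equiv.ofBijective (fun x => ρ₂ (w x) a₂) ⟨fun x y e => ?_, fun y => ?_⟩, fun t x => ?_⟩
  · rw [← hw x, ← hw y]
    exact (k _ _).2 e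
  · obtain ⟨t, rfl⟩ := h₂ a₂ y
    exact ⟨ρ₁ t a₁, (k _ _).1 (hw _)⟩
  · show ρ₂ (w (ρ₁ t x)) a₂ = ρ₂ t (ρ₂ (w x) a₂)
    rw [← Perm.mul_apply, ← map_mul]
    refine (k _ _).1 ?_
    rw [hw, map_mul, Perm.mul_apply, hw]

variable {Ω : Type} [Fintype Ω] [DecidableEq Ω] {X H T M S M₁ S₁ M₂ S₂ : Subgroup (Perm Ω)}
variable {Δ Δ' : Type} [Fintype Δ] [DecidableEq Δ] [Fintype Δ'] [DecidableEq Δ']

namespace Fr

variable {φ : M →* Perm Δ} {a : Ω} {A : Finset Δ}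

/-- the action of `T` -/
def rho (F : Fr X H T M S φ) : T →* Perm Δ := φ.comp (inclusion F.TM)

theorem rho_apply (F : Fr X H T M S φ) (t : T) : F.rho t = φ ⟨t, F.TM t.2⟩ := rfl

theorem mem_imT (F : Fr X H T M S φ) {g : Perm Δ} : g ∈ im φ T ↔ ∃ t, F.rho t = g :=
  ⟨fun ⟨m, h, e⟩ => ⟨⟨m, h⟩, e⟩, fun ⟨t, e⟩ => ⟨⟨t, F.TM t.2⟩, t.2, e⟩⟩

theorem rho_inj (F : Fr X H T M S φ) : Function.Injective F.rho := F.inj.comp (inclusion_injective F.TM)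

theorem reach (F : Fr X H T M S φ) (J : Ja φ a A) {s : Finset Δ} (hs : s.card = A.card) : ∃ t, ∀ x ∈ A, F.rho t x ∈ s := by
  have h1 := J.half
  have h2 := J.two
  obtain ⟨g, hg, e⟩ := H454.Reg.Alt.trans_alt (s := A) (t := s) hs.symm (by omega)
  obtain ⟨m, rfl⟩ := F.sur g hg
  obtain ⟨t, ht, e1⟩ := F.u.trans a ((m : Perm Ω) a)
  refine ⟨⟨t, ht⟩, fun x hx => ?_⟩
  have h3 := ((J.st (m⁻¹ * ⟨t, F.TM ht⟩)).1 (Perm.inv_eq_iff_eq.2 e1) x).2 hx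
  have h4 := e _ h3
  rwa [← Perm.mul_apply, ← map_mul, mul_inv_cancel_left] at h4

theorem hg (F : Fr X H T M S φ) (J : Ja φ a A) : Hg (im φ T) A.card := fun s t hs ht => by
  obtain ⟨u, hu⟩ := F.reach J hs
  obtain ⟨v, hv⟩ := F.reach J ht
  refine ⟨F.rho (v * u⁻¹), F.mem_imT.2 ⟨_, rfl⟩, fun x hx => ?_⟩
  have h1 : A.map (F.rho u).toEmbedding = s := Finset.eq_of_subset_of_card_le
    (fun y hy => by
      obtain ⟨z, hz, rfl⟩ := Finset.mem_map.1 hy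
      exact hu z hz) (by rw [Finset.card_map, hs])
  rw [← h1] at hx
  obtain ⟨z, hz, rfl⟩ := Finset.mem_map.1 hx
  have h2 : F.rho (v * u⁻¹) ((F.rho u).toEmbedding z) = F.rho v z := by
    show (F.rho (v * u⁻¹) * F.rho u) z = _
    rw [← map_mul, inv_mul_cancel_right]
  rw [h2]
  exact hv z hz

theorem deg (F : Fr X H T M S φ) (J : Ja φ a A) : Fintype.card Ω = (Fintype.card Δ).choose A.card := by
  rw [← F.u.relIndex a, ← (F.hg J).index ⟨A, rfl⟩, Subgroup.relIndex]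
  let f : T →* im φ T := F.rho.codRestrict _ fun t => F.mem_imT.2 ⟨t, rfl⟩
  have hf : Function.Surjective f := fun g => by
    obtain ⟨t, e⟩ := F.mem_imT.1 g.2
    exact ⟨t, Subtype.ext e⟩
  rw [← index_comap_of_surjective _ hf]
  congr 1
  ext t
  rw [mem_comap, mem_stabilizer_iff, Set.powersetCard.eq_iff_subset]
  show _ ↔ f t • A ⊆ A
  refine ⟨fun h y hy => ?_, fun h => ⟨F.TM t.2, (J.st ⟨t, F.TM t.2⟩).2 (H454.Reg.Alt.mem_stab_of fun x hx => ?_)⟩⟩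
  · obtain ⟨x, hx, rfl⟩ := Finset.mem_smul_finset.1 hy
    exact ((J.st ⟨t, F.TM t.2⟩).1 h.2 x).2 hx
  · exact h (Finset.smul_mem_smul_finset hx)

theorem two (F : Fr X H T M S φ) (J : Ja φ a A) (x y z w : Δ) (h1 : x ≠ y) (h2 : z ≠ w) :
    ∃ t, F.rho t x = z ∧ F.rho t y = w := by
  have h6 := F.six
  have := F.u.socH.simple
  have h3 := (S0735.result (im φ T) ((F.hg J).down J.half J.two).pre (by omega)).1 (by
    rw [F.card_im F.TM]
    exact even_iff_two_dvd.2 (H786.KW.even_card F.u.socH.nab))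
  obtain ⟨g, e1, e2⟩ := is_two_pretransitive_iff.1 h3 h1 h2
  obtain ⟨t, e⟩ := F.mem_imT.1 g.2
  exact ⟨t, e ▸ e1, e ▸ e2⟩

theorem act2 (F : Fr X H T M S φ) (J : Ja φ a A) : @Act T Δ _ (act F.rho) (Fintype.card Δ) :=
  @Act.mk T Δ _ (act F.rho) _ inferInstance Nat.card_eq_fintype_card
    (fun t h => F.rho_inj ((Perm.ext h).trans (map_one _).symm)) (F.two J)

theorem hom3 (F : Fr X H T M S φ) (J : Ja φ a A) (h3 : 3 ≤ A.card) : @Hom3 T Δ _ (act F.rho) := by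
  intro x y z u v w h1 h2 h4 h5 h6 h7
  obtain ⟨g, hg, e⟩ := (F.hg J).down J.half h3 {x, y, z} {u, v, w} (Finset.card_eq_three.2 ⟨x, y, z, h1, h2, h4, rfl⟩)
    (Finset.card_eq_three.2 ⟨u, v, w, h5, h6, h7, rfl⟩)
  obtain ⟨t, rfl⟩ := F.mem_imT.1 hg
  have k : ∀ r ∈ ({x, y, z} : Finset Δ), F.rho t r ∈ ({u, v, w} : Set Δ) := fun r hr => by simpa using e r hr
  exact ⟨t, k x (by simp), k y (by simp), k z (by simp)⟩

theorem nalt (F : Fr X H T M S φ) : (Fintype.card Δ).factorial ≠ 2 * Nat.card T := fun h => by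
  rw [← F.two_card] at h
  exact F.u.ne (eq_of_le_of_card_ge F.u.le (by omega)).symm

theorem nlin (F : Fr X H T M S φ) (J : Ja φ a A) : ¬ @Lin T Δ _ (act F.rho) := fun l => by
  classical
  let _ := act F.rho
  have h6 := F.six
  rcases Nat.lt_or_ge 2 A.card with h3 | h2
  · exact (F.act2 J).not_hom3 l (by omega) (F.hom3 J h3)
  obtain ⟨a₀, b₀, hab, rfl⟩ := Finset.card_eq_two.1 (le_antisymm h2 J.two)
  obtain ⟨p, hp⟩ := (F.act2 J).lin_all l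
  obtain ⟨⟨x, hxa, hxb, hx⟩, y, t, ht, hy⟩ := hp a₀ b₀ hab
  let E : Finset Δ := Finset.univ.filter fun z => ∀ u ∈ Wp T p a₀ b₀, F.rho u z = z
  have hE : ∀ z, z ∈ E ↔ ∀ u ∈ Wp T p a₀ b₀, F.rho u z = z := fun z => by simp [E]
  have ha : a₀ ∈ E := (hE _).2 fun u hu => hu.2.1
  have hb : b₀ ∈ E := (hE _).2 fun u hu => hu.2.2
  have key : ∀ m : M, (m : Perm Ω) ∈ H → φ m a₀ ∈ E → φ m b₀ ∈ E → φ m ∈ H454.Reg.Alt.stab E := fun m hm h1 h2 =>
    H454.Reg.Alt.mem_stab_of fun z hz => (hE _).2 fun u hu => by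
      have h3 : (m : Perm Ω)⁻¹ * u * (m : Perm Ω)⁻¹⁻¹ ∈ T := F.u.socH.conj _ (H.inv_mem hm) _ u.2
      have h4 : F.rho ⟨_, h3⟩ = (φ m)⁻¹ * F.rho u * φ m := by
        rw [rho_apply, rho_apply, ← map_inv, ← map_mul, ← map_mul]
        exact congrArg φ (Subtype.ext (by simp))
      have h5 : ∀ r, F.rho ⟨_, h3⟩ r = r ↔ F.rho u (φ m r) = φ m r := fun r => by
        rw [h4, Perm.mul_apply, Perm.mul_apply, Perm.inv_eq_iff_eq]
      refine (h5 z).1 ((hE z).1 hz _ ⟨Subtype.ext ?_, (h5 a₀).2 ((hE _).1 h1 u hu), (h5 b₀).2 ((hE _).1 h2 u hu)⟩)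
      have h7 : (u : Perm Ω) ^ p = 1 := congrArg Subtype.val hu.1
      show ((m : Perm Ω)⁻¹ * u * (m : Perm Ω)⁻¹⁻¹) ^ p = 1
      rw [conj_pow, h7, mul_one, mul_inv_cancel]
  have f := F.fac a
  have hA : ∀ z ∈ ({a₀, b₀} : Finset Δ), z ∈ E := fun z hz => by
    rcases Finset.mem_insert.1 hz with rfl | hz
    · exact ha
    · exact Finset.mem_singleton.1 hz ▸ hb
  rcases f.pr.eq_or_eq (c := im φ H ⊓ H454.Reg.Alt.stab E) (le_inf inf_le_left (by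
    rintro _ ⟨⟨m, hm, rfl⟩, h2⟩
    have h3 := (J.st m).1 ((F.mem m).1 h2).2
    exact key m hm (hA _ ((h3 _).2 (by simp))) (hA _ ((h3 _).2 (by simp))))) inf_le_left with k | k
  · obtain ⟨u, e1, e2⟩ := F.two J a₀ b₀ a₀ x hab hxa.symm
    have h3 : F.rho u ∈ im φ H ⊓ H454.Reg.Alt.stab E :=
      ⟨(F.mem _).2 (F.u.socH.le u.2), key ⟨u, F.TM u.2⟩ (F.u.socH.le u.2) (e1.symm ▸ ha : F.rho u a₀ ∈ E)
        (e2.symm ▸ (hE x).2 hx : F.rho u b₀ ∈ E)⟩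
    rw [k] at h3
    have h4 : F.rho u b₀ ∈ ({a₀, b₀} : Finset Δ) := ((J.st _).1 ((F.mem _).1 h3.2).2 b₀).2 (by simp)
    rw [e2] at h4
    rcases Finset.mem_insert.1 h4 with h5 | h5
    · exact hxa h5
    · exact hxb (Finset.mem_singleton.1 h5)
  · obtain ⟨u, e⟩ := (F.act2 J).tr (by omega) a₀ y
    have h3 : F.rho u ∈ H454.Reg.Alt.stab E := inf_eq_left.1 k ((F.mem _).2 (F.u.socH.le u.2))
    have h4 : y ∈ E := (show F.rho u a₀ = y from e) ▸ (h3 a₀).2 ha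
    exact hy ((hE y).1 h4 t ht)

theorem jd (hc : ∀ {T Δ : Type} [Group T] [MulAction T Δ] {c : ℕ}, Act T Δ c → IsSimpleGroup T → ¬ IsMulCommutative T → Cs T c)
    (F : Fr X H T M S φ) (J : Ja φ a A) : @JD T Δ _ (act F.rho) (Fintype.card Δ) A.card :=
  @JD.mk T Δ _ (act F.rho) _ _ (F.act2 J) (@hc T Δ _ (act F.rho) _ (F.act2 J) F.u.socH.simple F.u.socH.nab) J.two J.half
    (fun j hj => F.card_im F.TM ▸ ((F.hg J).down J.half hj).dvd (by have := J.half; omega)) (F.hom3 J) (F.nlin J) F.nalt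

/-- **rigidity in case (a)** -/
theorem rig_a {φ₁ : M₁ →* Perm Δ} {φ₂ : M₂ →* Perm Δ'} {A₁ : Finset Δ} {A₂ : Finset Δ'} (F₁ : Fr X H T M₁ S₁ φ₁)
    (F₂ : Fr X H T M₂ S₂ φ₂) (J₁ : Ja φ₁ a A₁) (J₂ : Ja φ₂ a A₂) (hk : A₁.card = A₂.card)
    (h : @Same T Δ Δ' _ (act F₁.rho) (act F₂.rho)) : M₁ = M₂ := by
  obtain ⟨a₁, a₂, h⟩ := h
  have h6 := F₁.six
  have h6' := F₂.six
  obtain ⟨β, hβ⟩ := equiv_of_same (ρ₁ := F₁.rho) (ρ₂ := F₂.rho) (@Act.tr T Δ _ (act F₁.rho) _ (F₁.act2 J₁) (by omega))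
    (@Act.tr T Δ' _ (act F₂.rho) _ (F₂.act2 J₂) (by omega)) h
  obtain ⟨t, ht⟩ := F₂.reach J₂ (s := A₁.map β.toEmbedding) (by rw [Finset.card_map, hk])
  have h1 : ∀ x, F₂.rho t x ∈ A₁.map β.toEmbedding ↔ x ∈ A₂ := fun x => by
    have h2 : A₂.map (F₂.rho t).toEmbedding = A₁.map β.toEmbedding := Finset.eq_of_subset_of_card_le
      (fun y hy => by
        obtain ⟨z, hz, rfl⟩ := Finset.mem_map.1 hy
        exact ht z hz) (by rw [Finset.card_map, Finset.card_map, hk])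
    rw [← h2]
    exact Finset.mem_map' (F₂.rho t).toEmbedding
  refine (F₁.congr β).rig F₂ 1 (fun u hu => ?_) (a := a) (b := (t : Perm Ω) a) fun s s' hs e => ?_
  · rw [one_mul, inv_one, mul_one]
    refine Perm.ext fun x => ?_
    have h2 := hβ ⟨u, hu⟩ (β.symm x)
    rw [β.apply_symm_apply] at h2
    exact h2
  · rw [one_mul, inv_one, mul_one] at e
    have h2 := (J₂.st ((⟨t, F₂.TM t.2⟩ : M₂)⁻¹ * (s' * ⟨t, F₂.TM t.2⟩))).2 (H454.Reg.Alt.mem_stab_of fun x hx => by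
      rw [← h1, map_mul, map_inv, map_mul, Perm.mul_apply, ← F₂.rho_apply, ← Perm.mul_apply (F₂.rho t), mul_inv_cancel, Perm.one_apply,
        Perm.mul_apply, ← e]
      obtain ⟨z, hz, e1⟩ := Finset.mem_map.1 (ht x hx)
      rw [← e1]
      refine Finset.mem_map.2 ⟨φ₁ s z, ((J₁.st s).1 hs z).2 hz, ?_⟩
      show β (φ₁ s z) = β (φ₁ s (β.symm (β z)))
      rw [β.symm_apply_apply])
    exact Perm.inv_eq_iff_eq.1 h2

end Fr

/-- overgroups of type (a) -/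
def TyA (X H T M : Subgroup (Perm Ω)) (a : Ω) : Prop :=
  ∃ (S : Subgroup (Perm Ω)) (Δ : Type) (_ : Fintype Δ) (_ : DecidableEq Δ) (φ : M →* Perm Δ) (A : Finset Δ),
    Fr X H T M S φ ∧ Ja φ a A

theorem tyA_le
    (hc : ∀ {T Δ : Type} [Group T] [MulAction T Δ] {c : ℕ}, Act T Δ c → IsSimpleGroup T → ¬ IsMulCommutative T → Cs T c)
    (X H T : Subgroup (Perm Ω)) (a : Ω) : {M | TyA X H T M a}.ncard ≤ 2 := by
  by_contra hcon
  obtain ⟨M₁, M₂, M₃, ⟨S₁, Δ₁, _, _, φ₁, A₁, F₁, J₁⟩, ⟨S₂, Δ₂, _, _, φ₂, A₂, F₂, J₂⟩, ⟨S₃, Δ₃, _, _, φ₃, A₃, F₃, J₃⟩, h12, h13,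
    h23⟩ := (Set.two_lt_ncard_iff (Set.toFinite _)).1 (not_le.1 hcon)
  let _ := act F₁.rho
  let _ := act F₂.rho
  let _ := act F₃.rho
  have D₁ := F₁.jd hc J₁
  have D₂ := F₂.jd hc J₂
  have D₃ := F₃.jd hc J₃
  have e12 := (F₁.deg J₁).symm.trans (F₂.deg J₂)
  have e13 := (F₁.deg J₁).symm.trans (F₃.deg J₃)
  have k12 : A₁.card = A₂.card := by
    rcases lt_trichotomy A₁.card A₂.card with k | k | k
    · exact (D₁.cross D₂ k e12).elim
    · exact k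
    · exact (D₂.cross D₁ k e12.symm).elim
  have k13 : A₁.card = A₃.card := by
    rcases lt_trichotomy A₁.card A₃.card with k | k | k
    · exact (D₁.cross D₃ k e13).elim
    · exact k
    · exact (D₃.cross D₁ k e13.symm).elim
  have t1 := J₁.two
  have u1 := J₁.half
  have u2 := J₂.half
  have u3 := J₃.half
  rw [← k12] at e12
  rw [← k13] at e13
  have c12 := choose_inj (by omega) (by omega) (by omega) e12
  have c13 := choose_inj (by omega) (by omega) (by omega) e13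
  rcases D₁.two2 Δ₁ Δ₂ Δ₃ D₁.act (c12 ▸ D₂.act) (c13 ▸ D₃.act) with k | k | k
  · exact h12 (F₁.rig_a F₂ J₁ J₂ k12 k)
  · exact h13 (F₁.rig_a F₃ J₁ J₃ k13 k)
  · exact h23 (F₂.rig_a F₃ J₂ J₃ (k12.symm.trans k13) k)

end Cfsg.Agent.SM.Alt
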