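import Cfsg.Agent.SM.Alt.JaB
import Cfsg.Agent.S2119
import Cfsg.Agent.StdAlt.Six.Theta

/-!
# SM (S3570), alternating socle, case (b): `H` is the stabiliser of one or two points (helper42)
-/

set_option autoImplicit false
set_option linter.unusedVariables false
set_option linter.unusedSectionVars false

namespace Cfsg.Agent.SM.Alt

open Cfsg Equiv Subgroup MulAction

section model

variable {Δ : Type} [Fintype Δ] [DecidableEq Δ]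

theorem two_out {C : Finset Δ} (h : C.card + 2 ≤ Fintype.card Δ) : ∃ u v, u ≠ v ∧ u ∉ C ∧ v ∉ C := by
  have h2 := Finset.card_add_card_compl C
  obtain ⟨u, hu, v, hv, h1⟩ := Finset.one_lt_card.1 (show 1 < Cᶜ.card by omega)
  exact ⟨u, v, h1, Finset.mem_compl.1 hu, Finset.mem_compl.1 hv⟩

theorem exists_move {C : Finset Δ} (h : C.card + 3 ≤ Fintype.card Δ) {y : Δ} (hy : y ∉ C) : ∃ t ∈ fixA C, t y ≠ y := by
  obtain ⟨u, v, h1, hu, hv⟩ := two_out (C := insert y C) (by rw [Finset.card_insert_of_notMem hy]; omega)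
  rw [Finset.mem_insert, not_or] at hu hv
  refine ⟨swap y u * swap y v, ⟨?_, fun x hx => ?_⟩, ?_⟩
  · rw [Perm.mem_alternatingGroup, map_mul, Perm.sign_swap (Ne.symm hu.1), Perm.sign_swap (Ne.symm hv.1)]
    simp
  · have e1 : x ≠ y := fun e => hy (e ▸ hx)
    have e2 : x ≠ u := fun e => hu.2 (e ▸ hx)
    have e3 : x ≠ v := fun e => hv.2 (e ▸ hx)
    rw [Perm.mul_apply, swap_apply_of_ne_of_ne e1 e3, swap_apply_of_ne_of_ne e1 e2]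
  · rw [Perm.mul_apply, swap_apply_left, swap_apply_of_ne_of_ne hv.1 h1.symm]
    exact hv.1

/-- the centraliser of the alternating group of the complement -/
theorem fix_of_comm {A : Finset Δ} (h : A.card + 4 ≤ Fintype.card Δ) {g : Perm Δ} (hg : ∀ t ∈ fixA A, g * t = t * g) {x : Δ}
    (hx : x ∉ A) : g x = x := by
  by_contra k
  have hc := Finset.card_insert_le (g x) A
  obtain ⟨t, ht, h1⟩ := exists_move (C := insert (g x) A) (y := x) (by omega) (by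
    rw [Finset.mem_insert, not_or]
    exact ⟨Ne.symm k, hx⟩)
  have h2 : g (t x) = t (g x) := congrArg (fun u : Perm Δ => u x) (hg t ⟨ht.1, fun z hz => ht.2 z (Finset.mem_insert_of_mem hz)⟩)
  rw [ht.2 _ (Finset.mem_insert_self _ _)] at h2
  exact h1 (g.injective h2)

theorem eq_one_of_fix {A : Finset Δ} {g : Perm Δ} (h : A.card = 1 ∨ A.card = 2 ∧ g ∈ alternatingGroup Δ)
    (hg : ∀ x, x ∉ A → g x = x) : g = 1 := by
  have h1 : g.support.card ≤ A.card := Finset.card_le_card fun x hx => by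
    by_contra k
    exact Perm.mem_support.1 hx (hg x k)
  rcases Nat.lt_or_ge 1 g.support.card with k | k
  · obtain ⟨h2, h3⟩ := h.resolve_left (by omega)
    have h4 := (Perm.card_support_eq_two.1 (by omega : g.support.card = 2)).sign_eq
    rw [Perm.mem_alternatingGroup.1 h3] at h4
    exact absurd h4 (by decide)
  · exact Perm.card_support_le_one.1 k

end model

/-- the last `j` points -/
def Ar (m j : ℕ) : Finset (Fin m ⊕ Fin j) := Finset.univ.map Function.Embedding.inr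

theorem mem_Ar {m j : ℕ} {x : Fin m ⊕ Fin j} : x ∈ Ar m j ↔ ∃ b, Sum.inr b = x := by
  simp [Ar]

theorem card_Ar (m j : ℕ) : (Ar m j).card = j := by
  rw [Ar, Finset.card_map, Finset.card_univ, Fintype.card_fin]

/-- the permutations of the first `m` points -/
def io (m j : ℕ) : Perm (Fin m) →* Perm (Fin m ⊕ Fin j) := (Perm.sumCongrHom _ _).comp (MonoidHom.inl _ _)

theorem io_inj (m j : ℕ) : Function.Injective (io m j) := fun u v h => congrArg Prod.fst (Perm.sumCongrHom_injective h)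

theorem io_inr {m j : ℕ} (u : Perm (Fin m)) (b : Fin j) : io m j u (Sum.inr b) = Sum.inr b := rfl

theorem sign_io {m j : ℕ} (u : Perm (Fin m)) : Perm.sign (io m j u) = Perm.sign u := by
  have h := Perm.sign_sumCongr u (1 : Perm (Fin j))
  rw [map_one, mul_one] at h
  exact h

theorem mem_fixA_Ar {m j : ℕ} {g : Perm (Fin m ⊕ Fin j)} :
    g ∈ fixA (Ar m j) ↔ ∃ u : alternatingGroup (Fin m), io m j u = g := by
  refine ⟨fun h => ?_, ?_⟩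
  · obtain ⟨⟨u, v⟩, rfl⟩ := Perm.mem_sumCongrHom_range_of_perm_mapsTo_inl
      ((Perm.perm_mapsTo_inl_iff_mapsTo_inr g).2 (by
        rintro _ ⟨b, rfl⟩
        exact ⟨b, (h.2 _ (mem_Ar.2 ⟨b, rfl⟩)).symm⟩))
    obtain rfl : v = 1 := Perm.ext fun b => Sum.inr_injective (h.2 _ (mem_Ar.2 ⟨b, rfl⟩))
    exact ⟨⟨u, (sign_io (j := j) u).symm.trans h.1⟩, rfl⟩
  · rintro ⟨u, rfl⟩
    refine ⟨(sign_io (j := j) u.1).trans u.2, fun x hx => ?_⟩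
    obtain ⟨b, rfl⟩ := mem_Ar.1 hx
    rfl

variable {Ω : Type} [Fintype Ω] [DecidableEq Ω] {X H T M S M₁ S₁ M₂ S₂ : Subgroup (Perm Ω)}
variable {Δ Δ' : Type} [Fintype Δ] [DecidableEq Δ] [Fintype Δ'] [DecidableEq Δ']

theorem Jb.congr {φ : M →* Perm Δ} {A : Finset Δ} (J : Jb H T S φ A) (β : Δ ≃ Δ') {A' : Finset Δ'}
    (hA : ∀ x, β x ∈ A' ↔ x ∈ A) : Jb H T S (β.permCongrHom.toMonoidHom.comp φ) A' := by
  have hc : A.card = A'.card := Finset.card_equiv β fun x => (hA x).symm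
  have ap : ∀ (m : M) (x : Δ), (β.permCongrHom.toMonoidHom.comp φ) m (β x) = β (φ m x) := fun m x => by
    show β (φ m (β.symm (β x))) = _
    rw [β.symm_apply_apply]
  refine ⟨hc ▸ J.ty, hc ▸ Fintype.card_congr β ▸ J.five, fun m => ?_, fun m => ?_⟩
  · rw [J.st m, β.surjective.forall]
    simp only [ap, hA]
  · rw [J.soc m]
    refine and_congr ?_ ?_
    · rw [Perm.mem_alternatingGroup, Perm.mem_alternatingGroup]
      exact (Eq.congr_left (Perm.sign_permCongr β (φ m))).symm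
    · rw [β.surjective.forall]
      simp only [ap, hA, β.apply_eq_iff_eq]

/-- the standard form of case (b) -/
def Std (X H T M : Subgroup (Perm Ω)) (m j : ℕ) (e : T ≃* alternatingGroup (Fin m)) : Prop :=
  ∃ (S : Subgroup (Perm Ω)) (φ : M →* Perm (Fin m ⊕ Fin j)) (F : Fr X H T M S φ),
    Jb H T S φ (Ar m j) ∧ ∀ t, F.rho t = io m j (e t)

theorem std_of {φ : M →* Perm Δ} {A : Finset Δ} (F : Fr X H T M S φ) (J : Jb H T S φ A) :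
    ∃ (m j : ℕ) (e : T ≃* alternatingGroup (Fin m)), 5 ≤ m ∧ Std X H T M m j e := by
  let β : Δ ≃ Fin (Fintype.card {x // x ∉ A}) ⊕ Fin (Fintype.card {x // ¬ x ∉ A}) :=
    (Equiv.sumCompl fun x => x ∉ A).symm.trans (Equiv.sumCongr (Fintype.equivFin _) (Fintype.equivFin _))
  have hβ : ∀ x, β x ∈ Ar _ _ ↔ x ∈ A := fun x => by
    rw [mem_Ar]
    by_cases hx : x ∉ A
    · have h1 : β x = Sum.inl (Fintype.equivFin _ ⟨x, hx⟩) :=
        congrArg (Equiv.sumCongr (Fintype.equivFin _) (Fintype.equivFin _)) (Equiv.sumCompl_symm_apply_of_pos (p := fun x => x ∉ A) hx)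
      rw [h1]
      exact ⟨fun ⟨b, e⟩ => absurd e Sum.inr_ne_inl, fun k => absurd k hx⟩
    · have h1 : β x = Sum.inr (Fintype.equivFin _ ⟨x, hx⟩) :=
        congrArg (Equiv.sumCongr (Fintype.equivFin _) (Fintype.equivFin _)) (Equiv.sumCompl_symm_apply_of_neg (p := fun x => x ∉ A) hx)
      exact ⟨fun _ => not_not.1 hx, fun _ => ⟨_, h1.symm⟩⟩
  have h5 : 5 ≤ Fintype.card {x // x ∉ A} := by
    have := J.five
    rw [Fintype.card_subtype_compl, Fintype.card_coe]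
    omega
  have F' := F.congr β
  have J' := J.congr β hβ
  generalize β.permCongrHom.toMonoidHom.comp φ = ψ at F' J'
  generalize Fintype.card {x // x ∉ A} = m at ψ F' J' h5
  generalize Fintype.card {x // ¬ x ∉ A} = j at ψ F' J'
  have h0 : ∀ t : T, ∃ u : alternatingGroup (Fin m), io m j u = F'.rho t := fun t =>
    mem_fixA_Ar.1 ((J'.soc ⟨t, F'.TM t.2⟩).1 t.2)
  choose f hf using h0
  let f' : T →* alternatingGroup (Fin m) := MonoidHom.mk' f fun s t => Subtype.ext (io_inj m j (by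
    rw [hf, Subgroup.coe_mul, map_mul, map_mul, hf, hf]))
  have hb : Function.Bijective f' := ⟨fun s t e => F'.rho_inj (by rw [← hf, ← hf]; exact congrArg (fun u => io m j u.1) e),
    fun u => by
      have h1 := mem_fixA_Ar.2 ⟨u, (rfl : io m j u = _)⟩
      obtain ⟨w, hw⟩ := F'.sur _ h1.1
      exact ⟨⟨w, (J'.soc w).2 (hw ▸ h1)⟩, Subtype.ext (io_inj m j ((hf _).trans hw))⟩⟩
  exact ⟨m, j, MulEquiv.ofBijective f' hb, h5, S, ψ, F', J', fun t => (hf t).symm⟩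

theorem Std.conj {m j : ℕ} {e e' : T ≃* alternatingGroup (Fin m)} (h : Std X H T M m j e) (g : Perm (Fin m))
    (hg : ∀ t, (e' t : Perm (Fin m)) = g * e t * g⁻¹) : Std X H T M m j e' := by
  obtain ⟨S, φ, F, J, h⟩ := h
  refine ⟨S, _, F.congr (io m j g), J.congr _ (H454.Reg.Alt.mem_stab_of fun x hx => ?_), fun t => ?_⟩
  · obtain ⟨b, rfl⟩ := mem_Ar.1 hx
    exact hx
  · rw [hg, map_mul, map_mul, map_inv, ← h]
    rfl

namespace Fr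

variable {φ : M →* Perm Δ} {φ₁ : M₁ →* Perm Δ} {φ₂ : M₂ →* Perm Δ} {A : Finset Δ}

theorem agree (F₁ : Fr X H T M₁ S₁ φ₁) (F₂ : Fr X H T M₂ S₂ φ₂) (J₁ : Jb H T S₁ φ₁ A) (J₂ : Jb H T S₂ φ₂ A)
    (h : ∀ t, F₁.rho t = F₂.rho t) {g : Perm Ω} (hg : g ∈ H) : φ₁ ⟨g, F₁.u.ov.2 hg⟩ = φ₂ ⟨g, F₂.u.ov.2 hg⟩ := by
  have h5 := J₁.five
  refine (inv_mul_eq_one.1 (eq_one_of_fix (A := A) ?_ fun x hx => fix_of_comm (by omega) (fun t ht => ?_) hx)).symm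
  · rcases J₁.ty with k | k
    · exact Or.inl k
    · exact Or.inr ⟨k.1, Subgroup.mul_mem _ (Subgroup.inv_mem _ ((F₂.alt _).2 ((J₂.ty.resolve_left (by omega)).2 _)))
        ((F₁.alt _).2 (k.2 _))⟩
  · obtain ⟨w, rfl⟩ := F₁.sur t ht.1
    have h1 := (J₁.soc w).2 ht
    have h2 := F₁.u.socH.conj g hg w h1
    have h3 : φ₁ ⟨g, F₁.u.ov.2 hg⟩ * φ₁ w * (φ₁ ⟨g, F₁.u.ov.2 hg⟩)⁻¹ = F₁.rho ⟨_, h2⟩ := by
      rw [← map_inv, ← map_mul, ← map_mul]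
      rfl
    have h4 : φ₂ ⟨g, F₂.u.ov.2 hg⟩ * φ₁ w * (φ₂ ⟨g, F₂.u.ov.2 hg⟩)⁻¹ = F₂.rho ⟨_, h2⟩ := by
      rw [show φ₁ w = F₂.rho ⟨w, h1⟩ from h ⟨w, h1⟩, rho_apply, ← map_inv, ← map_mul, ← map_mul]
      rfl
    rw [h, ← h4] at h3
    generalize φ₁ ⟨g, F₁.u.ov.2 hg⟩ = u at h3 ⊢
    generalize φ₂ ⟨g, F₂.u.ov.2 hg⟩ = v at h3 ⊢
    calc v⁻¹ * u * φ₁ w = v⁻¹ * (u * φ₁ w * u⁻¹) * u := by group
      _ = φ₁ w * (v⁻¹ * u) := by rw [h3]; group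

theorem im_eq (F₁ : Fr X H T M₁ S₁ φ₁) (F₂ : Fr X H T M₂ S₂ φ₂) (J₁ : Jb H T S₁ φ₁ A) (J₂ : Jb H T S₂ φ₂ A)
    (h : ∀ t, F₁.rho t = F₂.rho t) {K : Subgroup (Perm Ω)} (hK : K ≤ H) : im φ₁ K = im φ₂ K := by
  ext g
  exact ⟨fun ⟨w, hw, e⟩ => ⟨⟨w, F₂.u.ov.2 (hK hw)⟩, hw, (F₁.agree F₂ J₁ J₂ h (hK hw)).symm.trans e⟩,
    fun ⟨w, hw, e⟩ => ⟨⟨w, F₁.u.ov.2 (hK hw)⟩, hw, (F₁.agree F₂ J₁ J₂ h (hK hw)).trans e⟩⟩

theorem ext' (F : Fr X H T M S φ) (J : Jb H T S φ A) (a : Ω) :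
    Ext (im φ M) (im φ H) (im φ (H ⊓ stabilizer (Perm Ω) a)) (im φ (M ⊓ stabilizer (Perm Ω) a)) A := by
  have f := F.fac a
  have hi : im φ H ⊓ im φ (M ⊓ stabilizer (Perm Ω) a) = im φ (H ⊓ stabilizer (Perm Ω) a) := by
    ext g
    refine ⟨?_, ?_⟩
    · rintro ⟨⟨w, hw, rfl⟩, h2⟩
      exact ⟨w, ⟨hw, ((F.mem w).1 h2).2⟩, rfl⟩
    · rintro ⟨w, hw, rfl⟩
      exact ⟨⟨w, hw.1, rfl⟩, ⟨w, ⟨w.2, hw.2⟩, rfl⟩⟩
  refine ⟨J.five, f.asM.le, fun g => ⟨?_, ?_⟩, f.bm, f.nB, hi, hi ▸ f.pr, ?_, ?_⟩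
  · rintro ⟨w, hw, rfl⟩
    exact ⟨⟨w, w.2, rfl⟩, (J.st w).1 hw⟩
  · rintro ⟨⟨w, -, rfl⟩, h2⟩
    exact ⟨w, (J.st w).2 h2, rfl⟩
  · obtain ⟨_, ⟨w, hw, rfl⟩, h2⟩ := SetLike.not_le_iff_exists.1 f.nT
    exact ⟨φ w, ((J.soc w).1 hw).1, ((J.soc w).1 hw).2, fun k => h2 (hi.ge k).2⟩
  · rintro _ ⟨w, -, rfl⟩
    obtain ⟨t, ht, e⟩ := F.u.trans a ((w : Perm Ω) a)
    refine ⟨φ ⟨t, F.TM ht⟩, ⟨_, F.u.socH.le ht, rfl⟩, φ ((⟨t, F.TM ht⟩ : M)⁻¹ * w),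
      ⟨_, ⟨Subtype.prop _, Perm.inv_eq_iff_eq.2 e.symm⟩, rfl⟩, ?_⟩
    rw [← map_mul, mul_inv_cancel_left]

theorem kind (F : Fr X H T M S φ) (J : Jb H T S φ A) :
    (H = T ∧ A.card = 1 ∧ im φ M = alternatingGroup Δ) ∨ (H ≠ T ∧ A.card = 1 ∧ im φ M = ⊤) ∨
      (H ≠ T ∧ A.card = 2 ∧ im φ M = alternatingGroup Δ) := by
  have h5 := J.five
  obtain ⟨u, v, huv, hu, hv⟩ := two_out (C := A) (by omega)
  have hs : ∀ x ∈ A, swap u v x = x := fun x hx => swap_apply_of_ne_of_ne (fun e => hu (e ▸ hx)) fun e => hv (e ▸ hx)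
  have hY : alternatingGroup Δ ≤ im φ M := fun g hg => let ⟨w, e⟩ := F.sur g hg; ⟨w, w.2, e⟩
  rcases J.ty with k | ⟨k, k2⟩
  · rcases eq_alt_or_top (by omega) hY with e | e
    · refine Or.inl ⟨le_antisymm (fun g hg => (J.soc ⟨g, F.u.ov.2 hg⟩).2 ⟨e.le ⟨_, F.u.ov.2 hg, rfl⟩, fun x hx => ?_⟩)
        F.u.socH.le, k, e⟩
      exact Finset.card_le_one.1 k.le _ (((J.st ⟨g, F.u.ov.2 hg⟩).1 hg x).2 hx) x hx
    · refine Or.inr (Or.inl ⟨fun e1 => ?_, k, e⟩)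
      obtain ⟨w, -, hw⟩ : swap u v ∈ im φ M := e ▸ mem_top _
      have h1 := (J.st w).2 (hw ▸ H454.Reg.Alt.mem_stab_of fun x hx => by rwa [hs x hx])
      have h2 := ((J.soc w).1 (e1 ▸ h1)).1
      rw [hw, Perm.mem_alternatingGroup, Perm.sign_swap huv] at h2
      exact absurd h2 (by decide)
  · refine Or.inr (Or.inr ⟨fun e1 => ?_, k, le_antisymm ?_ hY⟩)
    · obtain ⟨x, y, hxy, rfl⟩ := Finset.card_eq_two.1 k
      obtain ⟨w, hw⟩ := F.sur (swap x y * swap u v) (by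
        rw [Perm.mem_alternatingGroup, map_mul, Perm.sign_swap hxy, Perm.sign_swap huv]
        simp)
      have h1 := (J.st w).2 (hw ▸ H454.Reg.Alt.mem_stab_of fun z hz => by
        rw [Perm.mul_apply, hs z hz]
        rcases Finset.mem_insert.1 hz with rfl | hz
        · simp
        · rw [Finset.mem_singleton.1 hz]
          simp)
      have h2 := ((J.soc w).1 (e1 ▸ h1)).2 x (by simp)
      rw [hw, Perm.mul_apply, hs x (by simp), swap_apply_left] at h2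
      exact hxy h2.symm
    · rintro _ ⟨w, -, rfl⟩
      exact (F.alt w).2 (k2 w)

/-- **rigidity in case (b)** -/
theorem rig_b (F₁ : Fr X H T M₁ S₁ φ₁) (F₂ : Fr X H T M₂ S₂ φ₂) (J₁ : Jb H T S₁ φ₁ A) (h : ∀ t, F₁.rho t = F₂.rho t) (a : Ω)
    (τ : Perm Δ) (hτ : ∀ x, x ∉ A → τ x = x)
    (hB : ∀ g, g ∈ im φ₁ (M₁ ⊓ stabilizer (Perm Ω) a) ↔ τ * g * τ⁻¹ ∈ im φ₂ (M₂ ⊓ stabilizer (Perm Ω) a)) : M₁ = M₂ := by
  refine F₁.rig F₂ τ (fun t ht => ?_) (a := a) (b := a) fun s s' hs e => ?_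
  · have h1 : Perm.Disjoint τ (φ₁ ⟨t, F₁.TM ht⟩) := fun x => by
      by_cases hx : x ∈ A
      · exact Or.inr (((J₁.soc _).1 ht).2 x hx)
      · exact Or.inl (hτ x hx)
    rw [h1.commute.eq, mul_inv_cancel_right]
    exact h ⟨t, ht⟩
  · have h1 := (hB _).1 ⟨s, ⟨s.2, hs⟩, rfl⟩
    rw [e] at h1
    exact ((F₂.mem s').1 h1).2

theorem rig_b' (F₁ : Fr X H T M₁ S₁ φ₁) (F₂ : Fr X H T M₂ S₂ φ₂) (J₁ : Jb H T S₁ φ₁ A) (h : ∀ t, F₁.rho t = F₂.rho t) (a : Ω)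
    (hB : im φ₁ (M₁ ⊓ stabilizer (Perm Ω) a) = im φ₂ (M₂ ⊓ stabilizer (Perm Ω) a)) : M₁ = M₂ :=
  F₁.rig_b F₂ J₁ h a 1 (fun _ _ => rfl) fun g => by rw [one_mul, inv_one, mul_one, hB]

/-- the extension data of the second frame in terms of the first one -/
theorem ext2 (F₁ : Fr X H T M₁ S₁ φ₁) (F₂ : Fr X H T M₂ S₂ φ₂) (J₁ : Jb H T S₁ φ₁ A) (J₂ : Jb H T S₂ φ₂ A)
    (h : ∀ t, F₁.rho t = F₂.rho t) (a : Ω) :
    Ext (im φ₁ M₁) (im φ₁ H) (im φ₁ (H ⊓ stabilizer (Perm Ω) a)) (im φ₂ (M₂ ⊓ stabilizer (Perm Ω) a)) A := by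
  have e : im φ₁ M₁ = im φ₂ M₂ := by
    rcases F₁.kind J₁ with ⟨k1, k2, k3⟩ | ⟨k1, k2, k3⟩ | ⟨k1, k2, k3⟩ <;>
      rcases F₂.kind J₂ with ⟨l1, l2, l3⟩ | ⟨l1, l2, l3⟩ | ⟨l1, l2, l3⟩ <;>
      first | exact k3.trans l3.symm | exact absurd k1 l1 | exact absurd l1 k1 | omega
  rw [e, F₁.im_eq F₂ J₁ J₂ h le_rfl, F₁.im_eq F₂ J₁ J₂ h inf_le_left]
  exact F₂.ext' J₂ a

end Fr

theorem Std.one_two {m j : ℕ} {e : T ≃* alternatingGroup (Fin m)} (h : Std X H T M m j e) :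
    (j = 1 ∨ j = 2) ∧ (H = T → j = 1) := by
  obtain ⟨S, φ, F, J, -⟩ := h
  rcases F.kind J with ⟨k1, k2, -⟩ | ⟨k1, k2, -⟩ | ⟨k1, k2, -⟩ <;> rw [card_Ar] at k2
  · exact ⟨Or.inl k2, fun _ => k2⟩
  · exact ⟨Or.inl k2, fun _ => k2⟩
  · exact ⟨Or.inr k2, fun k => absurd k k1⟩

theorem Std.pair (hE : BoxExt) {m j : ℕ} {e : T ≃* alternatingGroup (Fin m)} (hH : H ≠ T) (h₁ : Std X H T M₁ m j e)
    (h₂ : Std X H T M₂ m j e) : M₁ = M₂ := by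
  obtain ⟨S₁, φ₁, F₁, J₁, e₁⟩ := h₁
  obtain ⟨S₂, φ₂, F₂, J₂, e₂⟩ := h₂
  obtain ⟨a⟩ : Nonempty Ω := Fintype.card_pos_iff.1 (lt_of_lt_of_le two_pos F₁.u.two)
  have h : ∀ t, F₁.rho t = F₂.rho t := fun t => (e₁ t).trans (e₂ t).symm
  rcases F₁.kind J₁ with ⟨k1, -⟩ | ⟨-, k2, k3⟩ | ⟨-, k2, k3⟩
  · exact absurd k1 hH
  · exact F₁.rig_b' F₂ J₁ h a ((hE _ _ _ _ _).2.1 k2 k3 _ _ (F₁.ext' J₁ a) (F₁.ext2 F₂ J₁ J₂ h a))
  · obtain ⟨τ, h1, h2⟩ := (hE _ _ _ _ _).2.2 k2 k3 _ _ (F₁.ext' J₁ a) (F₁.ext2 F₂ J₁ J₂ h a)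
    exact F₁.rig_b F₂ J₁ h a τ h1 h2

theorem std_le (hE : BoxExt) (X H T : Subgroup (Perm Ω)) {m : ℕ} (e : T ≃* alternatingGroup (Fin m)) :
    {M | ∃ j, Std X H T M m j e}.ncard ≤ 2 := by
  by_contra hcon
  obtain ⟨M₁, M₂, M₃, ⟨j₁, h₁⟩, ⟨j₂, h₂⟩, ⟨j₃, h₃⟩, h12, h13, h23⟩ := (Set.two_lt_ncard_iff (Set.toFinite _)).1 (not_le.1 hcon)
  by_cases hH : H = T
  · obtain rfl := h₁.one_two.2 hH
    obtain rfl := h₂.one_two.2 hH
    obtain rfl := h₃.one_two.2 hH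
    obtain ⟨S₁, φ₁, F₁, J₁, e₁⟩ := h₁
    obtain ⟨S₂, φ₂, F₂, J₂, e₂⟩ := h₂
    obtain ⟨S₃, φ₃, F₃, J₃, e₃⟩ := h₃
    obtain ⟨a⟩ : Nonempty Ω := Fintype.card_pos_iff.1 (lt_of_lt_of_le two_pos F₁.u.two)
    have k12 : ∀ t, F₁.rho t = F₂.rho t := fun t => (e₁ t).trans (e₂ t).symm
    have k13 : ∀ t, F₁.rho t = F₃.rho t := fun t => (e₁ t).trans (e₃ t).symm
    have k23 : ∀ t, F₂.rho t = F₃.rho t := fun t => (e₂ t).trans (e₃ t).symm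
    rcases (hE _ _ _ _ _).1 (card_Ar m 1) _ _ _ (F₁.ext' J₁ a) (F₁.ext2 F₂ J₁ J₂ k12 a) (F₁.ext2 F₃ J₁ J₃ k13 a) with k | k | k
    · exact h12 (F₁.rig_b' F₂ J₁ k12 a k)
    · exact h13 (F₁.rig_b' F₃ J₁ k13 a k)
    · exact h23 (F₂.rig_b' F₃ J₂ k23 a k)
  · rcases h₁.one_two.1 with rfl | rfl <;> rcases h₂.one_two.1 with rfl | rfl <;> rcases h₃.one_two.1 with rfl | rfl <;>
      first | exact h12 (h₁.pair hE hH h₂) | exact h13 (h₁.pair hE hH h₃) | exact h23 (h₂.pair hE hH h₃)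

/-- overgroups of type (b) -/
def TyB (X H T M : Subgroup (Perm Ω)) : Prop :=
  ∃ (S : Subgroup (Perm Ω)) (Δ : Type) (_ : Fintype Δ) (_ : DecidableEq Δ) (φ : M →* Perm Δ) (A : Finset Δ),
    Fr X H T M S φ ∧ Jb H T S φ A

theorem two_card_of {T : Type} [Group T] {m : ℕ} (h : 5 ≤ m) (e : T ≃* alternatingGroup (Fin m)) :
    2 * Nat.card T = m.factorial := by
  rw [Nat.card_congr e.toEquiv, two_card_alt (by rw [Fintype.card_fin]; omega), Fintype.card_fin]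

theorem tyB_le (hE : BoxExt) (h : TyB X H T M) : ∃ m, 5 ≤ m ∧ Nonempty (T ≃* alternatingGroup (Fin m)) ∧
    {M | TyB X H T M}.ncard ≤ 4 ∧ (m ≠ 6 → {M | TyB X H T M}.ncard ≤ 2) := by
  obtain ⟨S, Δ, _, _, φ, A, F, J⟩ := h
  obtain ⟨m, j, e₀, h5, -⟩ := std_of F J
  have key : ∀ M, TyB X H T M → ∃ (j : ℕ) (e : T ≃* alternatingGroup (Fin m)), Std X H T M m j e := by
    rintro M ⟨S, Δ, _, _, φ, A, F, J⟩
    obtain ⟨m', j, e, h5', h⟩ := std_of F J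
    obtain rfl : m' = m := (Nat.factorial_inj (by omega)).1 ((two_card_of h5' e).symm.trans (two_card_of h5 e₀))
    exact ⟨j, e, h⟩
  have k2 : m ≠ 6 → {M | TyB X H T M}.ncard ≤ 2 := fun h6 =>
    (Set.ncard_le_ncard (fun M hM => by
      obtain ⟨j, e, h⟩ := key M hM
      obtain ⟨g, hg⟩ := (S2119.result m (by omega) h6).2 (e.symm.trans e₀)
      refine ⟨j, h.conj g fun t => ?_⟩
      rw [← MulAut.conjNormal_apply, hg, MulEquiv.trans_apply, e.symm_apply_apply]) (Set.toFinite _)).trans (std_le hE X H T e₀)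
  refine ⟨m, h5, ⟨e₀⟩, ?_, k2⟩
  by_cases h6 : m = 6
  · subst h6
    obtain ⟨θ, hθ⟩ := StdAlt.Six.exists_theta
    refine (Set.ncard_le_ncard (t := {M | ∃ j, Std X H T M 6 j e₀} ∪ {M | ∃ j, Std X H T M 6 j (e₀.trans θ)}) (fun M hM => ?_)
      (Set.toFinite _)).trans ((Set.ncard_union_le _ _).trans (add_le_add (std_le hE X H T _) (std_le hE X H T _)))
    obtain ⟨j, e, h⟩ := key M hM
    by_cases k : StdAlt.Six.NS (e.symm.trans e₀)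
    · obtain ⟨g, hg⟩ := k
      refine Or.inl ⟨j, h.conj g fun t => ?_⟩
      rw [← hg, MulEquiv.trans_apply, e.symm_apply_apply]
    · obtain ⟨g, hg⟩ := StdAlt.Six.NS.mul_of_not hθ k
      refine Or.inr ⟨j, h.conj g fun t => ?_⟩
      rw [← hg, MulAut.mul_apply, MulEquiv.trans_apply, MulEquiv.trans_apply, e.symm_apply_apply]
  · exact (k2 h6).trans (by norm_num)

end Cfsg.Agent.SM.Alt
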