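import Cfsg.Agent.SM.Alt.Defs
import Cfsg.Agent.H561.PPRowA

/-!
# SM (S3570), alternating socle: tools for the uniqueness of 2-transitive actions (helper61)
-/

set_option autoImplicit false

namespace Cfsg.Agent.SM.Alt.Mat

open Cfsg Equiv Subgroup MulAction
open Cfsg.Agent.H561.PPow (RowAt)

variable {T T' : Type} [Group T] [Group T'] {c : ℕ}

section act

variable {Δ : Type} [MulAction T Δ]

theorem nontriv (h : Act T Δ c) (hc : 2 ≤ c) : Nontrivial Δ := by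
  have := h.fin
  exact Finite.one_lt_card_iff_nontrivial.1 (by rw [h.card]; omega)

theorem trans (h : Act T Δ c) (hc : 2 ≤ c) (a x : Δ) : ∃ t : T, t • a = x := by
  have := nontriv h hc
  obtain ⟨b, hb⟩ := exists_ne a
  obtain ⟨y, hy⟩ := exists_ne x
  obtain ⟨t, ht, -⟩ := h.two a b x y hb.symm hy.symm
  exact ⟨t, ht⟩

theorem index (h : Act T Δ c) (hc : 2 ≤ c) (a : Δ) : (stabilizer T a).index = c := by
  have : IsPretransitive T Δ := ⟨trans h hc⟩
  rw [index_stabilizer_of_transitive, h.card]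

theorem inj (h : Act T Δ c) : Function.Injective (toPermHom T Δ) :=
  (injective_iff_map_eq_one _).2 fun t ht => h.faith t fun x => by
    have := congrArg (fun π : Perm Δ => π x) ht
    exact this

theorem conj_smul (u t : T) (a : Δ) : (u * t * u⁻¹) • a = a ↔ t • u⁻¹ • a = u⁻¹ • a := by
  rw [mul_smul, mul_smul, smul_eq_iff_eq_inv_smul]

/-- the action on a relabelled set -/
def rep {β : Type} (ε : Δ ≃ β) : T →* Perm β := (ε.permCongrHom).toMonoidHom.comp (toPermHom T Δ)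

theorem rep_apply {β : Type} (ε : Δ ≃ β) (t : T) (x : Δ) : rep ε t (ε x) = ε (t • x) := by
  show ε (t • ε.symm (ε x)) = _
  rw [ε.symm_apply_apply]

theorem rep_inj (h : Act T Δ c) {β : Type} (ε : Δ ≃ β) : Function.Injective (rep ε : T →* Perm β) :=
  (ε.permCongrHom).injective.comp (inj h)

theorem rep_trans {β : Type} (ε : Δ ≃ β) (σ : Perm β) (t : T) : rep (ε.trans σ) t = σ * rep ε t * σ⁻¹ := by
  ext x
  rfl

theorem range_trans {β : Type} (ε : Δ ≃ β) (σ : Perm β) :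
    (rep (ε.trans σ) : T →* Perm β).range = (rep ε : T →* Perm β).range.map (MulAut.conj σ).toMonoidHom := by
  ext π
  constructor
  · rintro ⟨t, rfl⟩
    exact ⟨_, ⟨t, rfl⟩, (rep_trans ε σ t).symm⟩
  · rintro ⟨_, ⟨t, rfl⟩, rfl⟩
    exact ⟨t, rep_trans ε σ t⟩

theorem cycleType_eq {β : Type} [Fintype β] [DecidableEq β] {p : ℕ} (hp : p.Prime) (hn : Fintype.card β < 2 * p)
    {σ : Perm β} (h : orderOf σ = p) : σ.cycleType = {p} := by
  obtain ⟨m, hm⟩ := Perm.cycleType_prime_order (σ := σ) (by rw [h]; exact hp)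
  rw [h] at hm
  have hsum : σ.cycleType.sum ≤ Fintype.card β := by
    rw [Perm.sum_cycleType]
    exact Finset.card_le_univ σ.support
  rw [hm, Multiset.sum_replicate, smul_eq_mul] at hsum
  have hm0 : m = 0 := by
    by_contra hne
    have : 2 ≤ m + 1 := by omega
    have := Nat.mul_le_mul_right p this
    omega
  rw [hm, hm0]
  rfl

/-- a labelling with a given `p`-cycle in the image -/
theorem exists_lab [Finite T] (h : Act T Δ c) {p : ℕ} (hp : p.Prime) (hT : p ∣ Nat.card T) (hc : c < 2 * p)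
    {t : Perm (Fin c)} (ht : orderOf t = p) : ∃ ε : Δ ≃ Fin c, t ∈ (rep ε : T →* Perm (Fin c)).range := by
  have := h.fin
  have : Fact p.Prime := ⟨hp⟩
  let ε : Δ ≃ Fin c := Finite.equivFinOfCardEq h.card
  obtain ⟨g, hg⟩ := exists_prime_orderOf_dvd_card' p hT
  have h1 : orderOf (rep ε g) = p := by rw [orderOf_injective _ (rep_inj h ε), hg]
  have h2 : IsConj (rep ε g) t := by
    rw [Perm.isConj_iff_cycleType_eq, cycleType_eq hp (by rw [Fintype.card_fin]; exact hc) h1,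
      cycleType_eq hp (by rw [Fintype.card_fin]; exact hc) ht]
  obtain ⟨σ, hσ⟩ := isConj_iff.1 h2
  exact ⟨ε.trans σ, g, by rw [rep_trans, hσ]⟩

theorem rep_tr (h : Act T Δ c) (hc : 2 ≤ c) {β : Type} (ε : Δ ≃ β) (x y : β) :
    ∃ g ∈ (rep ε : T →* Perm β).range, g x = y := by
  obtain ⟨t, ht⟩ := trans h hc (ε.symm x) (ε.symm y)
  refine ⟨_, ⟨t, rfl⟩, ?_⟩
  have h1 := rep_apply ε t (ε.symm x)
  rwa [ht, ε.apply_symm_apply, ε.apply_symm_apply] at h1

theorem card_range (h : Act T Δ c) {β : Type} (ε : Δ ≃ β) : Nat.card (rep ε : T →* Perm β).range = Nat.card T :=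
  (Nat.card_congr (MonoidHom.ofInjective (rep_inj h ε)).toEquiv).symm

end act

/-- all the images are one permutation group -/
theorem row_of_std {β : Type} (b : β) (S : Subgroup (Perm β))
    (h : ∀ (Δ : Type) [MulAction T Δ], Act T Δ c → ∃ ε : Δ ≃ β, (rep ε : T →* Perm β).range = S) : Row2 T c := by
  intro Δ₁ Δ₂ _ _ h1 h2
  obtain ⟨ε₁, e1⟩ := h Δ₁ h1
  obtain ⟨ε₂, e2⟩ := h Δ₂ h2
  let f₁ : T ≃* S := (MonoidHom.ofInjective (rep_inj h1 ε₁)).trans (MulEquiv.subgroupCongr e1)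
  let f₂ : T ≃* S := (MonoidHom.ofInjective (rep_inj h2 ε₂)).trans (MulEquiv.subgroupCongr e2)
  refine ⟨f₁.trans f₂.symm, ε₁.symm b, ε₂.symm b, fun t => ?_⟩
  have h3 : rep ε₂ ((f₁.trans f₂.symm) t) = rep ε₁ t := by
    have h4 : f₂ (f₂.symm (f₁ t)) = f₁ t := f₂.apply_symm_apply _
    exact congrArg Subtype.val h4
  have h5 := rep_apply ε₁ t (ε₁.symm b)
  have h6 := rep_apply ε₂ ((f₁.trans f₂.symm) t) (ε₂.symm b)
  rw [Equiv.apply_symm_apply] at h5 h6
  rw [h3, h5] at h6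
  rw [Equiv.eq_symm_apply, Equiv.eq_symm_apply, h6]

theorem row_of_rowAt (h : RowAt T c) (hc : 2 ≤ c) : Row2 T c := by
  intro Δ₁ Δ₂ _ _ h1 h2
  have := nontriv h1 hc
  have := nontriv h2 hc
  obtain ⟨a₁⟩ : Nonempty Δ₁ := inferInstance
  obtain ⟨a₂⟩ : Nonempty Δ₂ := inferInstance
  obtain ⟨γ, hγ⟩ := h _ _ (index h1 hc a₁) (index h2 hc a₂)
  exact ⟨γ, a₁, a₂, hγ⟩

/-- inner -/
def Inr (α : MulAut T) : Prop := ∃ u : T, α = MulAut.conj u

theorem same_of_inr {Δ₁ Δ₂ : Type} [MulAction T Δ₁] [MulAction T Δ₂] {γ : MulAut T} (hγ : Inr γ) {a₁ : Δ₁} {a₂ : Δ₂}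
    (h : ∀ t : T, t • a₁ = a₁ ↔ γ t • a₂ = a₂) : Same T Δ₁ Δ₂ := by
  obtain ⟨u, rfl⟩ := hγ
  exact ⟨a₁, u⁻¹ • a₂, fun t => (h t).trans (conj_smul u t a₂)⟩

theorem one_of_row (h : Row2 T c) (hi : ∀ α : MulAut T, Inr α) : One2 T c := by
  intro Δ₁ Δ₂ _ _ h1 h2
  obtain ⟨γ, a₁, a₂, h3⟩ := h Δ₁ Δ₂ h1 h2
  exact same_of_inr (hi γ) h3

/-- the outer automorphism group has order at most 2 -/
def Out2 (T : Type) [Group T] : Prop := ∀ α β : MulAut T, Inr α ∨ Inr β ∨ Inr (β * α⁻¹)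

theorem two_of_row (h : Row2 T c) (hc : 2 ≤ c) (hi : Out2 T) : Two2 T c := by
  intro Δ₁ Δ₂ Δ₃ _ _ _ h1 h2 h3
  obtain ⟨α, a₁, a₂, h4⟩ := h Δ₁ Δ₂ h1 h2
  obtain ⟨β, b₁, a₃, h5⟩ := h Δ₁ Δ₃ h1 h3
  rcases hi α β with h6 | h6 | h6
  · exact .inl (same_of_inr h6 h4)
  · exact .inr (.inl (same_of_inr h6 h5))
  · obtain ⟨g, hg⟩ := trans h1 hc b₁ a₁
    refine .inr (.inr (same_of_inr h6 (a₁ := a₂) (a₂ := β g • a₃) fun s => ?_))
    have h7 := h4 (α⁻¹ s)
    rw [MulAut.apply_inv_self] at h7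
    have h8 := h5 (g⁻¹ * α⁻¹ s * g⁻¹⁻¹)
    rw [conj_smul, map_mul, map_mul, map_inv β g⁻¹, conj_smul, map_inv, inv_inv, inv_inv, hg] at h8
    rw [← h7, h8]
    rfl

theorem Inr.of_equiv (f : T ≃* T') {α : MulAut T} (h : Inr ((f.symm.trans α).trans f : MulAut T')) : Inr α := by
  obtain ⟨u, hu⟩ := h
  refine ⟨f.symm u, MulEquiv.ext fun t => f.injective ?_⟩
  have h2 := DFunLike.congr_fun hu (f t)
  simp only [MulEquiv.trans_apply, MulEquiv.symm_apply_apply, MulAut.conj_apply] at h2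
  rw [h2, MulAut.conj_apply, map_mul, map_mul, map_inv, MulEquiv.apply_symm_apply]

theorem Out2.of_equiv (f : T ≃* T') (h : Out2 T') : Out2 T := by
  intro α β
  rcases h ((f.symm.trans α).trans f) ((f.symm.trans β).trans f) with h1 | h1 | h1
  · exact .inl (h1.of_equiv f)
  · exact .inr (.inl (h1.of_equiv f))
  · refine .inr (.inr (Inr.of_equiv f ?_))
    have h2 : ((f.symm.trans (β * α⁻¹)).trans f : MulAut T') =
        (show MulAut T' from (f.symm.trans β).trans f) * (show MulAut T' from (f.symm.trans α).trans f)⁻¹ := by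
      refine MulEquiv.ext fun t => ?_
      show f (β (α.symm (f.symm t))) = f (β (f.symm (f (α.symm (f.symm t)))))
      rw [f.symm_apply_apply]
    rw [h2]
    exact h1

theorem Out2.of_card (h : Nat.card (Cfsg.Out T) = 2) : Out2 T := by
  have h0 : (Cfsg.Inn T).index = 2 := h
  have h1 : ∀ α : MulAut T, α ∈ Cfsg.Inn T → Inr α := fun α ⟨u, hu⟩ => ⟨u, hu.symm⟩
  intro α β
  by_cases ha : α ∈ Cfsg.Inn T
  · exact .inl (h1 α ha)
  by_cases hb : β ∈ Cfsg.Inn T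
  · exact .inr (.inl (h1 β hb))
  refine .inr (.inr (h1 _ ?_))
  rw [mul_mem_iff_of_index_two h0, inv_mem_iff]
  exact iff_of_false hb ha

/-- the subgroups of index `n` are conjugate -/
def CjAt (T : Type) [Group T] (n : ℕ) : Prop :=
  ∀ A B : Subgroup T, A.index = n → B.index = n → ∃ g : T, ∀ t : T, t ∈ A ↔ g * t * g⁻¹ ∈ B

theorem CjAt.of_equiv (f : T ≃* T') (h : CjAt T' c) : CjAt T c := by
  intro A B hA hB
  obtain ⟨g, hg⟩ := h (A.comap f.symm.toMonoidHom) (B.comap f.symm.toMonoidHom)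
    ((A.index_comap_of_surjective f.symm.surjective).trans hA) ((B.index_comap_of_surjective f.symm.surjective).trans hB)
  refine ⟨f.symm g, fun t => ?_⟩
  have h1 : f.symm (f t) ∈ A ↔ f.symm (g * f t * g⁻¹) ∈ B := hg (f t)
  rwa [map_mul, map_mul, map_inv, f.symm_apply_apply] at h1

theorem one_of_cjAt (h : CjAt T c) (hc : 2 ≤ c) : One2 T c := by
  intro Δ₁ Δ₂ _ _ h1 h2
  have := nontriv h1 hc
  have := nontriv h2 hc
  obtain ⟨a₁⟩ : Nonempty Δ₁ := inferInstance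
  obtain ⟨a₂⟩ : Nonempty Δ₂ := inferInstance
  obtain ⟨g, hg⟩ := h _ _ (index h1 hc a₁) (index h2 hc a₂)
  exact ⟨a₁, g⁻¹ • a₂, fun t => (hg t).trans (conj_smul g t a₂)⟩

end Cfsg.Agent.SM.Alt.Mat
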