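import Cfsg.Agent.H387.TwoSpGeo
import Cfsg.Agent.S0765

/-!
# SM, the 2-transitive actions of `Sp_2m(2)`: counting (helper23)

`Dv a v` : the transvection with centre `v ≠ 0` fixes the point `a`. `count` : of the three transvections of a hyperbolic
line one fixes a given point, and the number of the transvections which fix a point.
-/

set_option autoImplicit false
set_option linter.unusedSectionVars false

namespace Cfsg.Agent.SM.Alt.Sp

open Cfsg Cfsg.Agent.ClassicalGeometry.SympBasic Cfsg.Agent.ClassicalGeometry.SympSiegel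
  Cfsg.Agent.ClassicalGeometry.SympAutExists Cfsg.Agent.H387.TwoSpGeo Cfsg.Agent.H387.TwoSpA

theorem arith {y s c μ d ρ φ ψ : ℤ} (hy : 2 ≤ y) (hs : s = 1 ∨ s = -1) (hc : c = 8 * y ^ 2 + 2 * y * s) (hμ : 1 ≤ μ)
    (hd : 0 ≤ d) (hψ : 0 ≤ ψ) (hψρ : ψ ≤ ρ) (e1 : 16 * y ^ 2 = d + 1 + (c - 1) * μ) (e2 : c * d = (16 * y ^ 2 - 1) * ρ)
    (e3 : ρ * d = φ * (8 * y ^ 2) + ψ * (8 * y ^ 2) + ρ - 2 * ψ) :
    (d = 16 * y ^ 2 - c ∧ 3 * ρ - 2 * φ = c) ∨ (ψ = 0 ∧ 4 ≤ d) := by
  have h0 : 0 < 16 * y ^ 2 - 1 := by nlinarith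
  have h1 : 0 < y ^ 2 := by positivity
  have h2 : μ = 1 ∨ μ = 2 := by
    have h3 : μ < 3 := by
      by_contra h
      have h4 : 0 ≤ (c - 1) * (μ - 3) := mul_nonneg (by rcases hs with rfl | rfl <;> nlinarith) (by omega)
      rcases hs with rfl | rfl <;> nlinarith
    omega
  rcases h2 with rfl | rfl
  · have h3 : d = 16 * y ^ 2 - c := by linarith
    have h4 : ρ = 4 * y ^ 2 := by
      refine mul_left_cancel₀ h0.ne' ?_
      rw [← e2, h3, hc]
      rcases hs with rfl | rfl <;> ring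
    obtain ⟨K, hK⟩ : ∃ K, K = φ + ψ - 4 * y ^ 2 + y * s := ⟨_, rfl⟩
    have h5 : ψ = 2 * y ^ 2 * (2 * K + 1) := by
      rw [h3, h4, hc] at e3
      rw [hK]
      linarith
    have h6 : K = 0 := by
      have h7 : 0 ≤ K := by
        by_contra h
        have : 0 ≤ y ^ 2 * (-K - 1) := mul_nonneg h1.le (by omega)
        nlinarith
      have h8 : K ≤ 0 := by
        by_contra h
        have : 0 ≤ y ^ 2 * (K - 1) := mul_nonneg h1.le (by omega)
        nlinarith
      omega
    refine .inl ⟨h3, ?_⟩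
    rw [h6] at h5 hK
    rw [h4, hc]
    linarith
  · rcases hs with rfl | rfl
    · exfalso
      nlinarith
    · have h3 : d = 4 * y + 1 := by linarith
      have h4 : ρ = 2 * y := by
        refine mul_left_cancel₀ h0.ne' ?_
        rw [← e2, h3, hc]
        ring
      obtain ⟨K, hK⟩ : ∃ K, K = φ + ψ - 1 := ⟨_, rfl⟩
      have h5 : ψ = 4 * y ^ 2 * K := by
        rw [h3, h4] at e3
        rw [hK]
        linarith
      have h6 : K = 0 := by
        have h7 : 0 ≤ K := by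
          by_contra h
          have : 0 ≤ y ^ 2 * (-K - 1) := mul_nonneg h1.le (by omega)
          nlinarith
        have h8 : K ≤ 0 := by
          by_contra h
          have : 0 ≤ y ^ 2 * (K - 1) := mul_nonneg h1.le (by omega)
          nlinarith
        omega
      exact .inr ⟨by rw [h5, h6, mul_zero], by omega⟩

variable {F : Type} [Field F] [Fintype F] {m : ℕ}

local notation "V" => (Fin m ⊕ Fin m → F)
local notation "S" => Matrix.symplecticGroup (Fin m) F
local notation "f" => sympForm m F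

section Two

variable (hF : Fintype.card F = 2)
include hF

theorem zero_or_one (x : F) : x = 0 ∨ x = 1 := by
  classical
  by_contra h
  push Not at h
  have h1 : ({0, 1, x} : Finset F).card = 3 :=
    Finset.card_eq_three.2 ⟨0, 1, x, zero_ne_one, h.1.symm, h.2.symm, rfl⟩
  have h2 := Finset.card_le_univ ({0, 1, x} : Finset F)
  omega

theorem one_of_ne {x : F} (h : x ≠ 0) : x = 1 := (zero_or_one hF x).resolve_left h

theorem two_eq : (2 : F) = 0 := by
  have h := FiniteField.cast_card_eq_zero F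
  rw [hF] at h
  exact_mod_cast h

theorem add_self (x : F) : x + x = 0 := by rw [← two_mul, two_eq hF, zero_mul]

theorem vadd_self (v : V) : v + v = 0 := funext fun i => add_self hF (v i)

theorem form_comm (u v : V) : f u v = f v u := by
  rw [sympForm_swap, neg_eq_iff_add_eq_zero, add_self hF]

theorem not_smul {v w : V} (h0 : w ≠ 0) (h1 : w ≠ v) (a : F) : w ≠ a • v := by
  rcases zero_or_one hF a with rfl | rfl
  · rwa [zero_smul]
  · rwa [one_smul]

end Two

/-- the transvection with centre `v` -/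
def tv (v : V) : S := transv v 1

theorem tv_smul (v x : V) : tv v • x = x + f x v • v := by rw [tv, transv_smul, one_mul]

theorem tv_conj (g : S) (v : V) : g * tv v * g⁻¹ = tv (g • v) := conj_transv g v 1

theorem tv_zero : tv (0 : V) = 1 := ext_smul fun x => by rw [tv_smul, smul_zero, add_zero, one_smul]

theorem tv_tv (hF : Fintype.card F = 2) (v : V) : tv v * tv v = 1 := by
  rw [tv, transv_mul, add_self hF, transv_zero]

/-- the basis vectors of a totally isotropic subspace -/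
def eb (i : Fin m) : V := Pi.single (Sum.inl i) 1

theorem eb_apply (i j : Fin m) : (eb i : V) (Sum.inl j) = if j = i then 1 else 0 := by
  simp only [eb, Pi.single_apply, Sum.inl.injEq]

theorem form_eb (i j : Fin m) : f (eb i) (eb j) = 0 := by
  rw [eb, sympForm_single_inl_left, eb, Pi.single_eq_of_ne Sum.inr_ne_inl, neg_zero]

theorem eb_ne_zero (i : Fin m) : (eb i : V) ≠ 0 := fun h => by
  have h1 := congrFun h (Sum.inl i)
  rw [eb_apply, if_pos rfl] at h1
  exact one_ne_zero h1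

theorem eb_ne {i j : Fin m} (h : i ≠ j) : (eb i : V) ≠ eb j := fun h1 => by
  have h2 := congrFun h1 (Sum.inl i)
  rw [eb_apply, eb_apply, if_pos rfl, if_neg h] at h2
  exact one_ne_zero h2

variable {Δ : Type} [MulAction (Matrix.symplecticGroup (Fin m) F) Δ]

/-- the transvection with centre `v` fixes `a` -/
def Dv (a : Δ) (v : V) : Prop := v ≠ 0 ∧ tv v • a = a

theorem tv_smul_iff (g : S) (v : V) (a b : Δ) : tv (g • v) • g • a = g • b ↔ tv v • a = b := by
  rw [← tv_conj, mul_smul, mul_smul, inv_smul_smul, smul_left_cancel_iff]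

theorem Dv_smul (g : S) (a : Δ) (v : V) : Dv (g • a) (g • v) ↔ Dv a v :=
  and_congr (smul_eq_zero_iff' g v).not (tv_smul_iff g v a a)

theorem Dv.add {a : Δ} {u v : V} (hu : Dv a u) (hv : Dv a v) (h : f u v = 1) : Dv a (u + v) := by
  have h1 := (Dv_smul (tv v) a u).2 hu
  rwa [hv.2, tv_smul, h, one_smul] at h1

open Classical in
/-- the indicator function of `Dv` -/
noncomputable def χ (a : Δ) (v : V) : ℤ := if Dv a v then 1 else 0

theorem χ_smul (g : S) (a : Δ) (v : V) : χ (g • a) (g • v) = χ a v := by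
  rw [χ, χ, propext (Dv_smul g a v)]

theorem χ_pos {a : Δ} {v : V} (h : Dv a v) : χ a v = 1 := if_pos h

theorem χ_neg {a : Δ} {v : V} (h : ¬ Dv a v) : χ a v = 0 := if_neg h

theorem χ_zero (a : Δ) : χ a (0 : V) = 0 := χ_neg fun h => h.1 rfl

theorem χ_nonneg (a : Δ) (v : V) : 0 ≤ χ a v := by
  by_cases h : Dv a v
  · rw [χ_pos h]; exact zero_le_one
  · rw [χ_neg h]

theorem χ_le_one (a : Δ) (v : V) : χ a v ≤ 1 := by
  by_cases h : Dv a v
  · rw [χ_pos h]
  · rw [χ_neg h]; exact zero_le_one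

theorem χ_sq (a : Δ) (v : V) : χ a v * χ a v = χ a v := by
  by_cases h : Dv a v
  · rw [χ_pos h, mul_one]
  · rw [χ_neg h, mul_zero]

theorem exists_move (hF : Fintype.card F = 2) {a : Δ} {g : S} (h : g • a ≠ a) : ∃ v : V, tv v • a ≠ a := by
  by_contra h1
  push Not at h1
  refine h (show g ∈ MulAction.stabilizer S a from (Subgroup.closure_le _).2 ?_ ((S0765.result (F := F) m).ge trivial))
  rintro A ⟨w, c, hA⟩
  obtain rfl : A = transv w c := Subtype.ext hA
  rcases zero_or_one hF c with rfl | rfl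
  · rw [transv_zero]
    exact one_mem _
  · exact h1 w

/-- the action is 2-transitive -/
def Two (F : Type) [Field F] (m : ℕ) (Δ : Type) [MulAction (Matrix.symplecticGroup (Fin m) F) Δ] : Prop :=
  ∀ a b x y : Δ, a ≠ b → x ≠ y → ∃ g : Matrix.symplecticGroup (Fin m) F, g • a = x ∧ g • b = y

theorem Two.one [Nontrivial Δ] (h : Two F m Δ) (a x : Δ) : ∃ g : S, g • a = x :=
  let ⟨b, hb⟩ := exists_ne a
  let ⟨y, hy⟩ := exists_ne x
  let ⟨g, hg, _⟩ := h a b x y hb.symm hy.symm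
  ⟨g, hg⟩

theorem Two.exists_tv (hF : Fintype.card F = 2) (h : Two F m Δ) {a b : Δ} (hab : a ≠ b) : ∃ v : V, tv v • a = b := by
  obtain ⟨g, hg, -⟩ := h a b b a hab hab.symm
  obtain ⟨v, hv⟩ := exists_move hF (show g • a ≠ a from hg ▸ hab.symm)
  obtain ⟨k, h1, h2⟩ := h a _ a b hv.symm hab
  refine ⟨k • v, ?_⟩
  rw [← h2, ← (tv_smul_iff k v a _).2 rfl, h1]

theorem sum_perp (hF : Fintype.card F = 2) {y : ℤ} (hy : (2 : ℤ) ^ (2 * m) = 16 * y ^ 2) {u : V} (hu : u ≠ 0)
    [DecidableEq F] : ∑ v : V, (if f u v = 0 then (1 : ℤ) else 0) = 8 * y ^ 2 := by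
  have h1 := card_perp_mul hu
  rw [hF, Nat.card_eq_fintype_card, Fintype.card_subtype] at h1
  have h2 : (((Finset.univ.filter fun x : V => f u x = 0).card : ℤ)) * 2 = 2 ^ (2 * m) := by exact_mod_cast h1
  rw [Finset.sum_boole]
  linarith

/-- **the counting argument** -/
theorem count [Fintype Δ] (hF : Fintype.card F = 2) (hm : 2 ≤ m) {y s : ℤ} (hy : 2 ≤ y)
    (hn : (2 : ℤ) ^ (2 * m) = 16 * y ^ 2) (hs : s = 1 ∨ s = -1) (hc : (Fintype.card Δ : ℤ) = 8 * y ^ 2 + 2 * y * s)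
    (h2 : Two F m Δ) (a : Δ) : ∑ v : V, χ a v = 16 * y ^ 2 - Fintype.card Δ ∧
      ∀ u v : V, f u v = 1 → Dv a u ∨ Dv a v ∨ Dv a (u + v) := by
  classical
  have hV : (Fintype.card V : ℤ) = 16 * y ^ 2 := by
    rw [← Nat.card_eq_fintype_card, card_V, hF, ← hn]
    push_cast
    rfl
  have : Nontrivial Δ := Fintype.one_lt_card_iff_nontrivial.1 (by
    have : (1 : ℤ) < Fintype.card Δ := by rcases hs with rfl | rfl <;> nlinarith
    exact_mod_cast this)
  obtain ⟨b₀, hb₀⟩ := exists_ne a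
  obtain ⟨u₀, w₀, hu₀, hw₀, hne, huw⟩ : ∃ u₀ w₀ : V, u₀ ≠ 0 ∧ w₀ ≠ 0 ∧ w₀ ≠ u₀ ∧ f u₀ w₀ = 0 :=
    ⟨eb ⟨0, by omega⟩, eb ⟨1, by omega⟩, eb_ne_zero _, eb_ne_zero _, eb_ne (by simp), form_eb _ _⟩
  obtain ⟨v₀, hv₀⟩ := exists_form_eq_one hu₀
  obtain ⟨d, hd⟩ : ∃ d, d = ∑ v : V, χ a v := ⟨_, rfl⟩
  obtain ⟨ρ, hρ⟩ : ∃ ρ, ρ = ∑ x : Δ, χ x u₀ := ⟨_, rfl⟩
  obtain ⟨φ, hφ⟩ : ∃ φ, φ = ∑ x : Δ, χ x u₀ * χ x v₀ := ⟨_, rfl⟩
  obtain ⟨ψ, hψ⟩ : ∃ ψ, ψ = ∑ x : Δ, χ x u₀ * χ x w₀ := ⟨_, rfl⟩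
  obtain ⟨μ, hμ⟩ : ∃ μ, μ = ∑ v : V, if tv v • a = b₀ then (1 : ℤ) else 0 := ⟨_, rfl⟩
  have d1 : ∀ x : Δ, ∑ v : V, χ x v = d := fun x => by
    obtain ⟨g, rfl⟩ := h2.one a x
    rw [hd, ← sum_comm_smul g fun v : V => χ (g • a) v]
    exact Finset.sum_congr rfl fun v _ => χ_smul g a v
  have r1 : ∀ u : V, u ≠ 0 → ∑ x : Δ, χ x u = ρ := fun u hu => by
    obtain ⟨g, rfl⟩ := exists_smul_eq' hu₀ hu
    rw [hρ, ← sum_comm_smul g fun x : Δ => χ x (g • u₀)]
    exact Finset.sum_congr rfl fun x _ => χ_smul g x u₀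
  have p0 : ∀ (g : S) (u v : V), ∑ x : Δ, χ x (g • u) * χ x (g • v) = ∑ x : Δ, χ x u * χ x v := fun g u v => by
    rw [← sum_comm_smul g fun x : Δ => χ x (g • u) * χ x (g • v)]
    exact Finset.sum_congr rfl fun x _ => by rw [χ_smul, χ_smul]
  have p1 : ∀ u v : V, f u v = 1 → ∑ x : Δ, χ x u * χ x v = φ := fun u v h => by
    obtain ⟨g, -, h3, h4⟩ := exists_transvGroup_hyperbolic hv₀ h
    rw [hφ, ← p0 g u₀ v₀, show g • u₀ = u from h3, show g • v₀ = v from h4]
  have p2 : ∀ u v : V, u ≠ 0 → v ≠ 0 → v ≠ u → f u v = 0 → ∑ x : Δ, χ x u * χ x v = ψ := fun u v h3 h4 h5 h6 => by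
    obtain ⟨g, rfl, rfl⟩ := exists_perp hu₀ h3 (not_smul hF hw₀ hne) (not_smul hF h4 h5) huw h6
    rw [hψ, p0]
  have m1 : ∀ b, b ≠ a → ∑ v : V, (if tv v • a = b then (1 : ℤ) else 0) = μ := fun b hb => by
    obtain ⟨g, h3, rfl⟩ := h2 a b₀ a b hb₀.symm hb.symm
    rw [hμ, ← sum_comm_smul g fun v : V => if tv v • a = g • b₀ then (1 : ℤ) else 0]
    refine Finset.sum_congr rfl fun v _ => if_congr ?_ rfl rfl
    rw [← tv_smul_iff g v a b₀, h3]
  have m2 : ∑ v : V, (if tv v • a = a then (1 : ℤ) else 0) = d + 1 := by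
    have h3 : ∀ v : V, (if tv v • a = a then (1 : ℤ) else 0) = χ a v + if v = 0 then 1 else 0 := fun v => by
      by_cases hv : v = 0
      · rw [hv, tv_zero, one_smul, χ_zero, if_pos rfl, if_pos rfl, zero_add]
      · rw [if_neg hv, add_zero, χ]
        exact if_congr (and_iff_right hv).symm rfl rfl
    rw [Finset.sum_congr rfl fun v _ => h3 v, Finset.sum_add_distrib, ← hd, Finset.sum_ite_eq', if_pos (Finset.mem_univ _)]
  have e1 : 16 * y ^ 2 = d + 1 + (Fintype.card Δ - 1) * μ := by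
    have h3 : ∀ b : Δ, ∑ v : V, (if tv v • a = b then (1 : ℤ) else 0) = μ + if b = a then d + 1 - μ else 0 := fun b => by
      by_cases hb : b = a
      · rw [hb, m2, if_pos rfl]; ring
      · rw [m1 b hb, if_neg hb, add_zero]
    have h4 : ∑ b : Δ, ∑ v : V, (if tv v • a = b then (1 : ℤ) else 0) = 16 * y ^ 2 := by
      rw [Finset.sum_comm, Finset.sum_congr rfl fun v _ => Finset.sum_ite_eq Finset.univ (tv v • a) fun _ => (1 : ℤ)]
      simp only [Finset.mem_univ, if_true, Finset.sum_const, Finset.card_univ, nsmul_eq_mul, mul_one, hV]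
    rw [Finset.sum_congr rfl fun b _ => h3 b, Finset.sum_add_distrib, Finset.sum_ite_eq', if_pos (Finset.mem_univ _),
      Finset.sum_const, Finset.card_univ, nsmul_eq_mul] at h4
    linarith
  have e2 : Fintype.card Δ * d = (16 * y ^ 2 - 1) * ρ := by
    have h3 : ∀ v : V, ∑ x : Δ, χ x v = ρ - if v = 0 then ρ else 0 := fun v => by
      by_cases hv : v = 0
      · rw [if_pos hv, hv, sub_self]
        exact Finset.sum_eq_zero fun x _ => χ_zero x
      · rw [if_neg hv, sub_zero, r1 v hv]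
    have h4 : ∑ x : Δ, ∑ v : V, χ x v = ∑ v : V, ∑ x : Δ, χ x v := Finset.sum_comm
    rw [Finset.sum_congr rfl fun x _ => d1 x, Finset.sum_congr rfl fun v _ => h3 v, Finset.sum_sub_distrib,
      Finset.sum_ite_eq', if_pos (Finset.mem_univ _), Finset.sum_const, Finset.sum_const, Finset.card_univ,
      Finset.card_univ, nsmul_eq_mul, nsmul_eq_mul, hV] at h4
    linarith
  have e3 : ρ * d = φ * (8 * y ^ 2) + ψ * (8 * y ^ 2) + ρ - 2 * ψ := by
    have h3 : ∀ v : V, ∑ x : Δ, χ x u₀ * χ x v = φ + (ψ - φ) * (if f u₀ v = 0 then 1 else 0) +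
        (if v = u₀ then ρ - ψ else 0) - if v = 0 then ψ else 0 := fun v => by
      by_cases h0 : v = 0
      · rw [h0, sympForm_zero_right, if_pos rfl, if_neg hu₀.symm, if_pos rfl,
          Finset.sum_eq_zero fun x _ => by rw [χ_zero, mul_zero]]
        ring
      by_cases h1 : v = u₀
      · rw [h1, sympForm_self, if_pos rfl, if_pos rfl, if_neg hu₀, Finset.sum_congr rfl fun x _ => χ_sq x u₀, ← hρ]
        ring
      by_cases h4 : f u₀ v = 0
      · rw [if_pos h4, if_neg h1, if_neg h0, p2 u₀ v hu₀ h0 h1 h4]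
        ring
      · rw [if_neg h4, if_neg h1, if_neg h0, p1 u₀ v (one_of_ne hF h4)]
        ring
    have h4 : ∑ x : Δ, ∑ v : V, χ x u₀ * χ x v = ∑ v : V, ∑ x : Δ, χ x u₀ * χ x v := Finset.sum_comm
    rw [Finset.sum_congr rfl fun x _ => (Finset.mul_sum _ _ _).symm.trans (congrArg _ (d1 x)), ← Finset.sum_mul, ← hρ,
      Finset.sum_congr rfl fun v _ => h3 v, Finset.sum_sub_distrib, Finset.sum_add_distrib, Finset.sum_add_distrib,
      ← Finset.mul_sum, sum_perp hF hn hu₀, Finset.sum_ite_eq', Finset.sum_ite_eq', if_pos (Finset.mem_univ _),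
      if_pos (Finset.mem_univ _), Finset.sum_const, Finset.card_univ, nsmul_eq_mul, hV] at h4
    linarith
  have n1 : 1 ≤ μ := by
    obtain ⟨v, hv⟩ := h2.exists_tv hF hb₀.symm
    have h0 : ∀ w ∈ (Finset.univ : Finset V), 0 ≤ if tv w • a = b₀ then (1 : ℤ) else 0 := fun w _ => by
      split_ifs <;> omega
    have h3 := Finset.single_le_sum h0 (Finset.mem_univ v)
    rwa [if_pos hv, ← hμ] at h3
  rcases arith hy hs hc n1 (hd ▸ Finset.sum_nonneg fun v _ => χ_nonneg a v)
    (hψ ▸ Finset.sum_nonneg fun x _ => mul_nonneg (χ_nonneg x _) (χ_nonneg x _))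
    (hψ ▸ hρ ▸ Finset.sum_le_sum fun x _ => mul_le_of_le_one_right (χ_nonneg x _) (χ_le_one x _)) e1 e2 e3 with
    ⟨h3, h4⟩ | ⟨h3, h4⟩
  · refine ⟨hd ▸ h3, fun u v h => ?_⟩
    have h5 : f u v ≠ 0 := h ▸ one_ne_zero
    have h6 : f u (u + v) = 1 := by rw [sympForm_add_right, sympForm_self, zero_add, h]
    have h7 : f (u + v) v = 1 := by rw [sympForm_add_left, sympForm_self, add_zero, h]
    have h8 : ∀ x : Δ, χ x u + χ x v + χ x (u + v) - 2 * (χ x u * χ x v) ≤ 1 := fun x => by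
      by_cases a1 : Dv x u <;> by_cases a2 : Dv x v
      · rw [χ_pos a1, χ_pos a2, χ_pos (a1.add a2 h)]; omega
      · rw [χ_pos a1, χ_neg a2, χ_neg fun a3 => a2 (by
          have := a1.add a3 h6
          rwa [← add_assoc, vadd_self hF, zero_add] at this)]
        omega
      · rw [χ_neg a1, χ_pos a2, χ_neg fun a3 => a1 (by
          have := a3.add a2 h7
          rwa [add_assoc, vadd_self hF, add_zero] at this)]
        omega
      · rw [χ_neg a1, χ_neg a2]
        have := χ_le_one x (u + v)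
        omega
    have h9 := (Finset.sum_eq_sum_iff_of_le (s := Finset.univ) fun x _ => h8 x).1 (by
      rw [Finset.sum_sub_distrib, Finset.sum_add_distrib, Finset.sum_add_distrib, ← Finset.mul_sum, p1 u v h,
        r1 u (ne_zero_of_form_left h5), r1 v (ne_zero_of_form_right h5),
        r1 (u + v) (ne_zero_of_form_left (h7 ▸ one_ne_zero)), Finset.sum_const, Finset.card_univ, nsmul_eq_mul]
      linarith) a (Finset.mem_univ a)
    by_contra h10
    push Not at h10
    rw [χ_neg h10.1, χ_neg h10.2.1, χ_neg h10.2.2] at h9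
    omega
  · exfalso
    have h5 : ∀ u v : V, Dv a u → Dv a v → v ≠ u → f u v = 1 := fun u v hu hv h => one_of_ne hF fun h0 => by
      have h6 : χ a u * χ a v ≤ ∑ x : Δ, χ x u * χ x v :=
        Finset.single_le_sum (fun x _ => mul_nonneg (χ_nonneg x u) (χ_nonneg x v)) (Finset.mem_univ a)
      rw [p2 u v hu.1 hv.1 h h0, χ_pos hu, χ_pos hv] at h6
      omega
    have h6 : 4 ≤ (Finset.univ.filter fun v : V => Dv a v).card := by
      have h7 : ((Finset.univ.filter fun v : V => Dv a v).card : ℤ) = d := by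
        rw [hd, ← Finset.sum_boole]
        exact Finset.sum_congr rfl fun v _ => by rw [χ]
      omega
    obtain ⟨u, hu, v, hv, huv⟩ := Finset.one_lt_card.1 (show 1 < _ from lt_of_lt_of_le (by decide) h6)
    obtain ⟨w, hw, h7⟩ := Finset.exists_mem_notMem_of_card_lt_card
      (lt_of_le_of_lt (Finset.card_le_three (a := u) (b := v) (c := u + v)) h6)
    simp only [Finset.mem_filter, Finset.mem_univ, true_and, Finset.mem_insert, Finset.mem_singleton, not_or] at hu hv hw h7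
    have h8 := h5 _ w (hu.add hv (h5 u v hu hv huv.symm)) hw h7.2.2
    rw [sympForm_add_left, h5 u w hu hw h7.1, h5 v w hv hw h7.2.1, add_self hF] at h8
    exact zero_ne_one h8

end Cfsg.Agent.SM.Alt.Sp
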