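import Cfsg.Agent.SM.Alt.Defs
import Cfsg.Agent.S0000
import Cfsg.Agent.H384.TwoTransMain
import Cfsg.Agent.H354.FourTab
import Cfsg.Agent.H321.Orders
import Cfsg.Agent.H392.MultTrans

/-!
# SM (S3570), alternating socle: tools on 2-transitive actions and the case list `Cs` (helper42)
-/

set_option autoImplicit false
set_option linter.unusedVariables false

namespace Cfsg.Agent.SM.Alt

open Cfsg Equiv Subgroup MulAction Cfsg.Agent.H384.TwoTrans
open scoped Pointwise

section act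

variable {T Δ : Type} [Group T] [MulAction T Δ] {c : ℕ}

theorem Act.mp (h : Act T Δ c) : IsMultiplyPretransitive T Δ 2 := by
  rw [is_two_pretransitive_iff]
  intro a b x y h1 h2
  exact h.two a b x y h1 h2

theorem Act.faithful (h : Act T Δ c) : FaithfulSMul T Δ := ⟨fun {g k} e => by
  have h1 : k⁻¹ * g = 1 := h.faith _ fun x => by rw [mul_smul, e x, inv_smul_smul]
  exact (inv_mul_eq_one.1 h1).symm⟩

theorem Act.finite (h : Act T Δ c) : Finite T := by
  have := h.fin
  have := h.faithful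
  exact Finite.of_injective (toPerm : T → Perm Δ) toPerm_injective

theorem Act.nontrivial (h : Act T Δ c) (hc : 2 ≤ c) : Nontrivial Δ := by
  have := h.fin
  exact Finite.one_lt_card_iff_nontrivial.1 (by rw [h.card]; omega)

theorem Act.tr (h : Act T Δ c) (hc : 2 ≤ c) (a b : Δ) : ∃ t : T, t • a = b := by
  have := h.nontrivial hc
  obtain ⟨x, hx⟩ := exists_ne a
  obtain ⟨y, hy⟩ := exists_ne b
  obtain ⟨t, ht, -⟩ := h.two a x b y hx.symm hy.symm
  exact ⟨t, ht⟩

theorem Act.card_eq (h : Act T Δ c) {a b : Δ} (hab : a ≠ b) :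
    Nat.card T = c * (c - 1) * Nat.card ↥(stabilizer T a ⊓ stabilizer T b) := by
  have := h.fin
  have := h.finite
  let s : Fin 2 ↪ Δ := ⟨![a, b], fun i j e => by
    fin_cases i <;> fin_cases j
    · rfl
    · exact absurd e hab
    · exact absurd e.symm hab
    · rfl⟩
  have h1 := H392.MultTrans.card_eq_descFactorial h.mp s
  have h2 : stabilizer T s = stabilizer T a ⊓ stabilizer T b := by
    ext g
    rw [H392.MultTrans.mem_stab_emb, Fin.forall_fin_two]
    rfl
  rw [h1, h2, h.card, Nat.descFactorial_succ, Nat.descFactorial_succ, Nat.descFactorial_zero, Nat.sub_zero, mul_one,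
    mul_comm (c - 1)]

theorem Act.dvd (h : Act T Δ c) (hc : 2 ≤ c) : c * (c - 1) ∣ Nat.card T := by
  have := h.nontrivial hc
  obtain ⟨a, b, hab⟩ := exists_pair_ne Δ
  exact ⟨_, h.card_eq hab⟩

theorem Act.known2 (h : Act T Δ c) (hs : IsSimpleGroup T) (hn : ¬ IsMulCommutative T) : Known2 T c := by
  have A : H384.TwoTrans.AS T Δ ⊤ :=
    ⟨h.finite, h.fin, h.faithful, h.mp, inferInstance, (topEquiv (G := T)).isSimpleGroup_congr.2 hs,
      fun k => hn ⟨⟨fun a b => congrArg Subtype.val (k.is_comm.comm (⟨a, mem_top a⟩ : (⊤ : Subgroup T)) ⟨b, mem_top b⟩)⟩⟩, by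
        rcases (inferInstance : (center T).Normal).eq_bot_or_eq_top with k | k
        · rw [← k]
          ext g
          rw [mem_centralizer_iff, mem_center_iff]
          exact ⟨fun k1 x => k1 x (mem_top x), fun k1 x _ => k1 x⟩
        · exact absurd ⟨⟨fun a b => (mem_center_iff.1 (k.symm ▸ mem_top b : b ∈ center T) a)⟩⟩ hn⟩
  have k := H384.TwoTransMain.main (fun _ _ _ _ => S0000.result) A
  rw [h.card] at k
  exact k.congr topEquiv

/-- a Sylow subgroup of order `c - 1` fixes exactly one point -/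
theorem Act.sylow_fix (h : Act T Δ c) (hc : 3 ≤ c) {p : ℕ} [hp : Fact p.Prime] (P : Sylow p T)
    (hP : Nat.card (P : Subgroup T) + 1 = c) : ∃ a : Δ, ∀ x : Δ, (∀ t ∈ P, t • x = x) ↔ x = a := by
  have := h.fin
  have := h.finite
  obtain ⟨k, hk⟩ := IsPGroup.iff_card.1 P.isPGroup'
  have hk0 : k ≠ 0 := by
    rintro rfl
    rw [pow_zero] at hk
    omega
  have hpP : p ∣ Nat.card (P : Subgroup T) := hk ▸ dvd_pow_self p hk0
  have hnd : ¬ p ∣ Nat.card Δ := fun k1 => by
    rw [h.card, ← hP] at k1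
    exact hp.out.one_lt.ne' (Nat.dvd_one.1 ((Nat.dvd_add_right hpP).1 k1))
  obtain ⟨a, ha⟩ := P.isPGroup'.nonempty_fixed_point_of_prime_not_dvd_card Δ hnd
  have ha' : ∀ t ∈ P, t • a = a := fun t ht => ha ⟨t, ht⟩
  refine ⟨a, fun x => ⟨fun hx => ?_, fun e => e ▸ ha'⟩⟩
  by_contra hne
  have h1 : (P : Subgroup T) ≤ stabilizer T x ⊓ stabilizer T a := fun t ht => ⟨hx t ht, ha' t ht⟩
  have h2 := h.card_eq hne
  obtain ⟨r, hr⟩ := card_dvd_of_le h1
  have h3 := (P : Subgroup T).card_mul_index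
  have h4 : 0 < Nat.card (P : Subgroup T) := Nat.card_pos
  have h5 : (P : Subgroup T).index = c * (c - 1) * r := by
    apply Nat.eq_of_mul_eq_mul_left h4
    rw [h3, h2, hr]
    ring
  refine P.not_dvd_index ?_
  rw [h5, show c - 1 = Nat.card (P : Subgroup T) by omega]
  exact (hpP.mul_left c).mul_right r

/-- in rank one the stabiliser of a point is the normaliser of a Sylow subgroup -/
theorem Act.stab_sylow (h : Act T Δ c) (hc : 3 ≤ c) {p : ℕ} [hp : Fact p.Prime] (h1 : Nat.card (Sylow p T) ≤ c)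
    (h2 : ∀ P : Sylow p T, Nat.card (P : Subgroup T) + 1 = c) (P : Sylow p T) :
    ∃ a : Δ, (∀ t ∈ P, t • a = a) ∧ ∀ t : T, t • a = a ↔ t • P = P := by
  have := h.fin
  have := h.finite
  choose f hf using fun Q : Sylow p T => h.sylow_fix hc Q (h2 Q)
  have hs : ∀ (g : T) (Q : Sylow p T), f (g • Q) = g • f Q := fun g Q => ((hf (g • Q) (g • f Q)).1 fun t ht => by
    have h3 : g⁻¹ * t * g ∈ (Q : Subgroup T) := by
      have h4 : t ∈ MulAut.conj g • (Q : Subgroup T) := ht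
      rw [mem_pointwise_smul_iff_inv_smul_mem] at h4
      simpa using h4
    have h5 := (hf Q (f Q)).2 rfl _ h3
    rw [mul_smul, mul_smul, inv_smul_eq_iff] at h5
    exact h5).symm
  have hsur : Function.Surjective f := fun x => by
    obtain ⟨g, hg⟩ := h.tr (by omega) (f P) x
    exact ⟨g • P, by rw [hs, hg]⟩
  have hinj : Function.Injective f := (hsur.bijective_of_nat_card_le (by rw [h.card]; exact h1)).1
  exact ⟨f P, (hf P (f P)).2 rfl, fun t => ⟨fun e => hinj (by rw [hs, e]), fun e => by rw [← hs, e]⟩⟩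

theorem one2_of_rk1 (hc : 3 ≤ c) (h : Rk1 T c) : One2 T c := fun Δ₁ Δ₂ _ _ a₁ a₂ => by
  obtain ⟨p, hp, h1, h2⟩ := h
  obtain ⟨P⟩ : Nonempty (Sylow p T) := inferInstance
  obtain ⟨x, -, hx⟩ := a₁.stab_sylow hc h1 h2 P
  obtain ⟨y, -, hy⟩ := a₂.stab_sylow hc h1 h2 P
  exact ⟨x, y, fun t => (hx t).trans (hy t).symm⟩

/-- the solutions of `t ^ p = 1` which fix `a` and `b` -/
def Wp (T : Type) {Δ : Type} [Group T] [MulAction T Δ] (p : ℕ) (a b : Δ) : Set T := {t | t ^ p = 1 ∧ t • a = a ∧ t • b = b}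

theorem Wp.conj {p : ℕ} {a b : Δ} {t : T} (s : T) (ht : t ∈ Wp T p a b) : s * t * s⁻¹ ∈ Wp T p (s • a) (s • b) :=
  ⟨by rw [conj_pow, ht.1, mul_one, mul_inv_cancel], by rw [mul_smul, inv_smul_smul, mul_smul, ht.2.1],
    by rw [mul_smul, inv_smul_smul, mul_smul, ht.2.2]⟩

theorem Wp.conj' {p : ℕ} {a b : Δ} {t : T} (s : T) (ht : t ∈ Wp T p (s • a) (s • b)) : s⁻¹ * t * s ∈ Wp T p a b := by
  have := Wp.conj s⁻¹ ht
  rwa [inv_smul_smul, inv_smul_smul, inv_inv] at this

theorem Act.wp_eq (h : Act T Δ c) {p : ℕ} {a b x y : Δ} (hab : a ≠ b) (hxy : x ≠ y) (hs : Wp T p a b ⊆ Wp T p x y) :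
    Wp T p a b = Wp T p x y := by
  have := h.finite
  obtain ⟨s, rfl, rfl⟩ := h.two a b x y hab hxy
  refine Set.eq_of_subset_of_ncard_le hs (Set.ncard_le_ncard_of_injOn (fun t => s⁻¹ * t * s) (fun t ht => Wp.conj' s ht)
    fun t _ u _ e => ?_)
  exact mul_left_cancel (mul_right_cancel e)

/-- the lines through all pairs of points -/
theorem Act.lin_all (h : Act T Δ c) (l : Lin T Δ) : ∃ p : ℕ, ∀ a b : Δ, a ≠ b →
    (∃ x, x ≠ a ∧ x ≠ b ∧ ∀ t ∈ Wp T p a b, t • x = x) ∧ ∃ y : Δ, ∃ t ∈ Wp T p a b, t • y ≠ y := by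
  obtain ⟨p, a, b, x, hab, hxa, hxb, h1, t, ht, h2, h3, h4⟩ := l
  refine ⟨p, fun a' b' hab' => ?_⟩
  obtain ⟨s, rfl, rfl⟩ := h.two a b a' b' hab hab'
  refine ⟨⟨s • x, fun e => hxa (smul_left_cancel s e), fun e => hxb (smul_left_cancel s e), fun u hu => ?_⟩, ?_⟩
  · have h5 := Wp.conj' s hu
    have h6 := h1 _ h5.1 h5.2.1 h5.2.2
    rwa [mul_smul, mul_smul, inv_smul_eq_iff] at h6
  · by_contra hcon
    push Not at hcon
    refine ht (h.faith t fun y => ?_)
    have h5 := hcon (s • y) _ (Wp.conj s (⟨h2, h3, h4⟩ : t ∈ Wp T p a b))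
    rw [mul_smul, inv_smul_smul, mul_smul] at h5
    exact smul_left_cancel s h5

theorem cover3 {α : Type} {u v w a b y : α} (h1 : u ≠ v) (h2 : u ≠ w) (h3 : v ≠ w) (hu : u ∈ ({a, b, y} : Set α))
    (hv : v ∈ ({a, b, y} : Set α)) (hw : w ∈ ({a, b, y} : Set α)) {P : α → Prop} (pu : P u) (pv : P v) (pw : P w) :
    P a ∧ P b ∧ P y := by
  simp only [Set.mem_insert_iff, Set.mem_singleton_iff] at hu hv hw
  rcases hu with rfl | rfl | rfl <;> rcases hv with rfl | rfl | rfl <;> rcases hw with rfl | rfl | rfl <;>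
    first | exact absurd rfl h1 | exact absurd rfl h2 | exact absurd rfl h3 | exact ⟨by assumption, by assumption, by assumption⟩

theorem Act.not_hom3 (h : Act T Δ c) (l : Lin T Δ) (hc : 2 ≤ c) : ¬ Hom3 T Δ := fun h3 => by
  obtain ⟨p, hp⟩ := h.lin_all l
  have := h.nontrivial hc
  obtain ⟨a, b, hab⟩ := exists_pair_ne Δ
  obtain ⟨⟨x, hxa, hxb, hx⟩, y, t, ht, hy⟩ := hp a b hab
  have hya : a ≠ y := fun e => hy (e ▸ ht.2.1)
  have hyb : b ≠ y := fun e => hy (e ▸ ht.2.2)
  obtain ⟨s, s1, s2, s3⟩ := h3 a b x a b y hab hxa.symm hxb.symm hab hya hyb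
  have k : ∀ u ∈ Wp T p (s • a) (s • b), u • a = a ∧ u • b = b ∧ u • y = y := fun u hu =>
    cover3 (fun e => hab (smul_left_cancel s e)) (fun e => hxa (smul_left_cancel s e).symm)
      (fun e => hxb (smul_left_cancel s e).symm) s1 s2 s3 (P := fun z => u • z = z) hu.2.1 hu.2.2 (by
        have h6 := hx _ (Wp.conj' s hu)
        rwa [mul_smul, mul_smul, inv_smul_eq_iff] at h6)
  have e := h.wp_eq (fun e => hab (smul_left_cancel s e)) hab fun u hu => ⟨hu.1, (k u hu).1, (k u hu).2.1⟩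
  exact hy (k t (e ▸ ht)).2.2

end act

/-! ### the case list -/

/-- the 2-transitive actions of simple groups, as needed for the actions on subsets -/
inductive Cs (T : Type) [Group T] : ℕ → Prop
  | alt {c : ℕ} (h : c.factorial = 2 * Nat.card T) : Cs T c
  | lin {c : ℕ} (h : ∀ (Δ : Type) [MulAction T Δ], Act T Δ c → Lin T Δ) : Cs T c
  | l2 (q g : ℕ) (h4 : 4 ≤ q) (hg : g = 1 ∨ g = 2) (hc : Nat.card T * g = (q + 1) * q * (q - 1)) (h : One2 T (q + 1)) :
      Cs T (q + 1)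
  | no3 {c : ℕ} (h : Two2 T c) (h3 : ∀ (Δ : Type) [MulAction T Δ], Act T Δ c → Hom3 T Δ → ¬ c.choose 3 ∣ Nat.card T)
      (hz : Nat.card T ≠ 3 * (c * (c - 1))) (h56 : c ≠ 56) : Cs T c
  | mat {c : ℕ} (h : Two2 T c) (hc : (c, Nat.card T) ∈ [(11, 7920), (11, 660), (12, 7920), (12, 95040), (22, 443520),
      (23, 10200960), (24, 244823040)]) : Cs T c

theorem six_choose (c : ℕ) : 6 * c.choose 3 = c * (c - 1) * (c - 2) := by
  have h := Nat.descFactorial_eq_factorial_mul_choose c 3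
  rw [Nat.descFactorial_succ, Nat.descFactorial_succ, Nat.descFactorial_succ, Nat.descFactorial_zero, Nat.sub_zero] at h
  rw [show (6 : ℕ) = Nat.factorial 3 from rfl, ← h]
  ring

theorem no3_of {t g c z : ℕ} (hc : 2 ≤ c) (h : t * g = c * (c - 1) * z) (hz : ¬ c - 2 ∣ 6 * z) : ¬ c.choose 3 ∣ t := fun k => by
  have h1 : c * (c - 1) * (c - 2) ∣ c * (c - 1) * (6 * z) := by
    rw [← six_choose, show c * (c - 1) * (6 * z) = 6 * (t * g) by rw [h]; ring]
    exact Nat.mul_dvd_mul_left 6 (k.mul_right g)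
  exact hz ((Nat.mul_dvd_mul_iff_left (Nat.mul_pos (by omega) (by omega))).1 h1)

theorem ne3_of {t g c z : ℕ} (hc : 2 ≤ c) (h : t * g = c * (c - 1) * z) (hz : z ≠ 3 * g) : t ≠ 3 * (c * (c - 1)) := fun k =>
  hz (Nat.eq_of_mul_eq_mul_left (Nat.mul_pos (show 0 < c by omega) (show 0 < c - 1 by omega)) (by rw [← h, k]; ring))

theorem cs_r1 {T : Type} [Group T] {c g z : ℕ} (hc : 3 ≤ c) (r : Rk1N T c) (h : Nat.card T * g = c * (c - 1) * z)
    (h1 : ¬ c - 2 ∣ 6 * z) (h2 : z ≠ 3 * g) (h3 : c ≠ 56) : Cs T c :=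
  .no3 (one2_of_rk1 hc r.rk1).two (fun _ _ _ _ => no3_of (by omega) h h1) (ne3_of (by omega) h h2) h3

theorem cs_of (hSp : BoxSp) (hL : BoxLin) (hR : BoxR1) (hM : BoxMat) (hS : BoxSm) (hH : BoxHS) (hC : BoxCo)
    {T Δ : Type} [Group T] [MulAction T Δ] {c : ℕ} (h : Act T Δ c) (hs : IsSimpleGroup T) (hn : ¬ IsMulCommutative T) :
    Cs T c := by
  have hK := h.known2 hs hn
  have l2 : ∀ (F : Type) [Field F] [Fintype F], (T ≃* Matrix.ProjectiveSpecialLinearGroup (Fin 2) F) →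
      Nat.card T * Nat.gcd 2 (Fintype.card F - 1) = Fintype.card F * (Fintype.card F ^ 2 - 1) := fun F _ _ e => by
    rw [Nat.card_congr e.toEquiv]
    exact ClassicalGeometry.PSL2Basic.card_PSL2_gcd F
  cases hK with
  | alt n hn e => exact .alt (H354.Four.card_alt (by omega) e)
  | psl F d n hd hd2 e hn =>
    rcases Nat.lt_or_ge 2 d with hd3 | hd3
    · exact .lin (hL T F d c hd3 e hn)
    obtain rfl : d = 2 := by omega
    have h4 := hd2 rfl
    have h5 := (hR T F).1 e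
    obtain ⟨e⟩ := e
    have h6 := l2 F e
    generalize Fintype.card F = q at *
    obtain ⟨r, rfl⟩ : ∃ r, q = r + 1 := ⟨q - 1, by omega⟩
    have e1 : (r + 1) ^ 2 - 1 = (r + 2) * r := by
      have : (r + 1) ^ 2 = (r + 2) * r + 1 := by ring
      omega
    rw [e1, Nat.add_sub_cancel] at hn h6
    obtain rfl : c = r + 1 + 1 := Nat.eq_of_mul_eq_mul_right (by omega) hn
    refine .l2 (r + 1) (Nat.gcd 2 r) h4 ((Nat.dvd_prime Nat.prime_two).1 (Nat.gcd_dvd_left 2 r)) ?_ (one2_of_rk1 (by omega) h5)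
    rw [h6, Nat.add_sub_cancel]
    ring
  | sp F m n hF hm e hn =>
    obtain ⟨h1, h2⟩ := hSp T F m c hF hm e hn
    obtain ⟨e⟩ := e
    have h3 := H321.Orders.psp_eq (F := F) (m := m) (by omega)
    rw [← Nat.card_congr e.toEquiv, hF, show Nat.gcd 2 (2 - 1) = 1 from rfl, one_mul] at h3
    obtain ⟨k, rfl⟩ : ∃ k, m = k + 3 := ⟨m - 3, by omega⟩
    have e1 : 2 ^ (k + 3 - 1) = 4 * 2 ^ k := by rw [show k + 3 - 1 = k + 2 from rfl, pow_succ, pow_succ]; ring
    have e2 : 2 ^ (k + 3) = 8 * 2 ^ k := by rw [pow_succ, pow_succ, pow_succ]; ring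
    have e3 : 8 * 2 ^ k ∣ Nat.card T := by
      rw [h3, ← e2]
      exact (pow_dvd_pow 2 (by nlinarith)).mul_right _
    have e4 : 0 < 2 ^ k := by positivity
    rw [e1, e2] at hn
    generalize 2 ^ k = y at hn e3 e4
    obtain ⟨u, hu, hc, hy⟩ : ∃ u, u % 2 = 1 ∧ c = 4 * y * u ∧ 8 * y ≤ u + 1 ∧ u ≤ 8 * y + 1 :=
      hn.elim (fun k => ⟨_, by omega, k, by omega⟩) fun k => ⟨_, by omega, k, by omega⟩
    refine .no3 h1.two (fun Δ' _ a k _ => h2 Δ' a k) (fun k => ?_) fun k => ?_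
    · rw [k, show 3 * (c * (c - 1)) = 4 * y * (3 * u * (c - 1)) by rw [hc]; ring, show 8 * y = 4 * y * 2 by ring,
        Nat.mul_dvd_mul_iff_left (by omega)] at e3
      have h5 : 0 < y * u := Nat.mul_pos e4 (by omega)
      have h6 : (c - 1) % 2 = 1 := by
        rw [mul_assoc] at hc
        omega
      have h7 : 3 * u * (c - 1) % 2 = 1 := by rw [Nat.mul_mod, Nat.mul_mod 3 u, hu, h6]
      omega
    · rcases Nat.lt_or_ge 1 y with h5 | h5
      · nlinarith
      · obtain rfl : y = 1 := by omega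
        omega
  | psu F q n hq hF e hn =>
    have r := (hR T F).2.1 q hq hF e
    obtain ⟨t, rfl⟩ : ∃ t, q = t + 1 := ⟨q - 1, by omega⟩
    obtain ⟨e⟩ := e
    have hc := HKS.EndOrd.card_psu_three hF
    rw [← Nat.card_congr e.toEquiv] at hc
    have hg : Nat.gcd 3 (t + 2) ≤ 3 := Nat.gcd_le_left _ (by norm_num)
    subst hn
    have e0 : 27 ≤ (t + 1) ^ 3 := le_trans (by norm_num) (Nat.pow_le_pow_left hq 3)
    have e2 : (t + 1) ^ 3 + 1 - 2 = t * (t ^ 2 + 3 * t + 3) := by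
      have : (t + 1) ^ 3 + 1 = t * (t ^ 2 + 3 * t + 3) + 2 := by ring
      omega
    refine cs_r1 (g := Nat.gcd 3 (t + 2)) (z := t * (t + 2)) (by omega) r ?_ ?_ ?_ ?_
    · rw [mul_comm, hc, Nat.add_sub_cancel]
      ring
    · rw [e2, show 6 * (t * (t + 2)) = t * (6 * (t + 2)) by ring, Nat.mul_dvd_mul_iff_left (by omega)]
      intro k
      have h1 := Nat.le_of_dvd (by omega) k
      have h2 : t ≤ 4 := by nlinarith
      have h3 : 2 ≤ t := by omega
      interval_cases t <;> norm_num at k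
    · intro k
      have h2 : t ≤ 2 := by nlinarith
      obtain rfl : t = 2 := by omega
      omega
    · intro k
      rcases Nat.lt_or_ge t 3 with h1 | h1
      · obtain rfl : t = 2 := by omega
        norm_num at k
      · have := Nat.pow_le_pow_left (show 4 ≤ t + 1 by omega) 3
        omega
  | sz F m n hm hF e hn =>
    have r := (hR T F).2.2.1 m hm hF e
    obtain ⟨e⟩ := e
    have hc := (S1163.result hm hF).1
    rw [← Nat.card_congr e.toEquiv, ← hF] at hc
    have h2 : 8 ≤ Fintype.card F := by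
      rw [hF]
      exact le_trans (by norm_num) (Nat.pow_le_pow_right two_pos (show 3 ≤ 2 * m + 1 by omega))
    generalize Fintype.card F = q at *
    obtain ⟨t, rfl⟩ : ∃ t, q = t + 1 := ⟨q - 1, by omega⟩
    subst hn
    have e0 : 64 ≤ (t + 1) ^ 2 := le_trans (by norm_num) (Nat.pow_le_pow_left h2 2)
    have e2 : (t + 1) ^ 2 + 1 - 2 = t * (t + 2) := by
      have : (t + 1) ^ 2 + 1 = t * (t + 2) + 2 := by ring
      omega
    refine cs_r1 (g := 1) (z := t) (by omega) r ?_ ?_ (by omega) (by omega)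
    · rw [hc, Nat.add_sub_cancel, Nat.add_sub_cancel]
      ring
    · rw [e2]
      intro k
      have h1 := Nat.le_of_dvd (by omega) k
      nlinarith
  | ree F m n hm hF e hn =>
    have r := (hR T F).2.2.2 m hm hF e
    obtain ⟨e⟩ := e
    have hc := S1069.result hF
    rw [← Nat.card_congr e.toEquiv, ← hF] at hc
    have h2 : 27 ≤ Fintype.card F := by
      rw [hF]
      exact le_trans (by norm_num) (Nat.pow_le_pow_right (by norm_num) (show 3 ≤ 2 * m + 1 by omega))
    generalize Fintype.card F = q at *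
    obtain ⟨t, rfl⟩ : ∃ t, q = t + 1 := ⟨q - 1, by omega⟩
    subst hn
    have e0 : 64 ≤ (t + 1) ^ 3 := le_trans (by norm_num) (Nat.pow_le_pow_left h2 3)
    have e2 : (t + 1) ^ 3 + 1 - 2 = t * (t ^ 2 + 3 * t + 3) := by
      have : (t + 1) ^ 3 + 1 = t * (t ^ 2 + 3 * t + 3) + 2 := by ring
      omega
    refine cs_r1 (g := 1) (z := t) (by omega) r ?_ ?_ (by omega) (by omega)
    · rw [hc, Nat.add_sub_cancel, Nat.add_sub_cancel]
      ring
    · rw [e2]
      intro k
      have h1 := Nat.le_of_dvd (by omega) k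
      nlinarith
  | psl2_8 F hF e =>
    obtain ⟨e⟩ := e
    have h1 := l2 F e
    have h2 := h.dvd (by norm_num)
    rw [hF] at h1
    norm_num at h1
    rw [h1] at h2
    norm_num at h2
  | psl2_9 F hF e =>
    obtain ⟨e⟩ := e
    have h1 := l2 F e
    rw [hF] at h1
    norm_num at h1
    exact .alt (by norm_num [Nat.factorial]; omega)
  | psl2_11 F hF e =>
    have h0 := ((hS T).1 F hF e).2
    obtain ⟨e⟩ := e
    have h1 := l2 F e
    rw [hF] at h1
    norm_num at h1
    exact .mat h0 (by rw [show Nat.card T = 660 by omega]; decide)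
  | psl4_2 F hF e =>
    obtain ⟨e⟩ := e
    obtain ⟨e2⟩ := S0256.result hF
    exact .alt (H354.Four.card_alt (by omega) ⟨e.trans e2⟩)
  | a7 e =>
    have h4 := H354.Four.card_alt (by omega) e
    have h5 : Nat.card T = 2520 := by
      norm_num [Nat.factorial] at h4
      omega
    exact .no3 ((hS T).2 e).2 (fun _ _ _ _ => by rw [h5]; decide) (by rw [h5]; norm_num) (by norm_num)
  | m11 k => exact .mat ((hM T).1 k).1.two (by rw [BiChar.Small.card_of_iso k HNType.Alt.card_M11]; decide)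
  | m11' k => exact .mat ((hM T).1 k).2.two (by rw [BiChar.Small.card_of_iso k HNType.Alt.card_M11]; decide)
  | m12 k => exact .mat ((hM T).2.1 k).2 (by rw [BiChar.Small.card_of_iso k MTwelveType.SylowModel.card_M12]; decide)
  | m22 k => exact .mat ((hM T).2.2.1 k).two (by rw [BiChar.Small.card_of_iso k SporadicA.MathieuRecog.card_M22]; decide)
  | m23 k => exact .mat ((hM T).2.2.2.1 k).two (by rw [BiChar.Small.card_of_iso k SporadicA.MathieuRecog.card_M23]; decide)
  | m24 k => exact .mat ((hM T).2.2.2.2 k).two (by rw [BiChar.Small.card_of_iso k S0364.result]; decide)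
  | hs k =>
    have hc := BiChar.Small.card_of_iso k BiChar.Small.card_HS
    exact .no3 (hH T k).2 (fun _ _ _ _ => no3_of (g := 1) (z := 1440) (by norm_num) (by rw [hc]) (by norm_num))
      (by rw [hc]; norm_num) (by norm_num)
  | co3 k =>
    have hc := BiChar.Small.card_of_isoCo3 k
    exact .no3 (hC T k).two (fun _ _ _ _ => no3_of (g := 1) (z := 6531840) (by norm_num) (by rw [hc]) (by norm_num))
      (by rw [hc]; norm_num) (by norm_num)

end Cfsg.Agent.SM.Alt
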