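import Cfsg.Agent.SM.Alt.Tab
import Cfsg.Agent.H454.Reg.Alt.Affine
import Cfsg.Agent.Lib.ElemAbGL

/-!
# SM (S3570), types of 2-primitive groups: permutation group lemmas (helper31)
-/

set_option autoImplicit false
set_option maxHeartbeats 400000
set_option linter.unusedSectionVars false
set_option linter.unusedVariables false

namespace Cfsg.Agent.SM.Alt.Ty

open Cfsg Equiv Subgroup MulAction Cfsg.Agent.H384.TwoTrans
open scoped Pointwise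

variable {Δ : Type} [Fintype Δ] [DecidableEq Δ] {Y B R : Subgroup (Perm Δ)}

/-- 2-transitive -/
def T2 (B : Subgroup (Perm Δ)) : Prop := ∀ a b x y : Δ, a ≠ b → x ≠ y → ∃ g ∈ B, g a = x ∧ g b = y

theorem fresh (l : List Δ) (h : l.length < Fintype.card Δ) : ∃ y, y ∉ l := by
  obtain ⟨y, -, hy⟩ := Finset.exists_mem_notMem_of_card_lt_card (s := l.toFinset) (t := Finset.univ)
    ((List.toFinset_card_le l).trans_lt h)
  exact ⟨y, fun k => hy (List.mem_toFinset.2 k)⟩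

theorem blk_rel (h : Pr2 B) {a : Δ} (r : Δ → Δ → Prop) (hs : ∀ u v, r u v → r v u)
    (ht : ∀ u v w, r u v → r v w → r u w) (hi : ∀ g ∈ B, g a = a → ∀ u v, r u v → r (g u) (g v)) {b x : Δ} (hb : b ≠ a)
    (hx : x ≠ a) (hbx : b ≠ x) (hr : r b x) : ∀ y, y ≠ a → r b y := by
  have key : ∀ g ∈ B, g a = a → ∀ y, r b y → r b (g y) → ∀ w, w ≠ a ∧ r b w → g w ≠ a ∧ r b (g w) :=
    fun g hg ga y h1 h2 w hw => ⟨fun e => hw.1 (g.injective (e.trans ga.symm)),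
      ht _ _ _ h2 (hi g hg ga _ _ (ht _ _ _ (hs _ _ h1) hw.2))⟩
  rcases h.blk a {y | y ≠ a ∧ r b y} (fun k => k.1 rfl) (fun g hg ga => by
    by_cases hd : Disjoint (g '' {y | y ≠ a ∧ r b y}) {y | y ≠ a ∧ r b y}
    · exact Or.inr hd
    obtain ⟨_, ⟨y, hy, rfl⟩, hz⟩ := Set.not_disjoint_iff.1 hd
    refine Or.inl (Set.Subset.antisymm ?_ fun w hw => ⟨g⁻¹ w, ?_, by simp⟩)
    · rintro _ ⟨w, hw, rfl⟩
      exact key g hg ga y hy.2 hz.2 w hw
    · exact key g⁻¹ (B.inv_mem hg) (Perm.inv_eq_iff_eq.2 ga.symm) (g y) hz.2 (by simpa using hy.2) w hw) with k | k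
  · exact absurd (k ⟨hb, ht _ _ _ hr (hs _ _ hr)⟩ ⟨hx, hr⟩) hbx
  · exact fun y hy => (k.symm ▸ hy : y ∈ {y | y ≠ a ∧ r b y}).2

theorem blk_orb (h : Pr2 B) {a : Δ} {N : Subgroup (Perm Δ)} (hN : ∃ n ∈ N, n ≠ 1) (ha : ∀ n ∈ N, n a = a)
    (hc : ∀ g ∈ B, g a = a → ∀ n ∈ N, g * n * g⁻¹ ∈ N) {x y : Δ} (hx : x ≠ a) (hy : y ≠ a) : ∃ n ∈ N, n x = y := by
  obtain ⟨n, hn, h1⟩ := hN
  obtain ⟨b, hb⟩ : ∃ b, n b ≠ b := not_forall.1 fun k => h1 (Equiv.ext k)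
  have hba : b ≠ a := fun e => hb (e ▸ ha n hn)
  have k := blk_rel h (a := a) (fun u v => ∃ n ∈ N, n u = v)
    (by rintro u _ ⟨m, hm, rfl⟩; exact ⟨m⁻¹, N.inv_mem hm, by simp⟩)
    (by rintro u _ _ ⟨m, hm, rfl⟩ ⟨m', hm', rfl⟩; exact ⟨m' * m, N.mul_mem hm' hm, rfl⟩)
    (by rintro g hg ga u _ ⟨m, hm, rfl⟩; exact ⟨g * m * g⁻¹, hc g hg ga m hm, by simp⟩) hba
    (fun e => hba (n.injective (e.trans (ha n hn).symm))) hb.symm ⟨n, hn, rfl⟩
  obtain ⟨s, hs, rfl⟩ := k x hx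
  obtain ⟨t, ht, rfl⟩ := k y hy
  exact ⟨t * s⁻¹, N.mul_mem ht (N.inv_mem hs), by simp⟩

theorem t2_of (tr : ∀ a b : Δ, ∃ g ∈ R, g a = b)
    (h : ∀ a x y : Δ, x ≠ a → y ≠ a → ∃ n ∈ R, n a = a ∧ n x = y) : T2 R := fun a b x y hab hxy => by
  obtain ⟨g, hg, rfl⟩ := tr a x
  obtain ⟨n, hn, h1, h2⟩ := h (g a) (g b) y (fun e => hab (g.injective e).symm) hxy.symm
  exact ⟨n * g, R.mul_mem hn hg, h1, h2⟩

/-- a normal subgroup with a nontrivial point stabiliser is 2-transitive -/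
theorem t2_nor (h : Pr2 B) (hn : Nor B R) (tr : ∀ a b : Δ, ∃ g ∈ R, g a = b)
    (h1 : ∀ a : Δ, ∃ t ∈ R, t ≠ 1 ∧ t a = a) : T2 R :=
  t2_of tr fun a x y hx hy => by
    obtain ⟨t, ht, h2, h3⟩ := h1 a
    obtain ⟨n, hn', h4⟩ := blk_orb h (a := a) (N := R ⊓ stabilizer (Perm Δ) a) ⟨t, ⟨ht, h3⟩, h2⟩ (fun n hn => hn.2)
      (fun g hg ga n hn' => ⟨hn.conj g hg n hn'.1, by
        show g (n (g⁻¹ a)) = a
        rw [Perm.inv_eq_iff_eq.2 ga.symm, show n a = a from hn'.2, ga]⟩) hx hy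
    exact ⟨n, hn'.1, hn'.2, h4⟩

theorem t2_pr (h : Pr2 B) (h4 : 4 ≤ Fintype.card Δ) : T2 B :=
  t2_nor h (Nor.refl B) h.tr fun a => by
    by_contra hn
    push Not at hn
    obtain ⟨b, hb⟩ := fresh [a] (by simp; omega)
    obtain ⟨x, hx⟩ := fresh [a, b] (by simp; omega)
    obtain ⟨y, hy⟩ := fresh [a, b, x] (by simp; omega)
    simp only [List.mem_cons, List.not_mem_nil, or_false, not_or] at hb hx hy
    have k := blk_rel h (a := a) (fun u v => (u = b ∨ u = x) ∧ (v = b ∨ v = x)) (fun _ _ k => ⟨k.2, k.1⟩)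
      (fun _ _ _ k l => ⟨k.1, l.2⟩) (fun g hg ga u v k => by
        obtain rfl : g = 1 := by_contra fun e => hn g hg e ga
        exact k) hb hx.1 (Ne.symm hx.2) ⟨Or.inl rfl, Or.inr rfl⟩ y hy.1
    exact k.2.elim hy.2.1 hy.2.2

theorem T2.act (h : T2 R) : Act R Δ (Fintype.card Δ) :=
  ⟨inferInstance, Nat.card_eq_fintype_card, fun t ht => Subtype.ext (Equiv.ext ht), fun a b x y h1 h2 =>
    let ⟨g, hg, k⟩ := h a b x y h1 h2
    ⟨⟨g, hg⟩, k⟩⟩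

theorem eq_norm (h5 : 5 ≤ Fintype.card Δ) (hY : alternatingGroup Δ ≤ Y) (hB : B ⋖ Y) (hA : ¬ alternatingGroup Δ ≤ B)
    (hn : Nor B R) (h0 : R ≠ ⊥) : Y ⊓ normalizer (R : Set (Perm Δ)) = B :=
  (hB.eq_or_eq (le_inf hB.le hn.le_normalizer) inf_le_left).resolve_right fun k =>
    hA ((alt_le_of_conj h5 h0 fun g hg x hx => (mem_normalizer_iff.1 (k.ge (hY hg)).2 x).1 hx).trans hn.le)

theorem norm_conj {R₁ R₂ : Subgroup (Perm Δ)} {g : Perm Δ} (hg : ∀ x, x ∈ R₁ ↔ g * x * g⁻¹ ∈ R₂) (x : Perm Δ) :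
    x ∈ normalizer (R₁ : Set (Perm Δ)) ↔ g * x * g⁻¹ ∈ normalizer (R₂ : Set (Perm Δ)) := by
  rw [mem_normalizer_iff, mem_normalizer_iff]
  refine ⟨fun k u => ?_, fun k u => ?_⟩
  · have h1 := k (g⁻¹ * u * g)
    rw [hg, hg] at h1
    convert h1 using 2 <;> group
  · rw [hg, hg, k]
    exact iff_of_eq (congrArg _ (by group))

theorem conj_B {B₁ B₂ R₁ R₂ : Subgroup (Perm Δ)} (h5 : 5 ≤ Fintype.card Δ) (hY : alternatingGroup Δ ≤ Y)
    (e₁ : Y ⊓ normalizer (R₁ : Set (Perm Δ)) = B₁) (e₂ : Y ⊓ normalizer (R₂ : Set (Perm Δ)) = B₂) {g : Perm Δ}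
    (hg : ∀ x, x ∈ R₁ ↔ g * x * g⁻¹ ∈ R₂) (x : Perm Δ) : x ∈ B₁ ↔ g * x * g⁻¹ ∈ B₂ := by
  have hN : Y.Normal := by rcases eq_alt_or_top h5 hY with rfl | rfl <;> infer_instance
  rw [← e₁, ← e₂, mem_inf, mem_inf, norm_conj hg]
  exact and_congr_left' ⟨fun k => hN.conj_mem x k g, fun k => by simpa [mul_assoc] using hN.conj_mem _ k g⁻¹⟩

theorem conj_of_iso {R₁ R₂ : Subgroup (Perm Δ)} (tr : ∀ a b : Δ, ∃ g ∈ R₁, g a = b) (θ : R₁ ≃* R₂) {a₁ a₂ : Δ}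
    (h : ∀ t : R₁, t.1 a₁ = a₁ ↔ (θ t).1 a₂ = a₂) : ∃ g : Perm Δ, ∀ x, x ∈ R₁ ↔ g * x * g⁻¹ ∈ R₂ := by
  choose s hs hs' using tr a₁
  have k : ∀ t u : R₁, t.1 a₁ = u.1 a₁ ↔ (θ t).1 a₂ = (θ u).1 a₂ := fun t u => by
    have h1 := h (u⁻¹ * t)
    rw [map_mul, map_inv] at h1
    exact (Perm.inv_eq_iff_eq.symm.trans h1).trans Perm.inv_eq_iff_eq
  let f : Δ → Δ := fun x => (θ ⟨s x, hs x⟩).1 a₂
  have hf : Function.Injective f := fun x y e => (hs' x).symm.trans (((k _ _).2 e).trans (hs' y))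
  let g : Perm Δ := Equiv.ofBijective f (Finite.injective_iff_bijective.1 hf)
  have hg : ∀ t : R₁, g * t.1 * g⁻¹ = (θ t).1 := fun t => by
    rw [mul_inv_eq_iff_eq_mul]
    refine Equiv.ext fun x => ?_
    have h1 := (k ⟨s (t.1 x), hs _⟩ (t * ⟨s x, hs x⟩)).1 ((hs' _).trans (congrArg t.1 (hs' x).symm))
    rw [map_mul] at h1
    exact h1
  refine ⟨g, fun x => ⟨fun hx => (hg ⟨x, hx⟩).symm ▸ (θ ⟨x, hx⟩).2, fun hx => ?_⟩⟩
  have h1 := hg (θ.symm ⟨_, hx⟩)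
  rw [MulEquiv.apply_symm_apply] at h1
  exact mul_left_cancel (mul_right_cancel h1) ▸ (θ.symm ⟨_, hx⟩).2

theorem conj_of_reg {R₁ R₂ : Subgroup (Perm Δ)} [Nonempty Δ] (tr : ∀ a b : Δ, ∃ g ∈ R₁, g a = b) (θ : R₁ ≃* R₂)
    (h₁ : ∀ v ∈ R₁, ∀ x, v x = x → v = 1) (h₂ : ∀ v ∈ R₂, ∀ x, v x = x → v = 1) :
    ∃ g : Perm Δ, ∀ x, x ∈ R₁ ↔ g * x * g⁻¹ ∈ R₂ := by
  obtain ⟨a⟩ := ‹Nonempty Δ›
  refine conj_of_iso tr θ (a₁ := a) (a₂ := a) fun t => ⟨fun k => ?_, fun k => ?_⟩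
  · rw [show t = 1 from Subtype.ext (h₁ _ t.2 a k), map_one]
    rfl
  · rw [show t = 1 from θ.injective ((Subtype.ext (h₂ _ (θ t).2 a k)).trans (map_one θ).symm)]
    rfl

theorem conj_of_row {R₁ R₂ : Subgroup (Perm Δ)} (h2 : 2 ≤ Fintype.card Δ) (h₁ : T2 R₁) (h₂ : T2 R₂) (e : R₁ ≃* R₂)
    (hr : Row2 R₁ (Fintype.card Δ)) : ∃ g : Perm Δ, ∀ x, x ∈ R₁ ↔ g * x * g⁻¹ ∈ R₂ := by
  obtain ⟨γ, a₁, a₂, h⟩ := @hr Δ Δ _ (MulAction.compHom Δ e.toMonoidHom) h₁.act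
    (@Act.mk R₁ Δ _ (MulAction.compHom Δ e.toMonoidHom) _ inferInstance Nat.card_eq_fintype_card
      (fun t ht => e.injective ((h₂.act.faith (e t) ht).trans (map_one e).symm)) fun a b x y k l => by
        obtain ⟨t, ht⟩ := h₂.act.two a b x y k l
        exact ⟨e.symm t, by
          show e (e.symm t) • a = x ∧ e (e.symm t) • b = y
          rwa [MulEquiv.apply_symm_apply]⟩)
  exact conj_of_iso (fun a b => let ⟨t, ht⟩ := h₁.act.tr h2 a b; ⟨t.1, t.2, ht⟩) (γ.trans e) h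

/-- **Burnside** in the language of permutation groups -/
theorem red (h : T2 B) (h3 : 3 ≤ Fintype.card Δ) : ∃ R, Nor B R ∧ R ≠ ⊥ ∧ (∀ a b : Δ, ∃ g ∈ R, g a = b) ∧
    (((∀ u ∈ R, ∀ v ∈ R, u * v = v * u) ∧ (∃ p : ℕ, p.Prime ∧ ∀ v ∈ R, v ^ p = 1) ∧ ∀ v ∈ R, ∀ x, v x = x → v = 1) ∨
      (IsSimpleGroup R ∧ ¬ IsMulCommutative R ∧ Known2 R (Fintype.card Δ) ∧ Nat.card B ≤ Nat.card (MulAut R) ∧
        ∀ a : Δ, ∃ t ∈ R, t ≠ 1 ∧ t a = a)) := by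
  have hne : ∀ {N : Subgroup B}, N ≠ ⊥ → N.map B.subtype ≠ ⊥ := fun hN k =>
    hN ((map_eq_bot_iff_of_injective _ B.subtype_injective).1 k)
  rcases reduction (G := B) (Ω := Δ) h.act.mp (by rwa [Nat.card_eq_fintype_card]) with
    ⟨N, hN, h0, hc, ⟨p, hp, h1⟩, h2, h4⟩ | ⟨T, A⟩
  · refine ⟨N.map B.subtype, Nor.of_normal N, hne h0, fun a b => ?_, Or.inl ⟨?_, ⟨p, hp, ?_⟩, ?_⟩⟩
    · obtain ⟨n, hn, k⟩ := h2 a b
      exact ⟨n, ⟨n, hn, rfl⟩, k⟩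
    · rintro _ ⟨u, hu, rfl⟩ _ ⟨v, hv, rfl⟩
      exact congrArg (fun z : N => (z.1.1 : Perm Δ)) (hc.is_comm.comm ⟨u, hu⟩ ⟨v, hv⟩)
    · rintro _ ⟨v, hv, rfl⟩
      exact congrArg Subtype.val (h1 v hv)
    · rintro _ ⟨v, hv, rfl⟩ x hx
      exact congrArg Subtype.val (h4 x v hv hx)
  · have := A.normal
    have hs := A.simple
    let e := T.equivMapOfInjective B.subtype B.subtype_injective
    have hK := H384.TwoTransMain.main (fun _ _ _ _ => S0000.result) A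
    rw [Nat.card_eq_fintype_card] at hK
    refine ⟨T.map B.subtype, Nor.of_normal T, hne A.ne_bot, fun a b => ?_, Or.inr ⟨e.symm.isSimpleGroup,
      fun k => A.nonab ⟨⟨fun u v => e.injective (by rw [map_mul, map_mul]; exact k.is_comm.comm _ _)⟩⟩, hK.congr e, ?_,
      fun a => ?_⟩⟩
    · obtain ⟨n, k⟩ := A.transitive.exists_smul_eq a b
      exact ⟨n, ⟨n, n.2, rfl⟩, k⟩
    · rw [← Nat.card_congr (MulAut.congr e).toEquiv]
      refine Nat.card_le_card_of_injective (MulAut.conjNormal : B →* MulAut T)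
        ((injective_iff_map_eq_one _).2 fun g hg => ?_)
      have h1 : g ∈ centralizer (T : Set B) := fun t ht => by
        have h2 := congrArg (fun φ : MulAut T => (φ ⟨t, ht⟩ : B)) hg
        exact (mul_inv_eq_iff_eq_mul.1 h2).symm
      rwa [A.cent] at h1
    · by_contra hn
      push Not at hn
      have := A.primitiveT
      have := A.nontrivialΩ
      have h1 := IsPreprimitive.isCoatom_stabilizer_of_isPreprimitive T a
      have h2 : stabilizer T a = ⊥ := eq_bot_iff.2 fun t ht => by_contra fun k =>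
        hn t.1.1 ⟨t.1, t.2, rfl⟩ (fun l => k (Subtype.ext (Subtype.ext l))) ht
      rw [h2] at h1
      obtain ⟨g, hg⟩ := exists_ne (1 : T)
      have h4 : IsCyclic T := ⟨g, fun x =>
        (h1.2 (zpowers g) (bot_lt_iff_ne_bot.2 (zpowers_ne_bot.2 hg))).ge (mem_top x)⟩
      exact A.nonab inferInstance

/-- a regular normal subgroup of a 2-primitive group has exponent two -/
theorem sq_of_reg (h : Pr2 B) (h4 : 4 ≤ Fintype.card Δ) (hn : Nor B R) (hf : ∀ v ∈ R, ∀ x, v x = x → v = 1) {s : Perm Δ}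
    (hs : s ∈ R) : s ^ 2 = 1 := by
  by_contra h2
  obtain ⟨a, -⟩ := fresh ([] : List Δ) (by simp; omega)
  have h1 : s a ≠ a := fun e => h2 (by rw [hf s hs a e, one_pow])
  obtain ⟨y, hy⟩ := fresh [a, s a, s⁻¹ a] (by simp; omega)
  simp only [List.mem_cons, List.not_mem_nil, or_false, not_or] at hy
  have hu : ∀ u ∈ R, ∀ v ∈ R, u a = v a → u = v := fun u hu v hv e =>
    (inv_mul_eq_one.1 (hf _ (R.mul_mem (R.inv_mem hv) hu) a (Perm.inv_eq_iff_eq.2 e))).symm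
  have k := blk_rel h (a := a) (fun u v => u = v ∨ ∃ t ∈ R, t a = u ∧ t v = a)
    (by
      rintro u v (rfl | ⟨t, ht, rfl, k⟩)
      · exact Or.inl rfl
      · exact Or.inr ⟨t⁻¹, R.inv_mem ht, Perm.inv_eq_iff_eq.2 k.symm, by simp⟩)
    (by
      rintro u v w (rfl | ⟨t, ht, rfl, k⟩) l
      · exact l
      rcases l with rfl | ⟨t', ht', rfl, l⟩
      · exact Or.inr ⟨t, ht, rfl, k⟩
      · have h5 : t * t' = 1 := hf _ (R.mul_mem ht ht') a k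
        exact Or.inl ((congrArg t l.symm).trans (congrArg (fun z : Perm Δ => z w) h5)))
    (by
      rintro g hg ga u v (rfl | ⟨t, ht, rfl, k⟩)
      · exact Or.inl rfl
      · refine Or.inr ⟨g * t * g⁻¹, hn.conj g hg t ht, ?_, by simp [k, ga]⟩
        show g (t (g⁻¹ a)) = g (t a)
        rw [Perm.inv_eq_iff_eq.2 ga.symm])
    h1 (x := s⁻¹ a) (fun e => h1 (Perm.inv_eq_iff_eq.1 e).symm)
    (fun e => h2 (by rw [pow_two]; exact mul_eq_one_iff_eq_inv.2 (hu _ hs _ (R.inv_mem hs) e)))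
    (Or.inr ⟨s, hs, rfl, by simp⟩) y hy.1
  rcases k with k | ⟨t, ht, k, l⟩
  · exact hy.2.1 k.symm
  · rw [hu t ht s hs k] at l
    exact hy.2.2 (Perm.eq_inv_iff_eq.2 l)

theorem card_reg (tr : ∀ a b : Δ, ∃ g ∈ R, g a = b) (hf : ∀ v ∈ R, ∀ x, v x = x → v = 1) [Nonempty Δ] :
    Nat.card R = Fintype.card Δ := by
  obtain ⟨a⟩ := ‹Nonempty Δ›
  rw [Nat.card_congr (H454.Reg.Alt.pt tr hf a), Nat.card_eq_fintype_card]

/-- the affine group is large -/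
theorem aff_le (hY : alternatingGroup Δ ≤ Y) (e : Y ⊓ normalizer (R : Set (Perm Δ)) = B) (hn : Nor B R)
    (tr : ∀ a b : Δ, ∃ g ∈ R, g a = b) (hf : ∀ v ∈ R, ∀ x, v x = x → v = 1) [Nontrivial Δ] :
    Fintype.card Δ * Nat.card (MulAut R) ≤ 2 * Nat.card B := by
  obtain ⟨a⟩ : Nonempty Δ := inferInstance
  let φ := H454.Reg.Alt.hat tr hf a
  let K := (alternatingGroup Δ).comap φ
  have h1 : ∀ σ, φ σ a = a := fun σ => by
    have := H454.Reg.Alt.hat_apply tr hf a σ 1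
    rwa [map_one] at this
  have h2 : K.index ≤ 2 := Nat.le_of_dvd two_pos (by
    rw [← alternatingGroup.index_eq_two (α := Δ), index_comap]
    exact relIndex_dvd_index_of_normal _ _)
  have h3 := K.card_mul_index
  have hB : ∀ σ : K, φ σ.1 ∈ B := fun σ => e.le ⟨hY σ.2, H454.Reg.Alt.hat_mem tr hf a σ.1⟩
  have h4 : Nat.card (R × K) ≤ Nat.card B := Nat.card_le_card_of_injective
    (fun x => (⟨x.1.1 * φ x.2.1, B.mul_mem (hn.le x.1.2) (hB x.2)⟩ : B)) fun x y k => by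
      have k1 : x.1.1 * φ x.2.1 = y.1.1 * φ y.2.1 := congrArg Subtype.val k
      have k2 : x.1 = y.1 := (H454.Reg.Alt.pt tr hf a).injective (by
        have := congrArg (fun z : Perm Δ => z a) k1
        simp only [Perm.mul_apply, h1] at this
        exact this)
      rw [k2] at k1
      exact Prod.ext k2 (Subtype.ext (H454.Reg.Alt.hat_injective tr hf a (mul_left_cancel k1)))
  rw [Nat.card_prod, card_reg tr hf] at h4
  calc Fintype.card Δ * Nat.card (MulAut R) = Fintype.card Δ * Nat.card K * K.index := by rw [mul_assoc, h3]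
    _ ≤ Nat.card B * 2 := Nat.mul_le_mul h4 h2
    _ = _ := mul_comm _ _

theorem lin_aux {V : Type} [AddCommGroup V] [Module (ZMod 2) V] [Finite V] :
    ∃ k : ℕ, Nonempty (V ≃ₗ[ZMod 2] (Fin k → ZMod 2)) := by
  have : Module.Finite (ZMod 2) V := Module.Finite.of_finite
  exact ⟨_, ⟨(Module.finBasis (ZMod 2) V).equivFun⟩⟩

theorem exists_elem {A : Type} [Group A] [Finite A] (hc : ∀ x y : A, x * y = y * x) (he : ∀ x : A, x ^ 2 = 1) :
    ∃ k : ℕ, Nonempty (A ≃* Multiplicative (Fin k → ZMod 2)) ∧ Nat.card A = 2 ^ k ∧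
      Nat.card (MulAut A) = ∏ i : Fin k, (2 ^ k - 2 ^ (i : ℕ)) := by
  let _ : CommGroup A := { (inferInstance : Group A) with mul_comm := hc }
  let _ : Module (ZMod 2) (Additive A) := AddCommGroup.zmodModule fun x => congrArg Additive.ofMul (he (Additive.toMul x))
  obtain ⟨k, ⟨c⟩⟩ := lin_aux (V := Additive A)
  have h1 : Nat.card A = 2 ^ k := by
    rw [show Nat.card A = Nat.card (Additive A) from rfl, Nat.card_congr c.toEquiv]
    simp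
  obtain ⟨f⟩ := Lib.ElemAbGL.mulAut_equiv_GL (V := A) 2 k he h1
  exact ⟨k, ⟨AddEquiv.toMultiplicativeRight c.toAddEquiv⟩, h1, by
    rw [Nat.card_congr f.toEquiv, Matrix.card_GL_field, ZMod.card]⟩

/-- lines contradict 2-primitivity -/
theorem not_lin (h : Pr2 B) (hn : Nor B R) (h2 : T2 R) : ¬ Lin R Δ := by
  rintro ⟨p, a, b, x, hab, hxa, hxb, h1, t, ht, h3, h4, h5⟩
  have hw : ∀ g ∈ B, g a = a → ∀ u, ∀ s : R, ∀ hs : g * s.1 * g⁻¹ ∈ R, s ∈ Wp R p a u →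
      (⟨_, hs⟩ : R) ∈ Wp R p a (g u) := fun g hg ga u s hs k =>
    ⟨Subtype.ext (by
      show (g * s.1 * g⁻¹) ^ p = 1
      rw [conj_pow, show s.1 ^ p = 1 from congrArg Subtype.val k.1, mul_one, mul_inv_cancel]), by
      show g (s.1 (g⁻¹ a)) = a
      rw [Perm.inv_eq_iff_eq.2 ga.symm, show s.1 a = a from k.2.1, ga], by
      show g (s.1 (g⁻¹ (g u))) = g u
      rw [show g⁻¹ (g u) = u from g.symm_apply_apply u, show s.1 u = u from k.2.2]⟩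
  have hi : ∀ g ∈ B, g a = a → ∀ u v, Wp R p a u ⊆ Wp R p a v → Wp R p a (g u) ⊆ Wp R p a (g v) :=
    fun g hg ga u v k s hs => by
      have h6 := hw g⁻¹ (B.inv_mem hg) (Perm.inv_eq_iff_eq.2 ga.symm) _ s (hn.conj _ (B.inv_mem hg) _ s.2) hs
      rw [show g⁻¹ (g u) = u from g.symm_apply_apply u] at h6
      have h7 := hw g hg ga v _ (hn.conj _ hg _ (hn.conj _ (B.inv_mem hg) _ s.2)) (k h6)
      convert h7 using 1
      exact Subtype.ext (by group)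
  have k := blk_rel h (a := a) (fun u v => Wp R p a u = Wp R p a v) (fun _ _ k => k.symm) (fun _ _ _ k l => k.trans l)
    (fun g hg ga u v k => Set.Subset.antisymm (hi g hg ga u v k.le) (hi g hg ga v u k.ge)) hab.symm hxa hxb.symm
    (h2.act.wp_eq hab hxa.symm fun s hs => ⟨hs.1, hs.2.1, h1 s hs.1 hs.2.1 hs.2.2⟩)
  refine ht (h2.act.faith t fun y => ?_)
  by_cases hy : y = a
  · rw [hy, h4]
  · exact ((k y hy).le (⟨h3, h4, h5⟩ : t ∈ Wp R p a b)).2.2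

/-- rank one with non-abelian Sylow subgroups contradicts 2-primitivity -/
theorem not_rk1N (h : Pr2 B) (h3 : 3 ≤ Fintype.card Δ) (hn : Nor B R) (h2 : T2 R) : ¬ Rk1N R (Fintype.card Δ) := by
  rintro ⟨p, hp, h1, h4⟩
  obtain ⟨P⟩ : Nonempty (Sylow p R) := inferInstance
  obtain ⟨a, ha, hs⟩ := h2.act.stab_sylow h3 h1 (fun Q => (h4 Q).1) P
  obtain ⟨hc, x, hx, y, hy, hxy⟩ := h4 P
  have hP : ∀ g ∈ B, g a = a → ∀ s ∈ P, ∀ hs : g * s.1 * g⁻¹ ∈ R, (⟨_, hs⟩ : R) ∈ P := fun g hg ga s hsP hs' => by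
    let α : MulAut R := R.normalizerMonoidHom ⟨g, hn.le_normalizer hg⟩
    obtain ⟨t, ht⟩ := exists_smul_eq R P (α • P)
    obtain ⟨a', ha'⟩ := h2.act.sylow_fix h3 (α • P) (h4 _).1
    have e1 : a = a' := (ha' a).1 fun u hu => by
      obtain ⟨v, hv, rfl⟩ := (mem_smul_pointwise_iff_exists u α (P : Subgroup R)).1 hu
      show g (v.1 (g⁻¹ a)) = a
      rw [Perm.inv_eq_iff_eq.2 ga.symm, show v.1 a = a from ha v hv, ga]
    have e2 : t • a = a' := (ha' _).1 fun u hu => by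
      rw [← ht] at hu
      obtain ⟨v, hv, rfl⟩ := (mem_smul_pointwise_iff_exists u (MulAut.conj t) (P : Subgroup R)).1 hu
      show (t * v * t⁻¹) • t • a = t • a
      rw [mul_smul, inv_smul_smul, mul_smul, ha v hv]
    have e3 : α • P = P := ht.symm.trans ((hs t).1 (e2.trans e1.symm))
    exact e3 ▸ (smul_mem_pointwise_smul s α (P : Subgroup R) hsP : α • s ∈ α • P)
  let Z : Subgroup (Perm Δ) := ((P : Subgroup R) ⊓ centralizer ((P : Subgroup R) : Set R)).map R.subtype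
  have hnt : Nontrivial (P : Subgroup R) := Finite.one_lt_card_iff_nontrivial.1 (by omega)
  have := P.isPGroup'.center_nontrivial
  obtain ⟨z, hz⟩ := exists_ne (1 : center (P : Subgroup R))
  have k : ∀ u v : Δ, u ≠ a → v ≠ a → ∃ n ∈ Z, n u = v := fun u v hu hv => blk_orb h (a := a) (N := Z)
    ⟨z.1.1.1, ⟨z.1.1, ⟨z.1.2, fun w hw => congrArg Subtype.val (mem_center_iff.1 z.2 ⟨w, hw⟩)⟩, rfl⟩,
      fun e => hz (Subtype.ext (Subtype.ext (Subtype.ext e)))⟩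
    (by rintro _ ⟨n, hn', rfl⟩; exact ha n hn'.1)
    (by
      rintro g hg ga _ ⟨n, hn', rfl⟩
      refine ⟨⟨_, hn.conj g hg _ n.2⟩, ⟨hP g hg ga n hn'.1 _, fun w hw => Subtype.ext ?_⟩, rfl⟩
      have h5 := congrArg Subtype.val (hn'.2 _ (hP g⁻¹ (B.inv_mem hg) (Perm.inv_eq_iff_eq.2 ga.symm) w hw
        (hn.conj _ (B.inv_mem hg) _ w.2)))
      have h6 : g⁻¹ * w.1 * g⁻¹⁻¹ * n.1 = n.1 * (g⁻¹ * w.1 * g⁻¹⁻¹) := h5
      show w.1 * (g * n.1 * g⁻¹) = g * n.1 * g⁻¹ * w.1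
      calc w.1 * (g * n.1 * g⁻¹) = g * (g⁻¹ * w.1 * g⁻¹⁻¹ * n.1) * g⁻¹ := by group
        _ = _ := by rw [h6]; group) hu hv
  obtain ⟨b, hb⟩ := fresh [a] (by simp; omega)
  have hb' : b ≠ a := by simpa using hb
  choose f hf hf' using fun v : {v : Δ // v ≠ a} => k b v.1 hb' v.2
  have h5 : Nat.card {v : Δ // v ≠ a} ≤ Nat.card Z := Nat.card_le_card_of_injective (fun v => (⟨f v, hf v⟩ : Z))
    fun u v e => Subtype.ext ((hf' u).symm.trans ((congrArg (fun w : Z => w.1 b) e).trans (hf' v)))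
  rw [Nat.card_eq_fintype_card, Fintype.card_subtype_compl, Fintype.card_subtype_eq,
    card_map_of_injective R.subtype_injective] at h5
  have h6 := eq_of_le_of_card_ge (inf_le_left : (P : Subgroup R) ⊓ centralizer ((P : Subgroup R) : Set R) ≤ P) (by omega)
  exact hxy ((h6.ge hy).2 x hx)

end Cfsg.Agent.SM.Alt.Ty
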